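import Groth.Agent.L03.ShStab.Mu
import Groth.Agent.L03.Euler.Hilb
import Groth.Agent.L00.PullStalk
import Groth.Agent.L00.StalkFunctor
import Groth.Agent.L18.AmplePull
import Groth.Agent.L21.RR.BaseChange
import Groth.Agent.L16.AffineBC.Local

/-!
# Hilbert polynomials and (semi)stability under field extension
-/

universe u

open CategoryTheory CategoryTheory.Limits AlgebraicGeometry Polynomial StabCat

namespace Groth.L03.ShStab.BC

variable {X Y : Scheme.{u}} (f : Y ⟶ X)

/-- Pullback along a flat map preserves monomorphisms. -/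
theorem mono_pullback [Flat f] {A B : X.Modules} (ι : A ⟶ B) [Mono ι] :
    Mono ((Scheme.Modules.pullback f).map ι) := by
  refine (Groth.L21.Mod.mono_iff_stalk_injective _).2 fun y => ?_
  letI := (Groth.L00.PullStalk.φ f y).toAlgebra
  haveI : Module.Flat (X.presheaf.stalk (f y)) (Y.presheaf.stalk y) := AlgebraicGeometry.Flat.stalkMap f y
  haveI : Mono ((Groth.L00.Stk.F X (f y)).map ι) := inferInstance
  have hinj : Function.Injective ((Groth.L00.Stk.F X (f y)).map ι).hom := (ModuleCat.mono_iff_injective _).1 inferInstance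
  haveI : Mono ((ModuleCat.extendScalars (Groth.L00.PullStalk.φ f y)).map ((Groth.L00.Stk.F X (f y)).map ι)) :=
    (ModuleCat.mono_iff_injective _).2 (Module.Flat.lTensor_preserves_injective_linearMap _ hinj)
  have h : Mono ((Scheme.Modules.pullback f ⋙ Groth.L00.Stk.F Y y).map ι) := by
    rw [← NatIso.naturality_2 (Groth.L00.PullStalk.stalkIso f y) ι]
    haveI : Mono (((Groth.L00.Stk.F X (f y)) ⋙ ModuleCat.extendScalars (Groth.L00.PullStalk.φ f y)).map ι) := ‹_›
    infer_instance
  exact (ModuleCat.mono_iff_injective ((Scheme.Modules.pullback f ⋙ Groth.L00.Stk.F Y y).map ι)).1 h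

/-- A faithfully flat pullback reflects zero objects. -/
theorem isZero_of_pullback [Flat f] [Surjective f] {A : X.Modules}
    (h : IsZero ((Scheme.Modules.pullback f).obj A)) : IsZero A := by
  refine (Groth.L00.Stk.isZero_iff A).2 fun x => ?_
  obtain ⟨y, rfl⟩ := f.surjective x
  letI := (Groth.L00.PullStalk.φ f y).toAlgebra
  haveI : Module.Flat (X.presheaf.stalk (f y)) (Y.presheaf.stalk y) := AlgebraicGeometry.Flat.stalkMap f y
  haveI : IsLocalHom (algebraMap (X.presheaf.stalk (f y)) (Y.presheaf.stalk y)) :=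
    inferInstanceAs (IsLocalHom (f.stalkMap y).hom)
  haveI : Module.FaithfullyFlat (X.presheaf.stalk (f y)) (Y.presheaf.stalk y) :=
    Module.FaithfullyFlat.of_flat_of_isLocalHom
  have h1 : IsZero ((ModuleCat.extendScalars (Groth.L00.PullStalk.φ f y)).obj ((Groth.L00.Stk.F X (f y)).obj A)) :=
    ((Groth.L00.Stk.isZero_iff _).1 h y).of_iso ((Groth.L00.PullStalk.stalkIso f y).app A).symm
  have h2 : Subsingleton (TensorProduct (X.presheaf.stalk (f y)) (Y.presheaf.stalk y) ((Groth.L00.Stk.F X (f y)).obj A)) :=
    ModuleCat.subsingleton_of_isZero h1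
  haveI : Subsingleton ((Groth.L00.Stk.F X (f y)).obj A) :=
    haveI := h2
    Module.FaithfullyFlat.lTensor_reflects_triviality (X.presheaf.stalk (f y)) (Y.presheaf.stalk y) _
  exact ModuleCat.isZero_of_subsingleton _

/-- A faithfully flat pullback reflects isomorphisms among monomorphisms. -/
theorem isIso_of_pullback [Flat f] [Surjective f] {A B : X.Modules} (ι : A ⟶ B) [Mono ι]
    (h : IsIso ((Scheme.Modules.pullback f).map ι)) : IsIso ι := by
  haveI := (Scheme.Modules.pullbackPushforwardAdjunction f).leftAdjoint_preservesColimits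
  have hz : IsZero (cokernel ((Scheme.Modules.pullback f).map ι)) := isZero_cokernel_of_epi _
  haveI := Preadditive.epi_of_isZero_cokernel ι
    (isZero_of_pullback f (hz.of_iso (PreservesCokernel.iso (Scheme.Modules.pullback f) ι)))
  exact isIso_of_mono_of_epi ι

variable {k : Type u} [Field k] [X.Over (Spec (CommRingCat.of k))]
  [IsProper (X ↘ Spec (CommRingCat.of k))] {K : Type u} [Field K] [Algebra k K]
  [Y.Over (Spec (CommRingCat.of K))] {L : X.Modules}
  (sq : IsPullback f (Y ↘ Spec (CommRingCat.of K)) (X ↘ Spec (CommRingCat.of k))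
    (Spec.map (CommRingCat.ofHom (algebraMap k K))))

include sq in
/-- Hilbert polynomials are invariant under field extension. -/
theorem isHilbPoly_pullback (hL : PicF.IsInvertible L) {F : X.Modules} (hF : Coh.IsCoh F) {P : ℚ[X]}
    (hP : _root_.ShStab.IsHilbPoly k X L F P) :
    _root_.ShStab.IsHilbPoly K Y ((Scheme.Modules.pullback f).obj L) ((Scheme.Modules.pullback f).obj F) P := by
  intro m
  haveI : IsLocallyNoetherian X := Basic.locallyNoetherian (k := k)
  haveI : IsProper (Y ↘ Spec (CommRingCat.of K)) :=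
    MorphismProperty.of_isPullback (P := @IsProper) sq inferInstance
  let e : CohB1.tensorMod ((Scheme.Modules.pullback f).obj F)
      (CohB1.tensorPow ((Scheme.Modules.pullback f).obj L) m) ≅
      (Scheme.Modules.pullback f).obj (CohB1.tensorMod F (CohB1.tensorPow L m)) :=
    Groth.L00.Tensor.tensorIso (Iso.refl _) (Groth.L18.Ample.pullPow f L m).symm ≪≫
      Groth.L29.DC.PullTensor.pullTensor f F (CohB1.tensorPow L m)
  have hc : Coh.IsCoh (CohB1.tensorMod F (CohB1.tensorPow L m)) :=
    Groth.L03.Euler.isCoh_tensor (Groth.L18.Ample.isInvertible_tensorPow hL m) hF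
  have h1 := Groth.L21.RR.euler_pullback f sq hc
  have h2 := Groth.L03.Euler.euler_iso (k := K) e
  change (Curv2.euler K Y (CohB1.tensorMod _ (CohB1.tensorPow _ m)) : ℚ) = _
  rw [h2, h1]
  exact hP m

end Groth.L03.ShStab.BC

namespace Groth.L03.ShStab.BC

variable {X : Scheme.{u}} {k : Type u} [Field k] [X.Over (Spec (CommRingCat.of k))]

theorem flat_specMap (K : Type u) [Field K] [Algebra k K] :
    Flat (Spec.map (CommRingCat.ofHom (algebraMap k K))) :=
  HasRingHomProperty.Spec_iff.2 (RingHom.flat_algebraMap_iff.2 inferInstance)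

theorem surjective_specMap (K : Type u) [Field K] [Algebra k K] :
    Surjective (Spec.map (CommRingCat.ofHom (algebraMap k K))) :=
  ⟨fun x => ⟨(⟨⊥, Ideal.isPrime_bot⟩ : PrimeSpectrum K), Subsingleton.elim (α := PrimeSpectrum k) _ _⟩⟩

/-- Semistability descends along field extensions, for pure modules. -/
theorem isSemistable_of_bc [IsProper (X ↘ Spec (CommRingCat.of k))] {L E : X.Modules}
    (hL : PicF.IsInvertible L) {d : ℕ} (hE : Coh.IsCoh E) (hp : _root_.ShStab.IsPure X E d) {K : Type u}
    [Field K] [Algebra k K] {Y : Scheme.{u}} (f : Y ⟶ X) [Y.Over (Spec (CommRingCat.of K))]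
    (sq : IsPullback f (Y ↘ Spec (CommRingCat.of K)) (X ↘ Spec (CommRingCat.of k))
      (Spec.map (CommRingCat.ofHom (algebraMap k K))))
    (h : _root_.ShStab.IsSemistable K Y ((Scheme.Modules.pullback f).obj L)
      ((Scheme.Modules.pullback f).obj E) d) : _root_.ShStab.IsSemistable k X L E d := by
  haveI := flat_specMap (k := k) K
  haveI := surjective_specMap (k := k) K
  haveI : Flat f := MorphismProperty.of_isPullback (P := @Flat) sq.flip inferInstance
  haveI : Surjective f := MorphismProperty.of_isPullback (P := @Surjective) sq.flip inferInstance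
  haveI : IsLocallyNoetherian X := Basic.locallyNoetherian (k := k)
  haveI : IsProper (Y ↘ Spec (CommRingCat.of K)) :=
    MorphismProperty.of_isPullback (P := @IsProper) sq inferInstance
  haveI : IsLocallyNoetherian Y := Basic.locallyNoetherian (k := K)
  refine ⟨hE, fun h0 => h.2.1 ((Scheme.Modules.pullback f).map_isZero h0), hp,
    fun F ι hι hF hF0 hi pF pE hpF hpE => ?_⟩
  haveI := hι
  haveI := mono_pullback f ι
  exact h.2.2.2 _ ((Scheme.Modules.pullback f).map ι) inferInstance
    (Groth.L16.AffineBC.isCoh_pullback f hF) (fun h0 => hF0 (isZero_of_pullback f h0))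
    (fun hi' => hi (isIso_of_pullback f ι hi')) pF pE
    (isHilbPoly_pullback f sq hL hF hpF) (isHilbPoly_pullback f sq hL hE hpE)

end Groth.L03.ShStab.BC
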