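import Groth.Agent.L21.RR.Twist
import Groth.Agent.L17.Approx.Pull
import Groth.Agent.L29.DCoh.RelBC
import Mathlib.RingTheory.Flat.Basic

/-!
# Flatness over the base is preserved by twisting; everything is flat over a field
-/

set_option autoImplicit false
set_option linter.style.haveILetI false

universe u

open CategoryTheory CategoryTheory.Limits AlgebraicGeometry TopologicalSpace

noncomputable section

namespace Groth.L03.ShStab.TwistFlat

/-- Twisting by an invertible module preserves flatness over the base. -/
theorem isFlatOver_tensor {X S : Scheme.{u}} (f : X ⟶ S) {M N : X.Modules} (hN : PicF.IsInvertible N)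
    (h : FlatMod.IsFlatOver f M) : FlatMod.IsFlatOver f (CohB1.tensorMod M N) := by
  refine Groth.L29.DC.RelBC.isFlatOver_of_iso f (Groth.L00.Tensor.tensorComm N M) fun x => ?_
  obtain ⟨e, he⟩ := Groth.L21.RR.exists_frame_stalk hN x
  let ε := Groth.L21.RR.tensorStalkEquiv M he
  letI := FlatMod.moduleStalkOver f (CohB1.tensorMod N M) x
  letI := FlatMod.moduleStalkOver f M x
  haveI : Module.Flat (S.presheaf.stalk (f.base x)) (M.presheaf.stalk x) := h x
  exact Module.Flat.of_linearEquiv
    ({ ε.toAddEquiv with map_smul' := fun a z => ε.map_smul (f.stalkMap x a) z } :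
      (CohB1.tensorMod N M).presheaf.stalk x ≃ₗ[S.presheaf.stalk (f.base x)] M.presheaf.stalk x)

/-- Over a field every quasi-coherent module is flat. -/
theorem isFlatOver_field {k : Type u} [Field k] {X : Scheme.{u}} (f : X ⟶ Spec (CommRingCat.of k))
    (M : X.Modules) [Coh.IsQCoh M] : FlatMod.IsFlatOver f M :=
  Groth.L17.Approx.isFlatOver_of_flat_sec f M (fun U : X.affineOpens => U.1) (fun U => U.2)
    (fun x => by
      obtain ⟨_, ⟨V, hV, rfl⟩, hxV, -⟩ :=
        X.isBasis_affineOpens.exists_subset_of_mem_open (Set.mem_univ x) isOpen_univ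
      exact ⟨⟨V, hV⟩, hxV⟩)
    fun _ => inferInstance

end Groth.L03.ShStab.TwistFlat
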