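import Groth.Agent.L03.ShStab.Schur

/-!
# Truncated comparisons
-/

universe u

open CategoryTheory CategoryTheory.Limits AlgebraicGeometry Polynomial StabCat
open Groth.L03.Euler

namespace Groth.L03.ShStab.Trunc

open Groth.L03.ShStab.Basic

variable {k : Type u} [Field k] {X : Scheme.{u}} [X.Over (Spec (CommRingCat.of k))]
  [IsProper (X ↘ Spec (CommRingCat.of k))] {L : X.Modules} {d : ℕ}

theorem redLE_topPart {P Q : ℚ[X]} (hP : P.natDegree ≤ d) (hQ : Q.natDegree ≤ d) (ℓ : ℕ)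
    (h : RedLE d P Q) : RedLE d (topPart ℓ d P) (topPart ℓ d Q) := by
  rw [RedLE, PolyOrd.alpha_topPart, PolyOrd.alpha_topPart, PolyOrd.polyLE_iff,
    ← PolyOrd.topPart_smul, ← PolyOrd.topPart_smul, ← PolyOrd.topPart_sub]
  exact PolyOrd.topPart_nonneg ℓ (PolyOrd.natDegree_smul_sub_le hQ hP) (PolyOrd.polyLE_iff.1 h)

theorem isEllSemistable_of_isSemistable (hL : CohB1.IsAmple L) {E : X.Modules} (ℓ : ℕ)
    (hE : _root_.ShStab.IsSemistable k X L E d) : _root_.ShStab.IsEllSemistable k X L E d ℓ := by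
  refine ⟨hE.1, hE.2.1, hE.2.2.1, fun F ι hι hF pF pE hpF hpE h1 h2 => ?_⟩
  haveI := hι
  have dE := dim_le_of_isPure hE.1 hE.2.2.1
  have h0 : ¬ IsZero F := fun h => by
    rw [isHilbPoly_unique hpF (isHilbPoly_zero hL.1 h)] at h1; simp [alpha] at h1
  have hi : ¬ IsIso ι := fun hi => by
    rw [isHilbPoly_unique (isHilbPoly_iso (asIso ι) hpF) hpE] at h2
    exact lt_irrefl _ h2
  exact redLE_topPart (natDegree_le hL.1 hF (dim_sub_le ι dE) hpF) (natDegree_le hL.1 hE.1 dE hpE) ℓ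
    (hE.2.2.2 F ι hι hF h0 hi pF pE hpF hpE)

theorem isEllStable_self_of_isStable (hL : CohB1.IsAmple L) {E : X.Modules}
    (hE : _root_.ShStab.IsStable k X L E d) : _root_.ShStab.IsEllStable k X L E d d := by
  refine ⟨hE.1, hE.2.1, hE.2.2.1, fun F ι hι hF pF pE hpF hpE h1 h2 => ?_⟩
  haveI := hι
  have dE := dim_le_of_isPure hE.1 hE.2.2.1
  have h0 : ¬ IsZero F := fun h => by
    rw [isHilbPoly_unique hpF (isHilbPoly_zero hL.1 h)] at h1; simp [alpha] at h1
  have hi : ¬ IsIso ι := fun hi => by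
    rw [isHilbPoly_unique (isHilbPoly_iso (asIso ι) hpF) hpE] at h2
    exact lt_irrefl _ h2
  rw [PolyOrd.topPart_self (natDegree_le hL.1 hF (dim_sub_le ι dE) hpF),
    PolyOrd.topPart_self (natDegree_le hL.1 hE.1 dE hpE)]
  exact hE.2.2.2 F ι hι hF h0 hi pF pE hpF hpE

/-- The remaining case: a submodule of full multiplicity. -/
theorem redLT_of_alpha_eq (hL : CohB1.IsAmple L) {E F : X.Modules} (hE : Coh.IsCoh E)
    (hp : _root_.ShStab.IsPure X E d) (ι : F ⟶ E) [Mono ι] (hF : Coh.IsCoh F) (hi : ¬ IsIso ι)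
    (h0 : ¬ IsZero F) {pF pE : ℚ[X]} (hpF : _root_.ShStab.IsHilbPoly k X L F pF)
    (hpE : _root_.ShStab.IsHilbPoly k X L E pE) :
    (alpha d pF = alpha d pE ∧ RedLT d pF pE) ∨ (0 < alpha d pF ∧ alpha d pF < alpha d pE) := by
  have dE := dim_le_of_isPure hE hp
  obtain ⟨-, -, hC⟩ := coh_parts k hF hE ι
  have dC := dim_quot_le (cokernel.π ι) dE
  obtain ⟨pQ, hpQ⟩ := exists_hilb (k := k) hL.1 hC dC
  have hsum := hilb_cokernel hL hF hE ι hpF hpE hpQ
  have hαF := alpha_pos_sub hL hp ι hF h0 hpF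
  have hαQ := alpha_nonneg hL hC dC hpQ
  rcases hαQ.eq_or_lt with hα | hα
  · have hαe : alpha d pF = alpha d pE := by rw [hsum, PolyOrd.alpha_add, ← hα, add_zero]
    refine Or.inl ⟨hαe, ?_⟩
    rw [RedLT, ← hαe]
    refine PolyOrd.polyLT_smul hαF (PolyOrd.polyLT_iff.2 ?_)
    rw [hsum, add_sub_cancel_left]
    refine leadingCoeff_pos hL hC (fun h => ?_) dC hpQ
    haveI := Preadditive.epi_of_isZero_cokernel ι h
    exact hi (isIso_of_mono_of_epi ι)
  · exact Or.inr ⟨hαF, by rw [hsum, PolyOrd.alpha_add]; linarith⟩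

theorem isSemistable_of_isEllSemistable_self (hL : CohB1.IsAmple L) {E : X.Modules}
    (hE : _root_.ShStab.IsEllSemistable k X L E d d) : _root_.ShStab.IsSemistable k X L E d := by
  refine ⟨hE.1, hE.2.1, hE.2.2.1, fun F ι hι hF h0 hi pF pE hpF hpE => ?_⟩
  haveI := hι
  have dE := dim_le_of_isPure hE.1 hE.2.2.1
  rcases redLT_of_alpha_eq hL hE.1 hE.2.2.1 ι hF hi h0 hpF hpE with ⟨-, h⟩ | ⟨h1, h2⟩
  · exact PolyOrd.polyLE_of_lt h
  · have := hE.2.2.2 F ι hι hF pF pE hpF hpE h1 h2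
    rwa [PolyOrd.topPart_self (natDegree_le hL.1 hF (dim_sub_le ι dE) hpF),
      PolyOrd.topPart_self (natDegree_le hL.1 hE.1 dE hpE)] at this

theorem isStable_of_isEllStable_self (hL : CohB1.IsAmple L) {E : X.Modules}
    (hE : _root_.ShStab.IsEllStable k X L E d d) : _root_.ShStab.IsStable k X L E d := by
  refine ⟨hE.1, hE.2.1, hE.2.2.1, fun F ι hι hF h0 hi pF pE hpF hpE => ?_⟩
  haveI := hι
  have dE := dim_le_of_isPure hE.1 hE.2.2.1
  rcases redLT_of_alpha_eq hL hE.1 hE.2.2.1 ι hF hi h0 hpF hpE with ⟨-, h⟩ | ⟨h1, h2⟩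
  · exact h
  · have := hE.2.2.2 F ι hι hF pF pE hpF hpE h1 h2
    rwa [PolyOrd.topPart_self (natDegree_le hL.1 hF (dim_sub_le ι dE) hpF),
      PolyOrd.topPart_self (natDegree_le hL.1 hE.1 dE hpE)] at this

theorem hatSlope_le_of_redLE {P Q : ℚ[X]} (hP : P.natDegree ≤ d) (hQ : Q.natDegree ≤ d)
    (hd : 1 ≤ d) (hαP : 0 < alpha d P) (hαQ : 0 < alpha d Q) (h : RedLE d P Q) :
    hatSlope d P ≤ hatSlope d Q := by
  obtain ⟨d, rfl⟩ : ∃ e, d = e + 1 := ⟨d - 1, by omega⟩
  rw [RedLE, PolyOrd.polyLE_iff] at h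
  set D := alpha (d + 1) P • Q - alpha (d + 1) Q • P with hD
  have hdeg : D.natDegree ≤ d + 1 := PolyOrd.natDegree_smul_sub_le hQ hP
  have htop : D.coeff (d + 1) = 0 := by simp [hD, alpha]; ring
  have hlt : D.natDegree ≤ d := by
    refine natDegree_le_iff_coeff_eq_zero.2 fun i hi => ?_
    rcases eq_or_lt_of_le (Nat.succ_le_of_lt hi) with h' | h'
    · subst h'; exact htop
    · exact coeff_eq_zero_of_natDegree_lt (lt_of_le_of_lt hdeg h')
  have hc : 0 ≤ D.coeff d := by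
    simpa using PolyOrd.coeff_le_of_polyLE (P := 0) (Q := D) (by simp) hlt
      (PolyOrd.polyLE_iff.2 (by simpa using h))
  simp only [hD, coeff_sub, coeff_smul, smul_eq_mul, sub_nonneg] at hc
  rw [hatSlope, hatSlope, Nat.add_sub_cancel, div_le_div_iff₀ hαP hαQ]
  simp only [alpha] at hc ⊢
  have h0 : (0 : ℚ) ≤ (d.factorial : ℚ) := Nat.cast_nonneg _
  nlinarith

theorem isMuSemistable_of_isSemistable (hL : CohB1.IsAmple L) (hd : 1 ≤ d) {E : X.Modules}
    (hE : _root_.ShStab.IsSemistable k X L E d) : _root_.ShStab.IsMuSemistable k X L E d := by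
  refine ⟨hE.1, hE.2.1, hE.2.2.1 E (𝟙 E) inferInstance hE.1 hE.2.1, fun F ι hι hF => ?_,
    fun F ι hι hF pF pE hpF hpE h1 h2 => ?_⟩
  · by_cases h0 : IsZero F
    · rw [topologicalKrullDim_of_empty ((Groth.L21.Mod.isZero_iff_support_eq_empty F).1 h0), WithBot.bot_add]
      exact WithBot.bot_ne_natCast d
    · rw [hE.2.2.1 F ι hι hF h0]
      intro h
      have : d + 1 = d := by exact_mod_cast h
      omega
  · haveI := hι
    have dE := dim_le_of_isPure hE.1 hE.2.2.1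
    have h0 : ¬ IsZero F := fun h => by
      rw [isHilbPoly_unique hpF (isHilbPoly_zero hL.1 h)] at h1; simp [alpha] at h1
    have hi : ¬ IsIso ι := fun hi => by
      rw [isHilbPoly_unique (isHilbPoly_iso (asIso ι) hpF) hpE] at h2
      exact lt_irrefl _ h2
    exact hatSlope_le_of_redLE (natDegree_le hL.1 hF (dim_sub_le ι dE) hpF)
      (natDegree_le hL.1 hE.1 dE hpE) hd h1 (h1.trans h2) (hE.2.2.2 F ι hι hF h0 hi pF pE hpF hpE)

end Groth.L03.ShStab.Trunc

namespace Groth.L03.Euler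

open AlgebraicGeometry in
theorem add_one_le_of_lt {t : WithBot ℕ∞} {e : ℕ} (h : t < e) : t + 1 ≤ e := by
  induction t using WithBot.recBotCoe with
  | bot => rw [WithBot.bot_add]; exact bot_le
  | coe t =>
    change (t : WithBot ℕ∞) < ((e : ℕ∞) : WithBot ℕ∞) at h
    rw [WithBot.coe_lt_coe] at h
    change ((t + 1 : ℕ∞) : WithBot ℕ∞) ≤ ((e : ℕ∞) : WithBot ℕ∞)
    exact WithBot.coe_le_coe.2 (Order.add_one_le_of_lt h)

open AlgebraicGeometry in
/-- A scheme proper over a field has finite dimension. -/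
theorem exists_dim_bound (k : Type u) [Field k] (X : Scheme.{u})
    [X.Over (Spec (CommRingCat.of k))] [IsProper (X ↘ Spec (CommRingCat.of k))] :
    ∃ e : ℕ, topologicalKrullDim X ≤ e := by
  haveI : IsLocallyNoetherian X := LocallyOfFiniteType.isLocallyNoetherian (X ↘ Spec (CommRingCat.of k))
  haveI : CompactSpace X := QuasiCompact.compactSpace_of_compactSpace (X ↘ Spec (CommRingCat.of k))
  haveI : IsNoetherian X := {}
  obtain ⟨S, hSf, hSc, hSi, hU⟩ :=
    TopologicalSpace.NoetherianSpace.exists_finite_set_isClosed_irreducible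
      (isClosed_univ (X := X))
  classical
  have hbound : ∀ Z ∈ S, ∃ e : ℕ, topologicalKrullDim Z ≤ (e : WithBot ℕ∞) := by
    intro Z hZ
    obtain ⟨y, hy⟩ := QuasiSober.sober (hSi Z hZ) (hSc Z hZ)
    obtain ⟨n, hn, -⟩ := Groth.L22.SchemeDim.exists_dim_closure_eq_trdeg k X y
    exact ⟨n, by rw [← hy.def, hn]⟩
  choose! e he using hbound
  refine ⟨hSf.toFinset.sup e, ?_⟩
  by_contra hgt
  have h1 : ((hSf.toFinset.sup e + 1 : ℕ) : WithBot ℕ∞) ≤ topologicalKrullDim (Set.univ : Set X) := by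
    rw [(Homeomorph.Set.univ X).isHomeomorph.topologicalKrullDim_eq]
    generalize topologicalKrullDim X = t at hgt
    induction t using WithBot.recBotCoe with
    | bot => exact absurd bot_le hgt
    | coe t =>
      rw [show ((hSf.toFinset.sup e : ℕ) : WithBot ℕ∞) = (((hSf.toFinset.sup e : ℕ) : ℕ∞) : WithBot ℕ∞) from rfl,
        WithBot.coe_le_coe, not_le] at hgt
      refine WithBot.coe_le_coe.2 ?_
      push_cast
      exact Order.add_one_le_of_lt hgt
  obtain ⟨y, -, hy⟩ := exists_point_dim_closure_ge isClosed_univ h1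
  obtain ⟨Z, hZ, hyZ⟩ := (hU ▸ Set.mem_univ y : y ∈ ⋃₀ S)
  have h2 := hy.trans ((topologicalKrullDim_set_mono
    (closure_minimal (Set.singleton_subset_iff.2 hyZ) (hSc Z hZ))).trans (he Z hZ))
  have h3 : hSf.toFinset.sup e + 1 ≤ e Z := by exact_mod_cast h2
  have h4 := Finset.le_sup (f := e) (hSf.mem_toFinset.2 hZ)
  omega

end Groth.L03.Euler
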