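import Groth.Agent.L03.ShStab.Ell

/-!
# Slope semistability of pure modules
-/

universe u

open CategoryTheory CategoryTheory.Limits AlgebraicGeometry Polynomial StabCat
open Groth.L03.Euler

namespace Groth.L03.ShStab.Mu

open Groth.L03.ShStab.Basic

variable {k : Type u} [Field k] {X : Scheme.{u}} [X.Over (Spec (CommRingCat.of k))]
  [IsProper (X ↘ Spec (CommRingCat.of k))] {L : X.Modules} {d : ℕ}

/-- A nonzero coherent submodule of a pure slope semistable module has smaller slope. -/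
theorem hatSlope_le_of_mono (hL : CohB1.IsAmple L) (hd : 1 ≤ d) {E F : X.Modules}
    (hp : _root_.ShStab.IsPure X E d) (hE : _root_.ShStab.IsMuSemistable k X L E d) (ι : F ⟶ E) [Mono ι]
    (hF : Coh.IsCoh F) (h0 : ¬ IsZero F) {pF pE : ℚ[X]}
    (hpF : _root_.ShStab.IsHilbPoly k X L F pF) (hpE : _root_.ShStab.IsHilbPoly k X L E pE) :
    hatSlope d pF ≤ hatSlope d pE := by
  have hαF := alpha_pos_sub hL hp ι hF h0 hpF
  have hαE := alpha_pos_sub hL hp (𝟙 E) hE.1 hE.2.1 hpE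
  have dE := dim_le_of_isPure hE.1 hp
  obtain ⟨-, -, hC⟩ := coh_parts k hF hE.1 ι
  obtain ⟨pQ, hpQ⟩ := exists_hilb (k := k) hL.1 hC (dim_quot_le (cokernel.π ι) dE)
  have hsum := hilb_cokernel hL hF hE.1 ι hpF hpE hpQ
  rcases (alpha_nonneg hL hC (dim_quot_le (cokernel.π ι) dE) hpQ).eq_or_lt with h | h
  · have hle : PolyLE pF pE := by
      rw [PolyOrd.polyLE_iff, hsum, add_sub_cancel_left]
      exact nonneg_leadingCoeff hL hC (dim_quot_le (cokernel.π ι) dE) hpQ
    have he : alpha d pF = alpha d pE := by rw [hsum, PolyOrd.alpha_add, ← h, add_zero]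
    refine (PolyOrd.redLE_topPart_one hd hαF hαE).1 ?_
    refine Trunc.redLE_topPart (natDegree_le hL.1 hF (dim_sub_le ι dE) hpF)
      (natDegree_le hL.1 hE.1 dE hpE) 1 ?_
    rw [RedLE, he]
    exact PolyOrd.polyLE_smul (he ▸ hαF.le) hle
  · exact hE.2.2.2.2 F ι inferInstance hF pF pE hpF hpE hαF
      (by rw [hsum, PolyOrd.alpha_add]; linarith)

/-- The rest of a decomposition of a semistable module has larger slope. -/
theorem hatSlope_rest_ge (hL : CohB1.IsAmple L) (hd : 1 ≤ d) {E K : X.Modules}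
    (hp : _root_.ShStab.IsPure X E d) (hE : _root_.ShStab.IsMuSemistable k X L E d) (ι : K ⟶ E) [Mono ι]
    (hK : Coh.IsCoh K) {pK pE pI : ℚ[X]}
    (hpK : _root_.ShStab.IsHilbPoly k X L K pK) (hpE : _root_.ShStab.IsHilbPoly k X L E pE)
    (hI : 0 < alpha d pI) (hsum : pE = pK + pI) : hatSlope d pE ≤ hatSlope d pI := by
  by_cases h0 : IsZero K
  · rw [hsum, isHilbPoly_unique hpK (isHilbPoly_zero hL.1 h0), zero_add]
  have h1 := hatSlope_le_of_mono hL hd hp hE ι hK h0 hpK hpE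
  have hαK := alpha_pos_sub hL hp ι hK h0 hpK
  subst hsum
  simp only [hatSlope, PolyOrd.alpha_add] at h1 ⊢
  rw [div_le_div_iff₀ hαK (by positivity)] at h1
  rw [div_le_div_iff₀ (by positivity) hI]
  nlinarith

/-- An extension of pure modules is pure. -/
theorem isPure_ext {S : ShortComplex X.Modules} (hS : S.ShortExact) (h2 : Coh.IsCoh S.X₂)
    (h3 : Coh.IsCoh S.X₃) (hp1 : _root_.ShStab.IsPure X S.X₁ d) (hp3 : _root_.ShStab.IsPure X S.X₃ d)
    (hd : topologicalKrullDim (CohB1.support S.X₂) ≤ d) (k : Type u) [Field k]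
    [X.Over (Spec (CommRingCat.of k))] [IsProper (X ↘ Spec (CommRingCat.of k))] :
    _root_.ShStab.IsPure X S.X₂ d := by
  intro F ι hι hF h0
  haveI := hι
  refine le_antisymm (dim_sub_le ι hd) ?_
  obtain ⟨hK, hI, -⟩ := coh_parts k hF h3 (ι ≫ S.g)
  by_cases hK0 : IsZero (kernel (ι ≫ S.g))
  · haveI : Mono (ι ≫ S.g) := Preadditive.mono_of_isZero_kernel _ hK0
    exact (hp3 F (ι ≫ S.g) inferInstance hF h0).ge
  · haveI := hS.mono_f
    let l : kernel (ι ≫ S.g) ⟶ S.X₁ :=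
      hS.exact.lift (kernel.ι (ι ≫ S.g) ≫ ι) (by rw [Category.assoc, kernel.condition])
    haveI : Mono (l ≫ S.f) := by
      rw [ShortComplex.Exact.lift_f]; exact mono_comp _ _
    haveI : Mono l := mono_of_mono l S.f
    exact (hp1 _ l inferInstance hK hK0).ge.trans
      (topologicalKrullDim_set_mono (Groth.L21.Mod.support_mono (kernel.ι (ι ≫ S.g))))

end Groth.L03.ShStab.Mu

namespace Groth.L03.ShStab.Mu

open Groth.L03.ShStab.Basic

variable {k : Type u} [Field k] {X : Scheme.{u}} [X.Over (Spec (CommRingCat.of k))]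
  [IsProper (X ↘ Spec (CommRingCat.of k))] {L : X.Modules} {d : ℕ}

/-- A nonzero endomorphism of a pure slope stable module is an isomorphism. -/
theorem isIso_endo (hL : CohB1.IsAmple L) (hd : 1 ≤ d) {E : X.Modules}
    (hp : _root_.ShStab.IsPure X E d) (hE : _root_.ShStab.IsMuStable k X L E d) {φ : E ⟶ E} (hφ : φ ≠ 0) :
    IsIso φ := by
  have hss : _root_.ShStab.IsMuSemistable k X L E d :=
    ⟨hE.1, hE.2.1, hE.2.2.1, hE.2.2.2.1,
      fun F ι hι hF pF pE hpF hpE h1 h2 => (hE.2.2.2.2 F ι hι hF pF pE hpF hpE h1 h2).le⟩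
  have hd' := dim_le_of_isPure hE.1 hp
  obtain ⟨hK, hI, hC⟩ := coh_parts k hE.1 hE.1 φ
  obtain ⟨pE, hpE⟩ := exists_hilb (k := k) hL.1 hE.1 hd'
  obtain ⟨pK, hpK⟩ := exists_hilb (k := k) hL.1 hK (dim_sub_le (kernel.ι φ) hd')
  obtain ⟨pI, hpI⟩ := exists_hilb (k := k) hL.1 hI (dim_sub_le (Abelian.image.ι φ) hd')
  have hI0 : ¬ IsZero (Abelian.image φ) := fun h =>
    hφ (by rw [← Abelian.image.fac φ, h.eq_of_tgt (Abelian.factorThruImage φ) 0, Limits.zero_comp])
  have hsum := hilb_kernel_image hL hE.1 hE.1 φ hpE hpK hpI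
  have hαI := alpha_pos_sub hL hp (Abelian.image.ι φ) hI hI0 hpI
  haveI : Mono φ := by
    by_contra hm
    have hK0 : ¬ IsZero (kernel φ) := fun h => hm (Preadditive.mono_of_isZero_kernel φ h)
    have hαK := alpha_pos_sub hL hp (kernel.ι φ) hK hK0 hpK
    have h1 := hE.2.2.2.2 _ (kernel.ι φ) inferInstance hK pK pE hpK hpE hαK
      (by rw [hsum, PolyOrd.alpha_add]; linarith)
    have h2 := hatSlope_le_of_mono hL hd hp hss (Abelian.image.ι φ) hI hI0 hpI hpE
    subst hsum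
    simp only [hatSlope, PolyOrd.alpha_add] at h1 h2
    rw [div_lt_div_iff₀ hαK (by positivity)] at h1
    rw [div_le_div_iff₀ hαI (by positivity)] at h2
    nlinarith
  obtain ⟨pC, hpC⟩ := exists_hilb (k := k) hL.1 hC (dim_quot_le (cokernel.π φ) hd')
  have h3 := hilb_cokernel hL hE.1 hE.1 φ hpE hpE hpC
  rw [left_eq_add] at h3
  haveI : Epi φ := Preadditive.epi_of_isZero_cokernel φ
    (isZero_of_hilb_eq_zero hL hC (dim_quot_le (cokernel.π φ) hd') (h3 ▸ hpC))
  exact isIso_of_mono_of_epi φ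

end Groth.L03.ShStab.Mu
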