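import Groth.Agent.L15.Ref.ExtDiv
import Groth.Agent.L04.FinLocFreeHom

/-!
# A rank one endomorphism of a vector bundle of higher rank is not a homothety
-/

set_option autoImplicit false

universe u

open CategoryTheory CategoryTheory.Limits AlgebraicGeometry TopologicalSpace Opposite

namespace Groth.L03.ShStab.RankOneEndo

variable {X : Scheme.{u}}

theorem exists_basis {E : X.Modules} {r : ℕ} (hE : FlatMod.IsFinLocFreeOfRank r E) (x : X) :
    Nonempty (Module.Basis (Fin r) (X.presheaf.stalk x) (E.presheaf.stalk x)) := by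
  obtain ⟨U, hx, ⟨i⟩⟩ := hE x
  exact Groth.L15.Ref.exists_basis_stalk_of_iso U.ι i ⟨x, hx⟩

theorem stalkMapₗ_smulAb {E : X.Modules} (φ : E ⟶ E) (c : Coh.Γtop X)
    (h : (SheafOfModules.toSheaf X.ringCatSheaf).map φ = Coh.smulAb E c) (x : X) :
    RefHull.stalkMapₗ φ x =
      (X.presheaf.germ ⊤ x trivial (c : Γ(X, ⊤))) • (LinearMap.id : E.presheaf.stalk x →ₗ[X.presheaf.stalk x] _) := by
  refine LinearMap.ext fun v => ?_
  obtain ⟨U, hx, m, rfl⟩ := TopCat.Presheaf.exists_germ_eq (x := x) E.presheaf v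
  have h1 : φ.app U m = (X.presheaf.map (homOfLE (le_top : U ≤ ⊤)).op (c : Γ(X, ⊤))) • m :=
    (congrArg (fun z => z.hom.app (op U) m) h).trans rfl
  rw [RefHull.stalkMapₗ_germ, h1, Groth.L20.ModStalk.germ_smul E hx, LinearMap.smul_apply, LinearMap.id_apply]
  congr 1
  exact TopCat.Presheaf.germ_res_apply X.presheaf (homOfLE le_top) x hx _

theorem not_homothety [IsIntegral X] [IsLocallyNoetherian X] {E : X.Modules} {r : ℕ} (hr : 1 < r)
    (hE : FlatMod.IsFinLocFreeOfRank r E) {s : Coh.structureModule X ⟶ E} (hs : s ≠ 0)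
    {t : E ⟶ Coh.structureModule X} (ht : t ≠ 0) (c : Coh.Γtop X) :
    (SheafOfModules.toSheaf X.ringCatSheaf).map (t ≫ s) ≠ Coh.smulAb E c := by
  intro h
  haveI hq : Coh.IsQCoh E := Groth.L04.FinLocFreeHom.isQCoh_of_finLocFree fun x => by
    obtain ⟨U, hU, e⟩ := hE x; exact ⟨U, r, hU, e⟩
  haveI : Coh.IsQCoh (Coh.structureModule X) := Groth.L15.Ref.isQCoh_structureModule
  have htfE : ∀ x : X, Module.IsTorsionFree (X.presheaf.stalk x) (E.presheaf.stalk x) := fun x => by
    obtain ⟨b⟩ := exists_basis hE x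
    exact b.repr.injective.moduleIsTorsionFree _ fun a v => map_smul _ a v
  have htfO : ∀ x : X, Module.IsTorsionFree (X.presheaf.stalk x) ((Coh.structureModule X).presheaf.stalk x) :=
    fun x => (Groth.L15.Ref.strE x).symm.injective.moduleIsTorsionFree _ fun a v => map_smul _ a v
  obtain ⟨η, hη⟩ : ∃ η : X, η = genericPoint ↥X := ⟨_, rfl⟩
  subst hη
  set η := genericPoint ↥X
  set sη := RefHull.stalkMapₗ s η
  set tη := RefHull.stalkMapₗ t η
  have hzero : ∀ {A B : X.Modules} (v : A.presheaf.stalk η), RefHull.stalkMapₗ (0 : A ⟶ B) η v = 0 := by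
    intro A B v
    obtain ⟨U, hU, m, rfl⟩ := TopCat.Presheaf.exists_germ_eq (x := η) A.presheaf v
    rw [RefHull.stalkMapₗ_germ]
    exact map_zero _
  have hs' : sη ≠ 0 := fun h0 => hs (Groth.L15.Ref.hom_ext_eta htfE (LinearMap.ext fun v => by
    rw [hzero]; exact LinearMap.congr_fun h0 v))
  have ht' : tη ≠ 0 := fun h0 => ht (Groth.L15.Ref.hom_ext_eta htfO (LinearMap.ext fun v => by
    rw [hzero]; exact LinearMap.congr_fun h0 v))
  have hcomp : sη.comp tη = (X.presheaf.germ ⊤ η trivial (c : Γ(X, ⊤))) • LinearMap.id := by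
    rw [← stalkMapₗ_smulAb (t ≫ s) c h, Groth.L15.Ref.stalkMapₗ_comp]
  obtain ⟨b⟩ := exists_basis hE η
  by_cases hc : (X.presheaf.germ ⊤ η trivial (c : Γ(X, ⊤))) = 0
  · rw [hc, zero_smul] at hcomp
    refine ht' (LinearMap.ext fun v => ?_)
    by_contra hv
    refine hs' (LinearMap.ext fun w => ?_)
    obtain ⟨w', rfl⟩ := (Groth.L15.Ref.strE η).surjective w
    obtain ⟨a, ha⟩ := (Groth.L15.Ref.strE η).surjective (tη v)
    have ha0 : a ≠ 0 := fun h0 => hv (by rw [← ha, h0, map_zero]; rfl)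
    have ha1 : sη (Groth.L15.Ref.strE η a) = 0 := by
      rw [ha]; exact LinearMap.congr_fun hcomp v
    have e : ∀ a : X.presheaf.stalk η, Groth.L15.Ref.strE η a = a • Groth.L15.Ref.strE η 1 := fun a => by
      rw [← map_smul, smul_eq_mul, mul_one]
    rw [e a, map_smul] at ha1
    haveI := htfE η
    rw [e w', map_smul, (smul_eq_zero.1 ha1).resolve_left ha0, smul_zero]
    rfl
  · have hinj : Function.Injective tη := fun v w hvw => by
      have h1 := congrArg sη hvw
      rw [← LinearMap.comp_apply, ← LinearMap.comp_apply, hcomp] at h1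
      haveI := htfE η
      exact smul_right_injective _ hc h1
    let f := ((Groth.L15.Ref.strE η).symm.toLinearMap.comp tη).comp b.equivFun.symm.toLinearMap
    have hf : Function.Injective f :=
      (Groth.L15.Ref.strE η).symm.injective.comp (hinj.comp b.equivFun.symm.injective)
    have h1 := LinearMap.finrank_le_finrank_of_injective hf
    rw [Module.finrank_fin_fun, Module.finrank_self] at h1
    omega

end Groth.L03.ShStab.RankOneEndo
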