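import Groth.Agent.L03.ShStab.Rank2Local
import Groth.Agent.L03.ShStab.RankOneEndo
import Groth.Agent.L03.RefNormal
import Groth.Agent.L03.RefRegSch

/-!
# The line bundle killed by a degenerate endomorphism of a bundle of rank two
-/

set_option autoImplicit false
set_option backward.isDefEq.respectTransparency false

universe u

open CategoryTheory CategoryTheory.Limits AlgebraicGeometry TopologicalSpace Opposite

noncomputable section

namespace Groth.L03.ShStab.Rank2

open Groth.L18.Frame (rs ro rs_rs rs_self IsFrame)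
open Groth.L15.Ref (hom_ext_eta toEta toEta_injective toEta_stalkMapₗ stalkMapₗ_comp)

variable {X : Scheme.{u}}

theorem stalkMapₗ_zero {A B : X.Modules} (x : X) (v : A.presheaf.stalk x) :
    RefHull.stalkMapₗ (0 : A ⟶ B) x v = 0 := by
  obtain ⟨U, hU, m, rfl⟩ := TopCat.Presheaf.exists_germ_eq (x := x) A.presheaf v
  rw [RefHull.stalkMapₗ_germ]
  exact map_zero _

theorem isQCoh_of_rank {E : X.Modules} {r : ℕ} (hE : FlatMod.IsFinLocFreeOfRank r E) : Coh.IsQCoh E :=
  Groth.L04.FinLocFreeHom.isQCoh_of_finLocFree fun x => by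
    obtain ⟨U, hU, e⟩ := hE x; exact ⟨U, r, hU, e⟩

theorem torsionFree_of_rank {E : X.Modules} {r : ℕ} (hE : FlatMod.IsFinLocFreeOfRank r E) (x : X) :
    Module.IsTorsionFree (X.presheaf.stalk x) (E.presheaf.stalk x) := by
  obtain ⟨b⟩ := RankOneEndo.exists_basis hE x
  exact b.repr.injective.moduleIsTorsionFree _ fun a v => map_smul _ a v

variable [IsIntegral X]

variable [IsLocallyNoetherian X]

theorem exists_ne_zero_eta {A B : X.Modules} [Coh.IsQCoh B]
    (htf : ∀ x : X, Module.IsTorsionFree (X.presheaf.stalk x) (B.presheaf.stalk x)) {f : A ⟶ B} (hf : f ≠ 0) :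
    ∃ v, RefHull.stalkMapₗ f (genericPoint ↥X) v ≠ 0 := by
  by_contra! h
  exact hf (hom_ext_eta htf (LinearMap.ext fun v => (h v).trans (stalkMapₗ_zero _ v).symm))

/-- A nonzero map from an invertible module to a torsion free one is a monomorphism. -/
theorem mono_of_ne_zero {M E : X.Modules} (hM : PicF.IsInvertible M) [Coh.IsQCoh E]
    (htf : ∀ x : X, Module.IsTorsionFree (X.presheaf.stalk x) (E.presheaf.stalk x)) {s : M ⟶ E} (hs : s ≠ 0) :
    Mono s := by
  refine (Groth.L21.Mod.mono_iff_stalk_injective s).2 fun x => ?_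
  obtain ⟨e, he⟩ := Groth.L21.RR.exists_frame_stalk hM x
  obtain ⟨e₀, he₀⟩ := Groth.L21.RR.exists_frame_stalk hM (genericPoint ↥X)
  have hne : RefHull.stalkMapₗ s x e ≠ 0 := by
    intro h0
    obtain ⟨v, hv⟩ := exists_ne_zero_eta htf hs
    obtain ⟨U, hU, m, rfl⟩ := TopCat.Presheaf.exists_germ_eq (x := genericPoint ↥X) M.presheaf v
    obtain ⟨W, g, hxW, hg⟩ := Groth.L18.Frame.exists_frame hM x
    have hη : genericPoint ↥X ∈ W := Groth.L15.Ref.eta_mem hxW
    obtain ⟨c, hc⟩ := he.2 (M.presheaf.germ W x hxW g)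
    have hgx : RefHull.stalkMapₗ s x (M.presheaf.germ W x hxW g) = 0 := by
      rw [← hc]
      exact (map_smul _ _ _).trans ((congrArg _ h0).trans (smul_zero _))
    have hgη : RefHull.stalkMapₗ s (genericPoint ↥X) (M.presheaf.germ W _ hη g) = 0 := by
      rw [← Groth.L15.Ref.toEta_germ M hxW g, ← toEta_stalkMapₗ, hgx, map_zero]
    obtain ⟨a, ha⟩ := (Groth.L21.RR.bijective_germ_frame hg hη).2 (M.presheaf.germ U _ hU m)
    exact hv (by rw [← ha]; exact (map_smul _ _ _).trans ((congrArg _ hgη).trans (smul_zero _)))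
  intro v w hvw
  obtain ⟨a, rfl⟩ := he.2 v
  obtain ⟨b, rfl⟩ := he.2 w
  haveI := htf x
  change RefHull.stalkMapₗ s x (a • e) = RefHull.stalkMapₗ s x (b • e) at hvw
  rw [map_smul, map_smul] at hvw
  exact congrArg (· • e) (smul_left_injective (X.presheaf.stalk x) hne hvw)

theorem isReflexive_of_rank {E : X.Modules} {r : ℕ} (hcoh : Coh.IsCoh E) (hE : FlatMod.IsFinLocFreeOfRank r E) :
    RefHull.IsReflexive E :=
  (Groth.L15.Ref.isReflexive_iff_stalks hcoh).2 fun x => by
    obtain ⟨b⟩ := RankOneEndo.exists_basis hE x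
    haveI := Module.Free.of_basis b
    haveI := Module.Finite.of_basis b
    exact (inferInstance : Module.IsReflexive (X.presheaf.stalk x) (E.presheaf.stalk x))

theorem genInvertible_of_eta {F : X.Modules} (hF : Coh.IsCoh F)
    (htf : ∀ x : X, Module.IsTorsionFree (X.presheaf.stalk x) (F.presheaf.stalk x))
    (u : F.presheaf.stalk (genericPoint ↥X)) (hu0 : u ≠ 0)
    (hu : Submodule.span (X.presheaf.stalk (genericPoint ↥X)) {u} = ⊤) : RefHull.GenInvertible F := by
  haveI : Coh.IsQCoh F := hF.1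
  haveI := htf (genericPoint ↥X)
  obtain ⟨W, e, hW, he⟩ := Groth.L03.RefRegSch.exists_frame hF htf u
    (fun h => hu0 (toEta_injective _ (h.trans (map_zero _).symm))) hu
  refine ⟨W, W.2.dense ⟨_, hW⟩, Groth.L18.GenLoc.isInvertible_of_frames fun w => ?_⟩
  refine ⟨⊤, rs F (W.ι_image_le ⊤) e, trivial, fun V _ => ?_⟩
  have h1 := he (W.ι ''ᵁ V) (W.ι_image_le V)
  refine (congrArg Function.Bijective (funext fun a => ?_)).mp h1
  refine Eq.trans ?_ (Groth.L18.Frame.restrict_smul' F W V a _).symm
  exact congrArg (fun z : Γ(F, W.ι ''ᵁ V) => (show Γ(X, W.ι ''ᵁ V) from a) • z)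
    (rs_rs F (W.ι_image_le ⊤) _ e).symm

/-- Two nonzero endomorphisms composing to zero give a line bundle with nonzero maps both ways. -/
theorem exists_line (hreg : ∀ x : X, IsRegularLocalRing (X.presheaf.stalk x)) {E : X.Modules}
    (hcoh : Coh.IsCoh E) (hE : FlatMod.IsFinLocFreeOfRank 2 E) {f g : E ⟶ E} (hf : f ≠ 0) (hg : g ≠ 0)
    (hfg : f ≫ g = 0) :
    ∃ (K : X.Modules) (ι : K ⟶ E) (t : E ⟶ K), PicF.IsInvertible K ∧ ι ≠ 0 ∧ t ≠ 0 := by
  haveI : Coh.IsQCoh E := hcoh.1
  have htf := torsionFree_of_rank hE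
  let t := kernel.lift g f hfg
  have ht : t ≠ 0 := fun h => hf (by rw [← kernel.lift_ι g f hfg, show kernel.lift g f hfg = 0 from h, Limits.zero_comp])
  have hι : kernel.ι g ≠ 0 := fun h => hf (by rw [← kernel.lift_ι g f hfg, h, Limits.comp_zero])
  haveI : Coh.IsQCoh E := hcoh.1
  have hK : Coh.IsCoh (kernel g) := (Groth.L16.CohKernel.isCoh_kernel_cokernel hcoh hcoh g).1
  haveI : Coh.IsQCoh (kernel g) := hK.1
  have hinj : ∀ y, Function.Injective (RefHull.stalkMapₗ (kernel.ι g) y) :=
    (Groth.L21.Mod.mono_iff_stalk_injective (kernel.ι g)).1 inferInstance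
  have hKtf : ∀ y, Module.IsTorsionFree (X.presheaf.stalk y) ((kernel g).presheaf.stalk y) := fun y => by
    haveI := htf y
    exact (hinj y).moduleIsTorsionFree _ (fun r v => map_smul _ r v)
  -- the rank
  obtain ⟨v, hv⟩ := exists_ne_zero_eta hKtf ht
  obtain ⟨w, hw⟩ := exists_ne_zero_eta htf hg
  let η := genericPoint ↥X
  letI : Field (X.presheaf.stalk η) := (inferInstance : Field X.functionField)
  obtain ⟨b⟩ := RankOneEndo.exists_basis hE η
  haveI := Module.Finite.of_basis b
  let gη := RefHull.stalkMapₗ g η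
  have hker : ∀ z, gη (RefHull.stalkMapₗ (kernel.ι g) η z) = 0 := fun z => by
    rw [← LinearMap.comp_apply, ← stalkMapₗ_comp, kernel.condition]
    exact stalkMapₗ_zero _ z
  have hspan : Submodule.span (X.presheaf.stalk η) {RefHull.stalkMapₗ t η v} = ⊤ := by
    have hy : RefHull.stalkMapₗ (kernel.ι g) η (RefHull.stalkMapₗ t η v) ≠ 0 := fun h => hv (hinj η (h.trans (map_zero _).symm))
    have h1 : Module.finrank (X.presheaf.stalk η) ↥(LinearMap.ker gη) ≤ 1 := by
      have h2 := Submodule.finrank_lt (show LinearMap.ker gη ≠ ⊤ from fun h => hw (LinearMap.mem_ker.1 (h.ge (Submodule.mem_top (x := w)))))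
      rw [Module.finrank_eq_card_basis b, Fintype.card_fin] at h2
      omega
    have h3 : Submodule.span (X.presheaf.stalk η) {RefHull.stalkMapₗ (kernel.ι g) η (RefHull.stalkMapₗ t η v)} =
        LinearMap.ker gη := by
      refine Submodule.eq_of_le_of_finrank_le ?_ (by rw [finrank_span_singleton hy]; exact h1)
      rw [Submodule.span_singleton_le_iff_mem]
      exact hker _
    refine eq_top_iff.2 fun z _ => ?_
    obtain ⟨c, hc⟩ := Submodule.mem_span_singleton.1 (h3.ge (hker z))
    rw [← map_smul] at hc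
    exact Submodule.mem_span_singleton.2 ⟨c, hinj η hc⟩
  have hgen := genInvertible_of_eta hK hKtf _ hv hspan
  -- reflexivity
  let S : ShortComplex X.Modules := ShortComplex.mk (kernel.ι g) (Abelian.factorThruImage g) (by
    rw [← cancel_mono (Abelian.image.ι g), Category.assoc, Abelian.image.fac, kernel.condition, Limits.zero_comp])
  have hS : S.ShortExact := by
    haveI : Epi S.g := (inferInstance : Epi (Abelian.factorThruImage g))
    haveI : Mono S.f := (inferInstance : Mono (kernel.ι g))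
    refine { exact := ShortComplex.exact_of_f_is_kernel _ ?_ }
    exact isKernelOfComp (Abelian.image.ι g) g (kernelIsKernel g) _ (Abelian.image.fac g)
  have hIc : Coh.IsCoh (Abelian.image g) := by
    exact Groth.L16.CohSupport.isCoh_image hcoh g
  have hItf : ∀ y, Module.IsTorsionFree (X.presheaf.stalk y) ((Abelian.image g).presheaf.stalk y) := fun y => by
    haveI := htf y
    have hi : Function.Injective (RefHull.stalkMapₗ (Abelian.image.ι g) y) :=
      (Groth.L21.Mod.mono_iff_stalk_injective (Abelian.image.ι g)).1 inferInstance y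
    exact hi.moduleIsTorsionFree _ (fun r v => map_smul _ r v)
  have hr : RefHull.IsReflexive (kernel g) := RefNormal.isReflexive_of_normal hreg hK hKtf fun U V hVU hc =>
    RefNormal.normal_of_sub hreg S hS hK hcoh hIc (isReflexive_of_rank hcoh hE) hItf hVU hc
  exact ⟨kernel g, kernel.ι g, t, Groth.L03.RefRegSch.isInvertible_of_rank_one hreg hK hr hgen, hι, ht⟩

end Groth.L03.ShStab.Rank2
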