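import Groth.Agent.L03.ShStab.StableHom
import Groth.Agent.L03.ShStab.Mu
import Groth.Agent.L03.ShStab.Rank2Kernel
import Groth.Agent.L03.Euler.Hilb
import Groth.Agent.L22.Big.Basic

/-!
# Slopes of modules of rank one; hulls
-/

set_option autoImplicit false
set_option backward.isDefEq.respectTransparency false
set_option linter.style.haveILetI false

universe u

open CategoryTheory CategoryTheory.Limits AlgebraicGeometry TopologicalSpace Opposite Polynomial StabCat
open Groth.L03.Euler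

noncomputable section

namespace Groth.L03.ShStab.RankOneSlope

open Groth.L03.ShStab.Basic
open Groth.L15.Ref (toEta toEta_injective toEta_stalkMapₗ stalkMapₗ_comp)

section Poly

theorem alpha_taylor {e : ℕ} {P : ℚ[X]} (h : P.natDegree ≤ e + 1) (c : ℚ) :
    alpha (e + 1) (taylor c P) = alpha (e + 1) P ∧
      alpha e (taylor c P) = alpha e P + c * alpha (e + 1) P := by
  have h1 : (taylor c P - P).coeff (e + 1) = 0 := by
    have := coeff_taylor_sub (d := e + 1) (h.trans (by omega)) c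
    rwa [coeff_eq_zero_of_natDegree_lt (show P.natDegree < e + 1 + 1 by omega), mul_zero] at this
  have h2 := coeff_taylor_sub (d := e) h c
  rw [coeff_sub] at h1 h2
  simp only [alpha, Nat.factorial_succ, Nat.cast_mul, Nat.cast_add, Nat.cast_one]
  constructor
  · rw [sub_eq_zero] at h1; rw [h1]
  · linear_combination (Nat.factorial e : ℚ) * h2

theorem hatSlope_taylor {d : ℕ} (hd : 1 ≤ d) {P : ℚ[X]} (h : P.natDegree ≤ d) (hP : 0 < alpha d P) (c : ℚ) :
    hatSlope d (taylor c P) = hatSlope d P + c := by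
  obtain ⟨e, rfl⟩ : ∃ e, d = e + 1 := ⟨d - 1, by omega⟩
  obtain ⟨h1, h2⟩ := alpha_taylor h c
  simp only [hatSlope, h1, Nat.add_sub_cancel, h2]
  field_simp

theorem alpha_eq_zero_of_natDegree_lt {d : ℕ} {P : ℚ[X]} (h : P.natDegree < d) : alpha d P = 0 := by
  simp [alpha, coeff_eq_zero_of_natDegree_lt h]

theorem isDVR {R : Type u} [CommRing R] [IsDomain R] [IsRegularLocalRing R] (h : ringKrullDim R = 1) :
    IsDiscreteValuationRing R := by
  have h1 := (IsRegularLocalRing.iff_finrank_cotangentSpace (R := R)).1 inferInstance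
  rw [h] at h1
  have h2 : Module.finrank (IsLocalRing.ResidueField R) (IsLocalRing.CotangentSpace R) = 1 := by exact_mod_cast h1
  have hf : ¬ IsField R := fun hf => by
    rw [ringKrullDim_eq_zero_of_isField hf] at h
    exact zero_ne_one h
  exact ((IsDiscreteValuationRing.TFAE R hf).out 5 0).1 h2

end Poly

variable {X : Scheme.{u}} {k : Type u} [Field k] [X.Over (Spec (CommRingCat.of k))]
  [IsProper (X ↘ Spec (CommRingCat.of k))] {L : X.Modules}

theorem torsionFree_of_invertible {M : X.Modules} (hM : PicF.IsInvertible M) (x : X) :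
    Module.IsTorsionFree (X.presheaf.stalk x) (M.presheaf.stalk x) := by
  obtain ⟨e, he⟩ := Groth.L21.RR.exists_frame_stalk hM x
  exact (LinearEquiv.ofBijective (LinearMap.toSpanSingleton _ _ e) he).symm.injective.moduleIsTorsionFree _
    fun r v => map_smul _ r v

theorem rank_one_of_invertible {M : X.Modules} (hM : PicF.IsInvertible M) : FlatMod.IsFinLocFreeOfRank 1 M := fun x => by
  obtain ⟨U, hx, ⟨e⟩⟩ := hM x
  exact ⟨U, hx, ⟨e ≪≫ (coproductUniqueIso (fun _ : Fin 1 => Coh.structureModule U.toScheme)).symm⟩⟩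

variable [IsIntegral X] (hL : CohB1.IsAmple L) {n : ℕ} (hn : 1 ≤ n) (hX : topologicalKrullDim X = n)

include k hX in
theorem isPure_invertible {M : X.Modules} (hM : PicF.IsInvertible M) : _root_.ShStab.IsPure X M n := by
  haveI : IsLocallyNoetherian X := Basic.locallyNoetherian (k := k)
  exact RefPure.isPure (k := k) (Rank2.isReflexive_of_rank (Groth.L18.Ample.isCoh_of_isInvertible hM)
    (rank_one_of_invertible hM)) hX

include hX in
theorem dim_le (M : X.Modules) : topologicalKrullDim (CohB1.support M) ≤ n :=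
  (topologicalKrullDim_set_mono (Set.subset_univ _)).trans
    ((IsHomeomorph.topologicalKrullDim_eq _ (Homeomorph.Set.univ X).isHomeomorph).trans_le hX.le)

omit [X.Over (Spec (CommRingCat.of k))] [IsProper (X ↘ Spec (CommRingCat.of k))] in
theorem not_isZero_invertible {M : X.Modules} (hM : PicF.IsInvertible M) : ¬ IsZero M := fun hz => by
  obtain ⟨e, he⟩ := Groth.L21.RR.exists_frame_stalk hM (genericPoint ↥X)
  haveI := (Groth.L21.Mod.isZero_iff_stalk_subsingleton M).1 hz (genericPoint ↥X)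
  exact one_ne_zero (α := X.presheaf.stalk (genericPoint ↥X)) (he.1 (Subsingleton.elim _ _))

include hL hn hX in
/-- The slope is affine in the twist. -/
theorem hatSlope_twist {H : X.Modules} (hH : PicF.IsInvertible H) {a b : ℕ}
    (e : CohB1.tensorMod H (CohB1.tensorPow L a) ≅ CohB1.tensorPow L b) {pH pO : ℚ[X]}
    (hpH : _root_.ShStab.IsHilbPoly k X L H pH)
    (hpO : _root_.ShStab.IsHilbPoly k X L (Coh.structureModule X) pO) :
    hatSlope n pH + a = hatSlope n pO + b := by
  have hO := Groth.L18.Ample.isInvertible_structureModule X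
  have h1 := isHilbPoly_iso e (isHilbPoly_twist hpH a)
  have h2 := isHilbPoly_iso (Groth.L00.Tensor.tensorUnitLeft _) (isHilbPoly_twist hpO b)
  have h3 := isHilbPoly_unique h1 h2
  have key : ∀ {M : X.Modules}, PicF.IsInvertible M → ∀ {p : ℚ[X]}, _root_.ShStab.IsHilbPoly k X L M p → ∀ c : ℚ,
      hatSlope n (taylor c p) = hatSlope n p + c := fun {M} hM {p} hp c =>
    hatSlope_taylor hn (natDegree_le hL.1 (Groth.L18.Ample.isCoh_of_isInvertible hM) (dim_le hX M) hp)
      (alpha_pos_sub hL (isPure_invertible (k := k) hX hM) (𝟙 M) (Groth.L18.Ample.isCoh_of_isInvertible hM)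
        (not_isZero_invertible hM) hp) c
  rw [← key hH hpH, ← key hO hpO, h3]

include hL hn hX in
/-- A mono bijective at the generic point preserves multiplicity and does not decrease the slope. -/
theorem slope_le_of_mono {A B : X.Modules} (hA : Coh.IsCoh A) (hB : Coh.IsCoh B)
    (hBp : _root_.ShStab.IsPure X B n) (h0 : ¬ IsZero A) (j : A ⟶ B) [Mono j]
    (hη : Function.Surjective (RefHull.stalkMapₗ j (genericPoint ↥X))) {pA pB : ℚ[X]}
    (hpA : _root_.ShStab.IsHilbPoly k X L A pA) (hpB : _root_.ShStab.IsHilbPoly k X L B pB) :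
    alpha n pA = alpha n pB ∧ hatSlope n pA ≤ hatSlope n pB := by
  haveI : IsLocallyNoetherian X := Basic.locallyNoetherian (k := k)
  haveI : Coh.IsQCoh B := hB.1
  have hC := (coh_parts k hA hB j).2.2
  obtain ⟨e, rfl⟩ : ∃ e, n = e + 1 := ⟨n - 1, by omega⟩
  have hsupp : genericPoint ↥X ∉ CohB1.support (cokernel j) := by
    intro hmem
    apply hmem
    have hS : (ShortComplex.mk j (cokernel.π j) (cokernel.condition j)).ShortExact :=
      { exact := ShortComplex.exact_cokernel j }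
    haveI := hS.epi_g
    refine ⟨fun s t => ?_⟩
    suffices ∀ s : (cokernel j).presheaf.stalk (genericPoint ↥X), s = 0 by rw [this s, this t]
    intro s
    obtain ⟨v, rfl⟩ := (Groth.L21.Mod.epi_iff_stalk_surjective (cokernel.π j)).1 inferInstance (genericPoint ↥X) s
    obtain ⟨w, rfl⟩ := hη v
    refine Eq.trans ?_ (Rank2.stalkMapₗ_zero (A := A) (B := cokernel j) _ w)
    rw [← cokernel.condition j, stalkMapₗ_comp]
    rfl
  have dC : topologicalKrullDim (CohB1.support (cokernel j)) ≤ (e : ℕ) :=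
    Groth.L22.Big.dim_le_of_generic_notMem (Groth.L16.CohSupport.isClosed_support _ hC.2) hsupp hX.le
  obtain ⟨pC, hpC⟩ := exists_hilb (k := k) hL.1 hC dC
  have hsum := hilb_cokernel hL hA hB j hpA hpB hpC
  have hC0 : alpha (e + 1) pC = 0 := alpha_eq_zero_of_natDegree_lt (Nat.lt_succ_of_le (natDegree_le hL.1 hC dC hpC))
  have hC1 := alpha_nonneg hL hC dC hpC
  have hα := alpha_pos_sub hL hBp j hA h0 hpA
  subst hsum
  refine ⟨by rw [PolyOrd.alpha_add, hC0, add_zero], ?_⟩
  simp only [hatSlope, PolyOrd.alpha_add, hC0, add_zero, Nat.add_sub_cancel]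
  gcongr
  linarith

include k in
/-- A torsion free module embedded in rank one is contained in a line bundle, equally at height one. -/
theorem exists_hull (hreg : ∀ x : X, IsRegularLocalRing (X.presheaf.stalk x)) {F N : X.Modules}
    (hF : Coh.IsCoh F) [Coh.IsQCoh N] (hF0 : ¬ IsZero F) (hN : PicF.IsInvertible N) (j : F ⟶ N) [Mono j] :
    ∃ (H : X.Modules) (b : F ⟶ H), PicF.IsInvertible H ∧ Mono b ∧
      Function.Surjective (RefHull.stalkMapₗ b (genericPoint ↥X)) ∧
      (∀ z : X, Order.coheight z = 1 → Function.Surjective (RefHull.stalkMapₗ b z)) ∧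
      ∀ {G : X.Modules}, Coh.IsCoh G → RefHull.IsReflexive G → ∀ g : F ⟶ G, ∃ g' : H ⟶ G, b ≫ g' = g := by
  haveI : IsLocallyNoetherian X := Basic.locallyNoetherian (k := k)
  haveI : Coh.IsQCoh F := hF.1
  let η := genericPoint ↥X
  let b := RefHull.bidualMap F
  have hjinj : ∀ x, Function.Injective (RefHull.stalkMapₗ j x) := (Groth.L21.Mod.mono_iff_stalk_injective j).1 inferInstance
  have htf : ∀ x, Module.IsTorsionFree (X.presheaf.stalk x) (F.presheaf.stalk x) := fun x => by
    haveI := torsionFree_of_invertible hN x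
    exact (hjinj x).moduleIsTorsionFree _ (fun r v => map_smul _ r v)
  haveI := Groth.L15.Ref.isQCoh_structureModule (X := X)
  have hD : Coh.IsCoh (RefHull.ddual F) := Groth.L15.Ref.isCoh_dual (Groth.L15.Ref.isCoh_dual hF)
  haveI : Coh.IsQCoh (RefHull.ddual F) := hD.1
  have hDr := Groth.L15.Ref.isReflexive_ddual hF
  have hDtf := Groth.L15.Ref.isTorsionFree_stalk hD hDr
  have hbη : Function.Bijective (RefHull.stalkMapₗ b η) := by
    refine ⟨Groth.L15.Ref.bidual_eta_injective hF, ?_⟩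
    letI : Field (X.presheaf.stalk η) := (inferInstance : Field X.functionField)
    haveI := Groth.L15.Ref.finite_stalk hF η
    haveI : Module.IsReflexive (X.presheaf.stalk η) (F.presheaf.stalk η) := inferInstance
    have hbij := (Groth.L15.Ref.bidualAt_bijective_iff hF η).2 this
    rw [← Groth.L15.Ref.stalkMapₗ_bidual] at hbij
    intro t
    obtain ⟨v, hv⟩ := hbij.2 (RefHull.evalStalk (RefHull.dual F) (Coh.structureModule X) η t)
    exact ⟨v, (Groth.L15.Ref.evalStalk_bijective (RefHull.dual F) (Coh.structureModule X)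
      (Groth.L15.Ref.isCoh_dual hF) η).1 hv⟩
  haveI : Mono b := (Groth.L21.Mod.mono_iff_stalk_injective b).2 fun x v w h => by
    haveI := htf x
    refine toEta_injective x (hbη.1 ?_)
    rw [← toEta_stalkMapₗ, ← toEta_stalkMapₗ]
    exact congrArg _ h
  -- rank one
  obtain ⟨u, hu⟩ : ∃ u : F.presheaf.stalk η, u ≠ 0 := by
    by_contra! h
    refine hF0 ((IsZero.iff_id_eq_zero F).2 (Groth.L15.Ref.hom_ext_eta htf (LinearMap.ext fun v => ?_)))
    rw [h v, map_zero, map_zero]
  have hspan : Submodule.span (X.presheaf.stalk η) {RefHull.stalkMapₗ b η u} = ⊤ := by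
    letI : Field (X.presheaf.stalk η) := (inferInstance : Field X.functionField)
    obtain ⟨e, he⟩ := Groth.L21.RR.exists_frame_stalk hN η
    obtain ⟨c, hc⟩ := he.2 (RefHull.stalkMapₗ j η u)
    change c • e = _ at hc
    have hc0 : c ≠ 0 := fun h => hu (hjinj η (by rw [← hc, h, zero_smul, map_zero]))
    refine eq_top_iff.2 fun z _ => ?_
    obtain ⟨v, rfl⟩ := hbη.2 z
    obtain ⟨d, hd⟩ := he.2 (RefHull.stalkMapₗ j η v)
    change d • e = _ at hd
    refine Submodule.mem_span_singleton.2 ⟨d * c⁻¹, ?_⟩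
    rw [← map_smul]
    refine congrArg _ (hjinj η ?_)
    rw [map_smul, ← hc, ← hd, smul_smul, mul_assoc, inv_mul_cancel₀ hc0, mul_one]
  have hgen := Rank2.genInvertible_of_eta hD hDtf _ (fun h => hu (hbη.1 (h.trans (map_zero _).symm))) hspan
  refine ⟨_, b, Groth.L03.RefRegSch.isInvertible_of_rank_one hreg hD hDr hgen, inferInstance, hbη.2, fun z hz => ?_, ?_⟩
  · haveI := hreg z
    haveI := isDVR ((Groth.L15.Ref.coheight_eq_one_iff z).2 hz)
    exact Groth.L15.Ref.bidual_surjective_of_dvr hF z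
  intro G hG hGr g
  haveI : Coh.IsQCoh G := hG.1
  let be := LinearEquiv.ofBijective (RefHull.stalkMapₗ b η) hbη
  obtain ⟨g', hg'⟩ := Groth.L15.Ref.exists_hom (Groth.L03.RefRegSch.isNormalScheme hreg) hG hGr
    ((RefHull.stalkMapₗ g η).comp be.symm.toLinearMap) fun z hz v => by
      haveI : IsDiscreteValuationRing (X.presheaf.stalk z) := by
        haveI := hreg z
        exact isDVR ((Groth.L15.Ref.coheight_eq_one_iff z).2 hz)
      obtain ⟨w, rfl⟩ := Groth.L15.Ref.bidual_surjective_of_dvr hF z v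
      refine ⟨RefHull.stalkMapₗ g z w, ?_⟩
      rw [toEta_stalkMapₗ, toEta_stalkMapₗ]
      exact congrArg (RefHull.stalkMapₗ g η) (be.symm_apply_apply (toEta F z w)).symm
  refine ⟨g', Groth.L15.Ref.hom_ext_eta (Groth.L15.Ref.isTorsionFree_stalk hG hGr) ?_⟩
  rw [stalkMapₗ_comp, hg']
  exact LinearMap.ext fun v => congrArg (RefHull.stalkMapₗ g η) (be.symm_apply_apply v)

include hL hn hX in
/-- Slope stability of an extension of a rank one module by the structure sheaf. -/
theorem isMuStable_of_ext {S : ShortComplex X.Modules} (hS : S.ShortExact)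
    (e₁ : S.X₁ ≅ Coh.structureModule X) (h2 : Coh.IsCoh S.X₂) {M : X.Modules} (hM : PicF.IsInvertible M)
    (j : S.X₃ ⟶ M) [Mono j] (hj : topologicalKrullDim (CohB1.support (cokernel j)) + 2 ≤ n) {a b : ℕ}
    (eM : CohB1.tensorMod M (CohB1.tensorPow L a) ≅ CohB1.tensorPow L b) (hab : a < b)
    (h : ∀ (F : X.Modules) (ι : F ⟶ S.X₂) [Mono ι] [Mono (ι ≫ S.g)], Coh.IsCoh F → ¬ IsZero F →
      ∀ (pF pO : ℚ[X]), _root_.ShStab.IsHilbPoly k X L F pF →
        _root_.ShStab.IsHilbPoly k X L (Coh.structureModule X) pO → hatSlope n pF ≤ hatSlope n pO) :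
    _root_.ShStab.IsMuStable k X L S.X₂ n := by
  haveI : IsLocallyNoetherian X := Basic.locallyNoetherian (k := k)
  haveI := hS.mono_f
  haveI := hS.epi_g
  have hMc := Groth.L18.Ample.isCoh_of_isInvertible hM
  have hOi := Groth.L18.Ample.isInvertible_structureModule X
  have h1 : Coh.IsCoh S.X₁ := Groth.L16.CohSupport.isCoh_of_iso e₁.symm (Groth.L18.Ample.isCoh_of_isInvertible hOi)
  haveI : Coh.IsQCoh S.X₂ := h2.1
  haveI : Coh.IsQCoh M := hMc.1
  have h3 : Coh.IsCoh S.X₃ := Groth.L16.CohSupport.isCoh_of_iso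
    ((cokernelIsCokernel S.f).coconePointUniqueUpToIso hS.gIsCokernel)
    (coh_parts k h1 h2 S.f).2.2
  have hp3 : _root_.ShStab.IsPure X S.X₃ n := isPure_sub (isPure_invertible (k := k) hX hM) j
  have hp1 : _root_.ShStab.IsPure X S.X₁ n := isPure_sub (isPure_invertible (k := k) hX hOi) e₁.hom
  have hp : _root_.ShStab.IsPure X S.X₂ n := Mu.isPure_ext hS h2 h3 hp1 hp3 (dim_le hX _) k
  obtain ⟨pO, hpO⟩ := exists_hilb (k := k) hL.1 (Groth.L18.Ample.isCoh_of_isInvertible hOi) (dim_le hX _)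
  obtain ⟨pM, hpM⟩ := exists_hilb (k := k) hL.1 hMc (dim_le hX _)
  obtain ⟨p3, hp3'⟩ := exists_hilb (k := k) hL.1 h3 (dim_le hX _)
  have hOz := not_isZero_invertible hOi
  have hαO := alpha_pos_sub hL (isPure_invertible (k := k) hX hOi) (𝟙 _) (Groth.L18.Ample.isCoh_of_isInvertible hOi) hOz hpO
  -- the quotient of `j` is small
  obtain ⟨e, rfl⟩ : ∃ e, n = e + 1 := ⟨n - 1, by omega⟩
  have hC := (coh_parts k h3 hMc j).2.2
  obtain ⟨pC, hpC⟩ := exists_hilb (k := k) hL.1 hC (dim_le hX _)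
  have hCz : alpha (e + 1) pC = 0 ∧ alpha e pC = 0 := by
    by_cases hCe : IsZero (cokernel j)
    · have : pC = 0 := isHilbPoly_unique hpC (isHilbPoly_zero hL.1 hCe)
      simp [this, alpha]
    obtain ⟨f, -, hf⟩ := exists_nat_dim hCe (dim_le hX _)
    rw [hf] at hj
    have hfe : f + 2 ≤ e + 1 := by exact_mod_cast hj
    have hd := natDegree_le hL.1 hC hf.le hpC
    exact ⟨alpha_eq_zero_of_natDegree_lt (by omega), alpha_eq_zero_of_natDegree_lt (by omega)⟩
  have hM3 := hilb_cokernel hL h3 hMc j hp3' hpM hpC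
  have hα3 : alpha (e + 1) p3 = alpha (e + 1) pM := by rw [hM3, PolyOrd.alpha_add, hCz.1, add_zero]
  have hμ3 : hatSlope (e + 1) p3 = hatSlope (e + 1) pM := by
    simp only [hatSlope, hM3, PolyOrd.alpha_add, hCz.1, Nat.add_sub_cancel, hCz.2, add_zero]
  have hαM : alpha (e + 1) pM = alpha (e + 1) pO := by
    have h1' := isHilbPoly_iso eM (isHilbPoly_twist hpM a)
    have h2' := isHilbPoly_iso (Groth.L00.Tensor.tensorUnitLeft _) (isHilbPoly_twist hpO b)
    have h3' := congrArg (alpha (e + 1)) (isHilbPoly_unique h1' h2')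
    rwa [(alpha_taylor (natDegree_le hL.1 hMc (dim_le hX _) hpM) _).1,
      (alpha_taylor (natDegree_le hL.1 (Groth.L18.Ample.isCoh_of_isInvertible hOi) (dim_le hX _) hpO) _).1] at h3'
  have hμM := hatSlope_twist hL hn hX hM eM hpM hpO
  have hp2' := isHilbPoly_add hL.1 hS h1 h2 h3 (isHilbPoly_iso e₁.symm hpO) hp3'
  have hμ2 : hatSlope (e + 1) (pO + p3) > hatSlope (e + 1) pO := by
    have hlt : hatSlope (e + 1) pO < hatSlope (e + 1) p3 := by
      have : (a : ℚ) < b := by exact_mod_cast hab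
      rw [hμ3]; linarith
    simp only [hatSlope, PolyOrd.alpha_add, Nat.add_sub_cancel] at hlt ⊢
    rw [hα3, hαM] at hlt ⊢
    rw [div_lt_div_iff₀ hαO hαO] at hlt
    rw [gt_iff_lt, div_lt_div_iff₀ hαO (by positivity)]
    nlinarith
  have h20 : ¬ IsZero S.X₂ := fun hz => hOz (IsZero.of_mono (e₁.inv ≫ S.f) hz)
  refine ⟨h2, h20, hp S.X₂ (𝟙 _) inferInstance h2 h20, fun F ι hι hF => ?_, fun F ι hι hF pF pE hpF hpE hF1 hF2 => ?_⟩
  · haveI := hι
    intro hd
    by_cases hF0 : IsZero F
    · rw [topologicalKrullDim_of_empty ((Groth.L21.Mod.isZero_iff_support_eq_empty F).1 hF0)] at hd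
      exact WithBot.bot_ne_coe ((WithBot.bot_add _).symm.trans hd)
    · rw [hp F ι inferInstance hF hF0] at hd
      have h' : e + 1 + 1 = e + 1 := by exact_mod_cast hd
      omega
  haveI := hι
  obtain rfl := isHilbPoly_unique hpE hp2'
  refine lt_of_le_of_lt ?_ hμ2
  have hF0 : ¬ IsZero F := fun hz => by
    rw [isHilbPoly_unique hpF (isHilbPoly_zero hL.1 hz)] at hF1
    simp [alpha] at hF1
  obtain ⟨hK, hI, -⟩ := coh_parts k hF h3 (ι ≫ S.g)
  by_cases hK0 : IsZero (kernel (ι ≫ S.g))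
  · haveI : Mono (ι ≫ S.g) := Preadditive.mono_of_isZero_kernel _ hK0
    exact h F ι hF hF0 pF pO hpF hpO
  let l : kernel (ι ≫ S.g) ⟶ S.X₁ :=
    hS.exact.lift (kernel.ι (ι ≫ S.g) ≫ ι) (by rw [Category.assoc, kernel.condition])
  haveI : Mono (l ≫ S.f) := by
    rw [ShortComplex.Exact.lift_f]; exact mono_comp _ _
  haveI : Mono l := mono_of_mono l S.f
  obtain ⟨pK, hpK⟩ := exists_hilb (k := k) hL.1 hK (dim_le hX _)
  obtain ⟨pI, hpI⟩ := exists_hilb (k := k) hL.1 hI (dim_le hX _)
  have hsum := hilb_kernel_image hL hF h3 (ι ≫ S.g) hpF hpK hpI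
  have surjη : ∀ {A B : X.Modules} (f : A ⟶ B) [Mono f], PicF.IsInvertible B → ¬ IsZero A →
      (∀ x, Module.IsTorsionFree (X.presheaf.stalk x) (A.presheaf.stalk x)) → Coh.IsQCoh A →
      Function.Surjective (RefHull.stalkMapₗ f (genericPoint ↥X)) := by
    intro A B f _ hB hA htfA hqA z
    letI : Field (X.presheaf.stalk (genericPoint ↥X)) := (inferInstance : Field X.functionField)
    haveI := hqA
    have hinj : Function.Injective (RefHull.stalkMapₗ f (genericPoint ↥X)) :=
      (Groth.L21.Mod.mono_iff_stalk_injective f).1 inferInstance _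
    obtain ⟨v, hv⟩ : ∃ v : A.presheaf.stalk (genericPoint ↥X), v ≠ 0 := by
      by_contra! h
      refine hA ((IsZero.iff_id_eq_zero A).2 (Groth.L15.Ref.hom_ext_eta htfA (LinearMap.ext fun v => ?_)))
      rw [h v, map_zero, map_zero]
    obtain ⟨g, hg⟩ := Groth.L21.RR.exists_frame_stalk hB (genericPoint ↥X)
    obtain ⟨c, hc⟩ := hg.2 (RefHull.stalkMapₗ f _ v)
    obtain ⟨d, rfl⟩ := hg.2 z
    change c • g = _ at hc
    have hc0 : c ≠ 0 := fun h => hv (hinj (by rw [← hc, h, zero_smul, map_zero]))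
    refine ⟨(d * c⁻¹) • v, ?_⟩
    rw [map_smul, ← hc, smul_smul, mul_assoc, inv_mul_cancel₀ hc0, mul_one]
  have htfsub : ∀ {A B : X.Modules} (f : A ⟶ B) [Mono f], PicF.IsInvertible B →
      ∀ x, Module.IsTorsionFree (X.presheaf.stalk x) (A.presheaf.stalk x) := fun f _ hB x => by
    haveI := torsionFree_of_invertible hB x
    have hi : Function.Injective (RefHull.stalkMapₗ f x) := (Groth.L21.Mod.mono_iff_stalk_injective f).1 inferInstance x
    exact hi.moduleIsTorsionFree _ (fun r v => map_smul _ r v)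
  obtain ⟨hαK, hμK⟩ := slope_le_of_mono hL hn hX hK (Groth.L18.Ample.isCoh_of_isInvertible hOi)
    (isPure_invertible (k := k) hX hOi) hK0 (l ≫ e₁.hom)
    (surjη _ hOi hK0 (htfsub (l ≫ e₁.hom) hOi) hK.1) hpK hpO
  by_cases hI0 : IsZero (Abelian.image (ι ≫ S.g))
  · rw [hsum, isHilbPoly_unique hpI (isHilbPoly_zero hL.1 hI0), add_zero]
    exact hμK
  obtain ⟨hαI, -⟩ := slope_le_of_mono hL hn hX hI hMc (isPure_invertible (k := k) hX hM) hI0
    (Abelian.image.ι (ι ≫ S.g) ≫ j)
    (surjη _ hM hI0 (htfsub (Abelian.image.ι (ι ≫ S.g) ≫ j) hM) hI.1) hpI hpM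
  exfalso
  rw [hsum, PolyOrd.alpha_add, PolyOrd.alpha_add, hαK, hαI, hα3] at hF2
  exact lt_irrefl _ hF2

end Groth.L03.ShStab.RankOneSlope
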