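import Groth.Agent.L03.ShStab.ExtTwist
import Groth.Agent.L16.ProjSpace.CohTwist
import Groth.Agent.L16.ProjSpace.TwistMul
import Groth.Agent.L20.PnPic.Over

/-!
# Extensions of line bundles on projective space split
-/

set_option autoImplicit false
set_option backward.isDefEq.respectTransparency false
set_option linter.style.haveILetI false

universe u

open CategoryTheory CategoryTheory.Limits AlgebraicGeometry TopologicalSpace Opposite MvPolynomial

namespace Groth.L03.ShStab.ExtTwistPn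

variable {k : Type u} [Field k] {n : ℕ}

theorem cover (x : Proj (CohB1.polyGrading n k)) :
    ∃ f : CohB1.polyGrading n k 1, x ∈ Proj.basicOpen (CohB1.polyGrading n k) f.1 := by
  obtain ⟨i, hi⟩ := Groth.L16.ProjSpace.exists_mem_basicOpen_X n k x
  exact ⟨⟨X i, isHomogeneous_X k i⟩, hi⟩

theorem nonempty_splitting (hn : 2 ≤ n) (a b : ℤ) {S : ShortComplex (CohB1.ProjSpace n k).Modules}
    (hS : S.ShortExact) (e₁ : S.X₁ ≅ Twist.twistProjSpace n k a) (e₃ : S.X₃ ≅ Twist.twistProjSpace n k b) :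
    Nonempty S.Splitting := by
  obtain ⟨m⟩ := Groth.L16.ProjTwist.nonempty_tensor_twist_iso_one (CohB1.polyGrading n k) cover (-b) b
  obtain ⟨z⟩ := Groth.L16.ProjTwist.nonempty_twist_zero_iso (CohB1.polyGrading n k)
  obtain ⟨p⟩ := Groth.L16.ProjTwist.nonempty_tensor_twist_iso_one (CohB1.polyGrading n k) cover a (-b)
  refine ExtTwist.nonempty_splitting hS (N := Twist.twistProjSpace n k (-b))
    (Groth.L16.ProjTwist.isInvertible_twistProjSpace n k (-b)) e₃
    (m ≪≫ eqToIso (by rw [neg_add_cancel]) ≪≫ z) ?_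
  haveI := Groth.L16.ProjSpace.subsingleton_HH_twist_pos n k (a + -b) 0 (Or.inl (by omega))
  let E : CohB1.tensorMod S.X₁ (Twist.twistProjSpace n k (-b)) ≅ Twist.twistProjSpace n k (a + -b) :=
    Groth.L00.Tensor.tensorIso e₁ (Iso.refl _) ≪≫ p
  refine ⟨fun x y => ?_⟩
  rw [← Groth.L16.CohLinear.hmap_id 1 x, ← Groth.L16.CohLinear.hmap_id 1 y, ← E.hom_inv_id,
    Groth.L16.CohLinear.hmap_comp, Groth.L16.CohLinear.hmap_comp]
  exact congrArg _ (Subsingleton.elim (α := Coh.HH (CohB1.ProjSpace n k) (Twist.twistProjSpace n k (a + -b)) 1) _ _)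

theorem isInvertible_of_rank_one {X : Scheme.{u}} {M : X.Modules} (h : FlatMod.IsFinLocFreeOfRank 1 M) :
    PicF.IsInvertible M := fun y => by
  obtain ⟨U, hy, ⟨φ⟩⟩ := h y
  exact ⟨U, hy, ⟨φ ≪≫ coproductUniqueIso (fun _ : Fin 1 => Coh.structureModule U.toScheme)⟩⟩

theorem exists_iso_biprod (hn : 2 ≤ n) {S : ShortComplex (CohB1.ProjSpace n k).Modules} (hS : S.ShortExact)
    (h₁ : FlatMod.IsFinLocFreeOfRank 1 S.X₁) (h₃ : FlatMod.IsFinLocFreeOfRank 1 S.X₃) :
    ∃ a b : ℤ, Nonempty (S.X₂ ≅ Twist.twistProjSpace n k a ⊞ Twist.twistProjSpace n k b) := by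
  obtain ⟨a, ⟨e₁⟩⟩ := Groth.L20.PnPic.exists_iso_twist (n := n) (R := k) S.X₁ (isInvertible_of_rank_one h₁)
  obtain ⟨b, ⟨e₃⟩⟩ := Groth.L20.PnPic.exists_iso_twist (n := n) (R := k) S.X₃ (isInvertible_of_rank_one h₃)
  obtain ⟨s⟩ := nonempty_splitting hn a b hS e₁ e₃
  exact ⟨a, b, ⟨s.isoBinaryBiproduct ≪≫ biprod.mapIso e₁ e₃⟩⟩

end Groth.L03.ShStab.ExtTwistPn
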