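import Groth.Agent.L17.BC.Model
import Groth.Agent.L01.FlatCx.Fun
import Groth.Agent.L01.FlatCx.Rank
import Groth.Agent.L03.Euler.Basic

/-!
# The Euler characteristic is constant on base changes to fields of a flat module over an irreducible base
-/

set_option autoImplicit false
set_option linter.style.haveILetI false

universe u

open CategoryTheory CategoryTheory.Limits AlgebraicGeometry

noncomputable section

namespace Groth.L03.ShStab.EulerConst

open Groth.L01.FlatCx (mu Coker)

variable {A : Type u} [CommRing A] [IsNoetherianRing A] [IsDomain A]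

theorem mu_eq_mu (M : Type u) [AddCommGroup M] [Module A M] [Module.Finite A M] [Module.Flat A M]
    (x y : PrimeSpectrum A) : mu (A := A) M x = mu (A := A) M y := by
  haveI : Module.FinitePresentation A M := Module.finitePresentation_of_finite _ _
  exact (Groth.L01.FlatCx.isLocallyConstant_mu (A := A) M).apply_eq_of_isPreconnected
    isPreconnected_univ trivial trivial

variable {X : Scheme.{u}} {f : X ⟶ Spec (CommRingCat.of A)} [IsProper f] {F : X.Modules}
  (m : Groth.L17.BC.Model f F)

include m in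
/-- All base changes to fields have the same Euler characteristic. -/
theorem exists_euler_eq [Coh.IsQCoh F] :
    ∃ e : ℤ, ∀ (K : Type u) [Field K] [Algebra A K] (X' : Scheme.{u}) [X'.Over (Spec (CommRingCat.of K))]
      (g : X' ⟶ X), IsPullback g (X' ↘ Spec (CommRingCat.of K)) f
        (Spec.map (CommRingCat.ofHom (algebraMap A K))) →
      Curv2.euler K X' ((Scheme.Modules.pullback g).obj F) = e := by
  let L := m.L
  haveI : ∀ i, Module.Finite A (L.X i) := fun i => (m.finiteFree i).1
  haveI : ∀ i, Module.Flat A (L.X i) := fun i => m.flat_X i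
  let N : ℕ := (m.top + 1).toNat
  let c : ℤ → PrimeSpectrum A → ℕ := fun i => mu (A := A) (Coker L (i - 1) i)
  let r : ℤ → PrimeSpectrum A → ℕ := fun i => mu (A := A) (L.X i)
  have hr0 : ∀ i, m.top < i → ∀ z, r i z = 0 ∧ c i z = 0 := fun i hi z => by
    haveI := ModuleCat.subsingleton_of_isZero (m.isZero_above i hi)
    haveI : Subsingleton (Coker L (i - 1) i) := inferInstance
    exact ⟨Module.finrank_zero_of_subsingleton, Module.finrank_zero_of_subsingleton⟩
  have key : ∀ (i : ℕ) z, (CohIII.dRank L (i : ℤ) z : ℤ) = c i z + c (i + 1) z - r (i + 1) z := fun i z => by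
    have h := Groth.L01.FlatCx.dRank_add_mu L (i := (i : ℤ) - 1) (j := (i : ℤ)) (l := (i : ℤ) + 1)
      (by simp) (by simp) z
    have e : c ((i : ℤ) + 1) z = mu (Coker L (i : ℤ) ((i : ℤ) + 1)) z :=
      congrArg (fun a => mu (A := A) (Coker L a ((i : ℤ) + 1)) z) (add_sub_cancel_right (i : ℤ) 1)
    simp only [r, c] at e ⊢
    omega
  have hzero : ∀ (i : ℕ), N ≤ i → ∀ z, CohIII.dRank L (i : ℤ) z = 0 := fun i hi z => by
    have h1 := hr0 ((i : ℤ) + 1) (by omega) z
    have h2 := hr0 (i : ℤ) (by omega) z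
    have := key i z
    omega
  have tel : ∀ (n : ℕ) z, ∑ i ∈ Finset.range n, (-1 : ℤ) ^ i * (CohIII.dRank L (i : ℤ) z : ℤ) =
      c 0 z - (-1) ^ n * c n z - ∑ i ∈ Finset.range n, (-1 : ℤ) ^ i * r (i + 1) z := by
    intro n z
    induction n with
    | zero => simp
    | succ n ih =>
      rw [Finset.sum_range_succ, Finset.sum_range_succ, ih, key, Nat.cast_succ, pow_succ]
      ring
  have hfl : Module.Flat A (Coker L (-1 : ℤ) 0) := by
    have hs : ∀ M, Subsingleton ((CohIII.TFun L (-1 : ℤ)).obj M) := fun M =>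
      ModuleCat.subsingleton_of_isZero (m.isZero_T_of_neg M (by norm_num))
    exact (Groth.L01.FlatCx.preservesEpi_iff L (j := (-1 : ℤ)) (k := 0) (CochainComplex.next _ _)
      (by simp) (fun i => m.flat_X i)).1
      ⟨fun {M N} g _ => (ModuleCat.epi_iff_surjective _).mpr fun b => ⟨0, (hs N).elim _ _⟩⟩
  let x₀ : PrimeSpectrum A := ⟨⊥, Ideal.isPrime_bot⟩
  refine ⟨∑ i ∈ Finset.range N, (-1 : ℤ) ^ i * (CohIII.dRank L (i : ℤ) x₀ : ℤ), ?_⟩
  intro K _ _ X' _ g sq
  let z : PrimeSpectrum A := PrimeSpectrum.comap (algebraMap A K) ⊥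
  have hd : ∀ p : ℕ, Module.finrank K (Coh.HH X' ((Scheme.Modules.pullback g).obj F) p) =
      CohIII.dRank L (p : ℤ) z := fun p => m.finrank_eq_dRank (X' ↘ Spec (CommRingCat.of K)) g sq p
  unfold Curv2.euler
  rw [finsum_eq_sum_of_support_subset (s := Finset.range N) _ fun i hi => ?_]
  · simp only [hd]
    rw [tel, tel, (hr0 (N : ℤ) (by omega) z).2, (hr0 (N : ℤ) (by omega) x₀).2]
    haveI := hfl
    simp only [c, r]

    haveI : Module.Flat A (Coker L ((0 : ℤ) - 1) 0) := by rw [zero_sub]; exact hfl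
    rw [mu_eq_mu (Coker L ((0 : ℤ) - 1) 0) z x₀]
    congr 1
    exact Finset.sum_congr rfl fun i _ => by rw [mu_eq_mu (L.X ((i : ℤ) + 1)) z x₀]
  · rw [Finset.coe_range, Set.mem_Iio]
    by_contra hle
    exact hi (by simp only; rw [hd, hzero i (not_lt.1 hle), Nat.cast_zero, mul_zero])

end Groth.L03.ShStab.EulerConst
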