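import Groth.Agent.L03.ShStab.Schur
import Groth.Agent.L20.ModStalk
import Mathlib.LinearAlgebra.Eigenspace.Triangularizable
import Mathlib.RingTheory.Jacobson.Ring
import Mathlib.FieldTheory.IsAlgClosed.Basic

/-!
# Scalar endomorphisms; stable modules over an algebraically closed field are simple
-/

universe u

open CategoryTheory CategoryTheory.Limits AlgebraicGeometry Opposite

namespace Groth.L03.ShStab.Scalar

/-- An endomorphism of a nonzero finite module over a finitely generated algebra over an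
algebraically closed field minus a suitable scalar is not bijective. -/
theorem exists_not_bijective {k R M : Type u} [Field k] [IsAlgClosed k] [CommRing R] [Algebra k R]
    [Algebra.FiniteType k R] [AddCommGroup M] [Module R M] [Module.Finite R M] [Nontrivial M]
    (f : M →ₗ[R] M) : ∃ c : k, ¬ Function.Bijective fun s => f s - algebraMap k R c • s := by
  have hne : Module.annihilator R M ≠ ⊤ := by
    rw [Ne, Module.annihilator_eq_top_iff]
    exact not_subsingleton M
  obtain ⟨m, hm, hle⟩ := Ideal.exists_le_maximal _ hne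
  letI : Field (R ⧸ m) := Ideal.Quotient.field m
  haveI : Module.Finite k (R ⧸ m) := finite_of_finite_type_of_isJacobsonRing k (R ⧸ m)
  have hb := IsAlgClosed.algebraMap_bijective_of_isIntegral (k := k) (K := R ⧸ m)
  haveI : IsAlgClosed (R ⧸ m) := IsAlgClosed.of_ringEquiv k _ (RingEquiv.ofBijective _ hb)
  haveI : Module.Finite (R ⧸ m) (M ⧸ m • (⊤ : Submodule R M)) :=
    Module.Finite.of_restrictScalars_finite R (R ⧸ m) _
  haveI : Nontrivial (M ⧸ m • (⊤ : Submodule R M)) := by
    rw [Submodule.Quotient.nontrivial_iff]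
    intro h
    obtain ⟨r, hr, hr0⟩ := Submodule.exists_sub_one_mem_and_smul_eq_zero_of_fg_of_le_smul m ⊤
      Module.Finite.fg_top h.ge
    have hr' : r ∈ m := hle (Module.mem_annihilator.2 fun x => hr0 x trivial)
    exact hm.ne_top ((Ideal.eq_top_iff_one _).2 (by simpa using m.sub_mem hr' hr))
  have hmf : m • (⊤ : Submodule R M) ≤ (m • (⊤ : Submodule R M)).comap f :=
    Submodule.map_le_iff_le_comap.1 (by rw [Submodule.map_smul'']; exact Submodule.smul_mono le_rfl le_top)
  let g₀ : (M ⧸ m • (⊤ : Submodule R M)) →ₗ[R] (M ⧸ m • (⊤ : Submodule R M)) :=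
    Submodule.mapQ _ _ f hmf
  let g : (M ⧸ m • (⊤ : Submodule R M)) →ₗ[R ⧸ m] (M ⧸ m • (⊤ : Submodule R M)) :=
    { toFun := g₀
      map_add' := g₀.map_add
      map_smul' := fun a x => by
        obtain ⟨a, rfl⟩ := Ideal.Quotient.mk_surjective a
        exact g₀.map_smul a x }
  obtain ⟨μ, hμ⟩ := Module.End.exists_eigenvalue (g : Module.End (R ⧸ m) _)
  obtain ⟨c, rfl⟩ := hb.2 μ
  refine ⟨c, fun hbij => ?_⟩
  obtain ⟨v, hv⟩ := hμ.exists_hasEigenvector
  refine hv.2 ?_
  obtain ⟨s, rfl⟩ := Submodule.Quotient.mk_surjective _ v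
  let h : M →ₗ[R] M := f - algebraMap k R c • LinearMap.id
  have hh : ∀ s, h s = f s - algebraMap k R c • s := fun s => by simp [h]
  have hmem : h s ∈ m • (⊤ : Submodule R M) := by
    rw [← Submodule.Quotient.mk_eq_zero, hh, Submodule.Quotient.mk_sub, sub_eq_zero]
    exact hv.apply_eq_smul
  have hbij' : Function.Bijective h := by
    have : (h : M → M) = fun s => f s - algebraMap k R c • s := funext hh
    rw [this]; exact hbij
  rw [Submodule.Quotient.mk_eq_zero]
  have hmap : (m • (⊤ : Submodule R M)).map h = m • ⊤ := by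
    rw [Submodule.map_smul'', Submodule.map_top, LinearMap.range_eq_top.2 hbij'.2]
  rw [← hmap] at hmem
  obtain ⟨t, ht, hts⟩ := hmem
  exact hbij'.1 hts ▸ ht

variable {X : Scheme.{u}} (M : X.Modules) (r : Γ(X, ⊤))

/-- The restriction of a global function, as a scalar. -/
noncomputable def rsTop (U : (TopologicalSpace.Opens X)ᵒᵖ) : X.ringCatSheaf.obj.obj U :=
  (X.presheaf.map (homOfLE (le_top : U.unop ≤ ⊤)).op r : Γ(X, U.unop))

/-- Multiplication by a global function on sections. -/
noncomputable def scApp (U : (TopologicalSpace.Opens X)ᵒᵖ) :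
    M.val.obj U →ₗ[X.ringCatSheaf.obj.obj U] M.val.obj U where
  toFun s := rsTop r U • s
  map_add' := smul_add _
  map_smul' a s := by
    simp only [RingHom.id_apply, smul_smul]
    congr 1
    exact mul_comm (G := Γ(X, U.unop)) _ _

/-- Multiplication by a global function as an endomorphism. -/
noncomputable def sc : M ⟶ M :=
  ⟨{ app := fun U => ModuleCat.ofHom (scApp M r U)
     naturality := fun {U V} f => by
       ext s
       change rsTop r V • M.val.map f s = M.val.map f (rsTop r U • s)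
       rw [PresheafOfModules.map_smul]
       congr 1
       change _ = (X.presheaf.map _ ≫ X.presheaf.map f) r
       rw [← Functor.map_comp]; rfl }⟩

theorem exists_affine_nontrivial {M : X.Modules} (h : ¬ IsZero M) :
    ∃ U : X.Opens, IsAffineOpen U ∧ Nontrivial Γ(M, U) := by
  rw [Groth.L21.Mod.isZero_iff_stalk_subsingleton] at h
  push Not at h
  obtain ⟨x, hx⟩ := h
  obtain ⟨a, b, hab⟩ := (not_subsingleton_iff_nontrivial.1 (not_subsingleton_iff_nontrivial.2 hx)).exists_pair_ne
  obtain ⟨V, hxV, s, hs⟩ := M.presheaf.exists_germ_eq (x := x) (a - b)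
  obtain ⟨U, hU, hxU, hUV'⟩ := exists_isAffineOpen_mem_and_subset (x := x) (U := V) hxV
  have hUV : U ≤ V := hUV'
  refine ⟨U, hU, ⟨M.presheaf.map (homOfLE hUV).op s, 0, fun h0 => hab (sub_eq_zero.1 ?_)⟩⟩
  rw [← hs, ← TopCat.Presheaf.germ_res_apply M.presheaf (homOfLE hUV) x hxU]
  exact (congrArg _ h0).trans (map_zero _)

variable {k : Type u} [Field k] [IsAlgClosed k] [X.Over (Spec (CommRingCat.of k))]
  [IsProper (X ↘ Spec (CommRingCat.of k))] {L : X.Modules} {d : ℕ}

theorem exists_eq_sc_of_isIso {E : X.Modules} (hE : Coh.IsCoh E) (h0 : ¬ IsZero E)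
    (hiso : ∀ ψ : E ⟶ E, ψ ≠ 0 → IsIso ψ) (φ : E ⟶ E) :
    ∃ c : k, φ = sc E (Coh.toGlobal (X ↘ Spec (CommRingCat.of k)) c) := by
  haveI : IsLocallyNoetherian X := Basic.locallyNoetherian (k := k)
  obtain ⟨U, hU, hN⟩ := exists_affine_nontrivial h0
  let f := (X ↘ Spec (CommRingCat.of k))
  let ρ : k →+* Γ(X, U) := (X.presheaf.map (homOfLE (le_top : U ≤ ⊤)).op).hom.comp (Coh.toGlobal f)
  have hρ : ρ.FiniteType := by
    have h1 : (f.appLE ⊤ U le_top).hom.FiniteType := f.finiteType_appLE (isAffineOpen_top _) hU le_top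
    exact h1.comp (RingHom.FiniteType.of_surjective _ (Scheme.ΓSpecIso (CommRingCat.of k)).symm.commRingCatIsoToRingEquiv.surjective)
  letI : Algebra k Γ(X, U) := ρ.toAlgebra
  haveI : Algebra.FiniteType k Γ(X, U) := hρ
  haveI : Module.Finite Γ(X, U) Γ(E, U) := Groth.L20.ModStalk.finite_sections E hE hU
  obtain ⟨c, hc⟩ := exists_not_bijective (k := k) (R := Γ(X, U)) (M := Γ(E, U))
    (φ.val.app (op U)).hom
  refine ⟨c, sub_eq_zero.1 ?_⟩
  by_contra hne
  haveI := hiso _ hne
  refine hc (Function.bijective_iff_has_inverse.2 ⟨(inv (φ - sc E (Coh.toGlobal f c))).val.app (op U),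
    fun s => ?_, fun s => ?_⟩)
  · change ((φ - sc E (Coh.toGlobal f c)) ≫ inv (φ - sc E (Coh.toGlobal f c))).val.app (op U) s = s
    rw [IsIso.hom_inv_id]; rfl
  · change (inv (φ - sc E (Coh.toGlobal f c)) ≫ (φ - sc E (Coh.toGlobal f c))).val.app (op U) s = s
    rw [IsIso.inv_hom_id]; rfl

theorem exists_eq_sc (hL : CohB1.IsAmple L) {E : X.Modules}
    (hE : _root_.ShStab.IsStable k X L E d) (φ : E ⟶ E) :
    ∃ c : k, φ = sc E (Coh.toGlobal (X ↘ Spec (CommRingCat.of k)) c) := by
  haveI : IsLocallyNoetherian X := Basic.locallyNoetherian (k := k)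
  refine exists_eq_sc_of_isIso hE.1 hE.2.1 (fun ψ hψ => ?_) φ
  have h := Schur.isSemistable_of_isStable hE
  obtain ⟨P, hP⟩ := Basic.exists_hilb (k := k) hL.1 hE.1 (Basic.dim_le_of_isPure hE.1 hE.2.2.1)
  exact Schur.isIso_of_eq hL h h (Or.inl hE) hP hP hψ

end Groth.L03.ShStab.Scalar
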