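import Groth.Agent.L17.Kun.Main
import Groth.Agent.L21.P1.Coh
import Groth.Agent.L22.Reg.Pn
import Groth.Agent.L22.Reg.Chase
import Groth.Agent.L29.LocFree
import Groth.Agent.L00.PullStalk
import Groth.Agent.L18.AmplePull
import Groth.Agent.L03.ShStab.TwistFlat

/-!
# Cohomology of line bundles on the product of two projective lines; Koszul propagation
-/

set_option autoImplicit false
set_option backward.isDefEq.respectTransparency false
set_option linter.style.haveILetI false

universe u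

open CategoryTheory CategoryTheory.Limits AlgebraicGeometry TopologicalSpace Opposite
open scoped TensorProduct

noncomputable section

namespace Groth.L03.ShStab.QuadricCoh

open Groth.L16.CohLinear (hmap tm overLin hmap_comp hmap_id)
open Groth.L00.Tensor (tensorIso tensorAssoc tensorUnitRight tensorUnitLeft tensorRightF tensorComm)
open Groth.L22.Reg (O' sm Generates)

section Sums

variable {X : Scheme.{u}}

theorem hmap_sum {ι : Type} (s : Finset ι) {A B : X.Modules} (f : ι → (A ⟶ B)) (q : ℕ) (x : Coh.HH X A q) :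
    hmap (∑ j ∈ s, f j) q x = ∑ j ∈ s, hmap (f j) q x := by
  change Sheaf.H.map (Groth.L16.CohLinear.tm (∑ j ∈ s, f j)) q x = _
  rw [Groth.L16.CohLinear.tm, Functor.map_sum, Groth.L16.CohLinear.hMap_sum]
  rfl

theorem id_sigma {p : ℕ} (M : Fin p → X.Modules) :
    ∃ pr : ∀ j, ∐ M ⟶ M j, 𝟙 (∐ M) = ∑ j, pr j ≫ Sigma.ι M j ∧
      ∀ i j, Sigma.ι M i ≫ pr j = if h : i = j then eqToHom (congrArg M h) else 0 := by
  classical
  let pr : ∀ j, ∐ M ⟶ M j := fun j => Sigma.desc fun i =>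
    if h : i = j then eqToHom (congrArg M h) else 0
  refine ⟨pr, ?_, fun i j => by simp [pr]⟩
  refine Sigma.hom_ext _ _ fun i => ?_
  rw [Category.comp_id, Preadditive.comp_sum, Finset.sum_eq_single i]
  · simp [pr]
  · intro j _ hj
    simp [pr, Ne.symm hj]
  · simp

/-- Cohomology vanishes on a sum when it vanishes on the summands, also after twisting. -/
theorem subsingleton_sigma_tensor {p : ℕ} (M : Fin p → X.Modules) (N : X.Modules) (q : ℕ)
    (h : ∀ j, Subsingleton (Coh.HH X (CohB1.tensorMod (M j) N) q)) :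
    Subsingleton (Coh.HH X (CohB1.tensorMod (∐ M) N) q) := by
  obtain ⟨pr, hid, -⟩ := id_sigma M
  haveI : PreservesColimits (tensorRightF N) := Groth.L00.Tensor.preservesColimits_tensorRightF _
  haveI : PreservesFiniteCoproducts (tensorRightF N) := inferInstance
  haveI := preservesBinaryBiproducts_of_preservesBinaryCoproducts (tensorRightF N)
  haveI : (tensorRightF N).Additive := Functor.additive_of_preservesBinaryBiproducts _
  refine ⟨fun x y => ?_⟩
  have key : ∀ z : Coh.HH X (CohB1.tensorMod (∐ M) N) q, z = 0 := fun z => by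
    have h1 : hmap (𝟙 ((tensorRightF N).obj (∐ M))) q z = z := hmap_id q z
    rw [← (tensorRightF N).map_id, hid, Functor.map_sum, hmap_sum] at h1
    rw [← h1]
    refine Finset.sum_eq_zero fun j _ => ?_
    rw [Functor.map_comp, hmap_comp, @Subsingleton.elim _ (h j) (hmap ((tensorRightF N).map (pr j)) q z) 0, map_zero]
  rw [key x, key y]

variable {k : Type u} [Field k] [X.Over (Spec (CommRingCat.of k))]

theorem nonempty_sigmaEquiv {p : ℕ} (M : Fin p → X.Modules) (q : ℕ) :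
    Nonempty ((∀ j, Coh.HH X (M j) q) ≃ₗ[k] Coh.HH X (∐ M) q) := by
  classical
  obtain ⟨pr, hid, hpr⟩ := id_sigma M
  let f : (∀ j, Coh.HH X (M j) q) →ₗ[k] Coh.HH X (∐ M) q :=
    ∑ j, (overLin k (hmap (Sigma.ι M j) q)).comp (LinearMap.proj j)
  have hf : ∀ v, f v = ∑ j, hmap (Sigma.ι M j) q (v j) := fun v => by
    simp only [f, LinearMap.sum_apply, LinearMap.comp_apply, LinearMap.proj_apply]
    rfl
  have hsurj : Function.Surjective f := fun x => by
    refine ⟨fun j => hmap (pr j) q x, ?_⟩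
    have h2 : hmap (𝟙 (∐ M)) q x = ∑ j, hmap (pr j ≫ Sigma.ι M j) q x := by rw [hid, hmap_sum]
    rw [hmap_id] at h2
    rw [hf]
    refine Eq.trans ?_ h2.symm
    simp only [hmap_comp]
  have hinj : Function.Injective f := by
    rw [injective_iff_map_eq_zero]
    intro v hv
    rw [hf] at hv
    funext i
    have h := congrArg (hmap (pr i) q) hv
    rw [map_sum, map_zero, Finset.sum_eq_single i] at h
    · rw [← hmap_comp, hpr, dif_pos rfl, eqToHom_refl, hmap_id] at h
      exact h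
    · intro j _ hj
      rw [← hmap_comp, hpr, dif_neg hj, Groth.L21.RR.hmap_zero]
    · simp
  exact ⟨LinearEquiv.ofBijective f ⟨hinj, hsurj⟩⟩

/-- The cohomology of a finite sum. -/
def sigmaEquiv {p : ℕ} (M : Fin p → X.Modules) (q : ℕ) :
    (∀ j, Coh.HH X (M j) q) ≃ₗ[k] Coh.HH X (∐ M) q :=
  (nonempty_sigmaEquiv M q).some

theorem finrank_sigma {p : ℕ} (M : Fin p → X.Modules) (q : ℕ) [∀ j, Module.Finite k (Coh.HH X (M j) q)] :
    Module.finrank k (Coh.HH X (∐ M) q) = ∑ j, Module.finrank k (Coh.HH X (M j) q) := by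
  rw [← (sigmaEquiv (k := k) M q).finrank_eq, Module.finrank_pi_fintype]

theorem finrank_biprod (A B : X.Modules) (q : ℕ) [Module.Finite k (Coh.HH X A q)] [Module.Finite k (Coh.HH X B q)] :
    Module.finrank k (Coh.HH X (A ⊞ B) q) = Module.finrank k (Coh.HH X A q) + Module.finrank k (Coh.HH X B q) := by
  let f : (Coh.HH X A q × Coh.HH X B q) →ₗ[k] Coh.HH X (A ⊞ B) q :=
    (overLin k (hmap (biprod.inl : A ⟶ A ⊞ B) q)).coprod (overLin k (hmap (biprod.inr : B ⟶ A ⊞ B) q))
  have hf : ∀ v, f v = hmap biprod.inl q v.1 + hmap biprod.inr q v.2 := fun v => rfl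
  have hbij : Function.Bijective f := by
    refine ⟨?_, fun x => ⟨(hmap biprod.fst q x, hmap biprod.snd q x), ?_⟩⟩
    · rw [injective_iff_map_eq_zero]
      intro v hv
      rw [hf] at hv
      have h1 := congrArg (hmap (biprod.fst : A ⊞ B ⟶ A) q) hv
      have h2 := congrArg (hmap (biprod.snd : A ⊞ B ⟶ B) q) hv
      rw [map_add, map_zero, ← hmap_comp, ← hmap_comp, biprod.inl_fst, biprod.inr_fst, hmap_id,
        Groth.L21.RR.hmap_zero] at h1
      rw [map_add, map_zero, ← hmap_comp, ← hmap_comp, biprod.inl_snd, biprod.inr_snd, hmap_id,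
        Groth.L21.RR.hmap_zero] at h2
      simp only [AddMonoidHom.zero_apply, add_zero, zero_add] at h1 h2
      exact Prod.ext h1 h2
    · rw [hf]
      rw [← hmap_comp, ← hmap_comp, ← Groth.L21.RR.hmap_add, biprod.total, hmap_id]
  rw [← (LinearEquiv.ofBijective f hbij).finrank_eq, Module.finrank_prod]

end Sums

section PullGen

variable {X Y : Scheme.{u}}

/-- Pullback preserves generation. -/
theorem generates_pullback (g : X ⟶ Y) {L : Y.Modules} {σs : List (L ⟶ Coh.structureModule Y)}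
    (hσ : Generates σs) :
    Generates (σs.map fun σ => (Scheme.Modules.pullback g).map σ ≫ (Groth.L29.LocFree.pullbackUnitIso g).hom) := by
  intro x
  obtain ⟨τ, hτ, hb⟩ := hσ (g x)
  refine ⟨_, List.mem_map.2 ⟨τ, hτ, rfl⟩, ?_⟩
  haveI : IsIso ((Groth.L00.Stk.F Y (g x)).map τ) := (ConcreteCategory.isIso_iff_bijective _).2 hb
  haveI : IsIso ((Scheme.Modules.pullback g ⋙ Groth.L00.Stk.F X x).map τ) :=
    (NatIso.isIso_map_iff (Groth.L00.PullStalk.stalkIso g x) τ).2
      (inferInstanceAs (IsIso ((ModuleCat.extendScalars _).map ((Groth.L00.Stk.F Y (g x)).map τ))))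
  haveI : IsIso ((Groth.L00.Stk.F X x).map ((Scheme.Modules.pullback g).map τ)) :=
    inferInstanceAs (IsIso ((Scheme.Modules.pullback g ⋙ Groth.L00.Stk.F X x).map τ))
  haveI : IsIso ((Groth.L00.Stk.F X x).map
      ((Scheme.Modules.pullback g).map τ ≫ (Groth.L29.LocFree.pullbackUnitIso g).hom)) := by
    rw [Functor.map_comp]; infer_instance
  exact (ConcreteCategory.isIso_iff_bijective _).1 inferInstance

end PullGen

variable (k : Type u) [Field k]

/-- The product of two lines. -/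
abbrev Qd : Scheme.{u} := Limits.pullback (CohB1.ProjSpace.toSpec 1 k) (CohB1.ProjSpace.toSpec 1 k)

/-- The first projection. -/
abbrev p₁ : Qd k ⟶ CohB1.ProjSpace 1 k := pullback.fst _ _

/-- The second projection. -/
abbrev p₂ : Qd k ⟶ CohB1.ProjSpace 1 k := pullback.snd _ _

/-- The line bundle of bidegree `(a, b)`. -/
abbrev O2 (a b : ℤ) : (Qd k).Modules :=
  CohB1.tensorMod ((Scheme.Modules.pullback (p₁ k)).obj (O' 1 k a)) ((Scheme.Modules.pullback (p₂ k)).obj (O' 1 k b))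

theorem isInvertible_O2 (a b : ℤ) : PicF.IsInvertible (O2 k a b) :=
  Groth.L18.GenLoc.isInvertible_tensor
    (Groth.L18.Ample.isInvertible_pullback _ (Groth.L16.ProjTwist.isInvertible_twistProjSpace 1 k a))
    (Groth.L18.Ample.isInvertible_pullback _ (Groth.L16.ProjTwist.isInvertible_twistProjSpace 1 k b))

theorem nonempty_pull_add (g : Qd k ⟶ CohB1.ProjSpace 1 k) {a b c : ℤ} (h : a + b = c) :
    Nonempty (CohB1.tensorMod ((Scheme.Modules.pullback g).obj (O' 1 k a)) ((Scheme.Modules.pullback g).obj (O' 1 k b)) ≅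
      (Scheme.Modules.pullback g).obj (O' 1 k c)) := by
  obtain ⟨e⟩ := Groth.L22.Reg.nonempty_O_add (n := 1) (R := k) h
  exact ⟨Groth.L29.DC.PullTensor.pullTensor g _ _ ≪≫ (Scheme.Modules.pullback g).mapIso e⟩

theorem nonempty_O2_add {a b a' b' a'' b'' : ℤ} (ha : a + a' = a'') (hb : b + b' = b'') :
    Nonempty (CohB1.tensorMod (O2 k a b) (O2 k a' b') ≅ O2 k a'' b'') := by
  obtain ⟨e₁⟩ := nonempty_pull_add k (p₁ k) ha
  obtain ⟨e₂⟩ := nonempty_pull_add k (p₂ k) hb
  exact ⟨tensorAssoc _ _ _ ≪≫ tensorIso (Iso.refl _) ((tensorAssoc _ _ _).symm ≪≫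
    tensorIso (tensorComm _ _) (Iso.refl _) ≪≫ tensorAssoc _ _ _) ≪≫ (tensorAssoc _ _ _).symm ≪≫ tensorIso e₁ e₂⟩

theorem nonempty_O2_zero : Nonempty (O2 k 0 0 ≅ Coh.structureModule (Qd k)) := by
  obtain ⟨e⟩ := Groth.L22.Reg.nonempty_O_zero 1 k
  exact ⟨tensorIso ((Scheme.Modules.pullback _).mapIso e ≪≫ Groth.L29.LocFree.pullbackUnitIso _)
    ((Scheme.Modules.pullback _).mapIso e ≪≫ Groth.L29.LocFree.pullbackUnitIso _) ≪≫ tensorUnitLeft _⟩

variable [(Qd k).Over (Spec (CommRingCat.of k))]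
  (hov : p₁ k ≫ CohB1.ProjSpace.toSpec 1 k = (Qd k ↘ Spec (CommRingCat.of k)))

include hov in
theorem nonempty_kunneth (a b : ℤ) (n : ℕ) :
    letI : (CohB1.ProjSpace 1 k).Over (Spec (CommRingCat.of k)) := ⟨CohB1.ProjSpace.toSpec 1 k⟩
    Nonempty ((∀ p : Fin (n + 1), Coh.HH (CohB1.ProjSpace 1 k) (O' 1 k a) p.1 ⊗[k]
      Coh.HH (CohB1.ProjSpace 1 k) (O' 1 k b) (n - p.1)) ≃ₗ[k] Coh.HH (Qd k) (O2 k a b) n) := by
  letI : (CohB1.ProjSpace 1 k).Over (Spec (CommRingCat.of k)) := ⟨CohB1.ProjSpace.toSpec 1 k⟩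
  haveI : IsProper (CohB1.ProjSpace 1 k ↘ Spec (CommRingCat.of k)) :=
    inferInstanceAs (IsProper (CohB1.ProjSpace.toSpec 1 k))
  haveI : CompactSpace (CohB1.ProjSpace 1 k) :=
    QuasiCompact.compactSpace_of_compactSpace (CohB1.ProjSpace.toSpec 1 k)
  haveI : (CohB1.ProjSpace 1 k).IsSeparated :=
    ⟨by rw [← terminal.comp_from (CohB1.ProjSpace.toSpec 1 k)]; infer_instance⟩
  haveI : (Qd k).IsSeparated :=
    ⟨by rw [← terminal.comp_from (p₁ k)]; infer_instance⟩
  haveI : QuasiSeparatedSpace (CohB1.ProjSpace 1 k) := inferInstance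
  haveI : QuasiSeparatedSpace (Qd k) := inferInstance
  haveI : Coh.IsQCoh (O' 1 k a) := Groth.L16.ProjTwist.isQCoh_twist (CohB1.polyGrading 1 k) a
  haveI : Coh.IsQCoh (O' 1 k b) := Groth.L16.ProjTwist.isQCoh_twist (CohB1.polyGrading 1 k) b
  exact Groth.L17.Kun.exists_kunneth (A := k) (p₁ k) (p₂ k) (IsPullback.of_hasPullback _ _) hov
    ((pullback.condition).symm.trans hov) (O' 1 k b) (O' 1 k a) (TwistFlat.isFlatOver_field _ _)
    (fun p => inferInstance) n

/-- The degrees at which a twisting sheaf on the line has cohomology. -/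
def NZ (q : ℕ) (d : ℤ) : Prop := (q = 0 ∧ 0 ≤ d) ∨ (q = 1 ∧ d ≤ -2)

omit [(Qd k).Over (Spec (CommRingCat.of k))] in
theorem subsingleton_O {q : ℕ} {d : ℤ} (h : ¬ NZ q d) :
    Subsingleton (Coh.HH (CohB1.ProjSpace 1 k) (O' 1 k d) q) :=
  Groth.L16.ProjSpace.subsingleton_HH_twist 1 k d q (fun h' => h (Or.inl h'))
    (fun h' => h (Or.inr ⟨h'.1, by omega⟩))

include hov in
/-- Vanishing on the product. -/
theorem subsingleton_O2 (a b : ℤ) (n : ℕ) (h : ∀ p q : ℕ, p + q = n → ¬ (NZ p a ∧ NZ q b)) :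
    Subsingleton (Coh.HH (Qd k) (O2 k a b) n) := by
  obtain ⟨e⟩ := nonempty_kunneth k hov a b n
  haveI : ∀ p : Fin (n + 1), Subsingleton (Coh.HH (CohB1.ProjSpace 1 k) (O' 1 k a) p.1 ⊗[k]
      Coh.HH (CohB1.ProjSpace 1 k) (O' 1 k b) (n - p.1)) := fun p => by
    refine subsingleton_of_forall_eq 0 fun z => ?_
    induction z using TensorProduct.induction_on with
    | zero => rfl
    | tmul x y =>
      by_cases h1 : NZ p.1 a
      · haveI := subsingleton_O k (fun h2 => h p.1 (n - p.1) (by omega) ⟨h1, h2⟩)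
        rw [Subsingleton.elim y 0, TensorProduct.tmul_zero]
      · haveI := subsingleton_O k h1
        rw [Subsingleton.elim x 0, TensorProduct.zero_tmul]
    | add x y hx hy => rw [hx, hy, add_zero]
  exact e.symm.toEquiv.subsingleton

include hov in
theorem finrank_H0_O2 (a b : ℤ) :
    Module.Finite k (Coh.HH (Qd k) (O2 k a b) 0) ∧
      Module.finrank k (Coh.HH (Qd k) (O2 k a b) 0) = (a + 1).toNat * (b + 1).toNat := by
  letI : (CohB1.ProjSpace 1 k).Over (Spec (CommRingCat.of k)) := ⟨CohB1.ProjSpace.toSpec 1 k⟩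
  haveI : IsProper (CohB1.ProjSpace 1 k ↘ Spec (CommRingCat.of k)) :=
    inferInstanceAs (IsProper (CohB1.ProjSpace.toSpec 1 k))
  obtain ⟨e⟩ := nonempty_kunneth k hov a b 0
  haveI : ∀ (d : ℤ) (q : ℕ), Module.Finite k (Coh.HH (CohB1.ProjSpace 1 k) (O' 1 k d) q) := fun d q =>
    Groth.L16.ProperFinite.finite_HH k (Groth.L21.P1.isCoh_O k d) q
  refine ⟨Module.Finite.equiv e, ?_⟩
  rw [← e.finrank_eq, Module.finrank_pi_fintype, Fin.sum_univ_one, Module.finrank_tensorProduct]
  have h1 := (Groth.L21.P1.h_O k a).1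
  have h2 := (Groth.L21.P1.h_O k b).1
  simp only [Fin.val_zero, Nat.sub_zero]
  rw [← h1, ← h2]
  rfl

end Groth.L03.ShStab.QuadricCoh
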