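import Groth.Agent.L03.ShStab.Bound
import Groth.Agent.L03.Euler.Push
import Groth.Agent.L17.ProjFormula
import Groth.Agent.L16.Exist.PushPull
import Groth.Agent.L16.Existence.Vanishing
import Groth.Agent.L03.ShStab.BC
import Mathlib.AlgebraicGeometry.Morphisms.Finite

/-!
# Hilbert polynomials along finite extensions of the ground field
-/

set_option linter.style.haveILetI false

universe u

open CategoryTheory CategoryTheory.Limits AlgebraicGeometry Polynomial StabCat

namespace Groth.L03.ShStab.FinExt

variable {k : Type u} [Field k] {X : Scheme.{u}} [X.Over (Spec (CommRingCat.of k))]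
  [IsProper (X ↘ Spec (CommRingCat.of k))] {K : Type u} [Field K] [Algebra k K] [Module.Finite k K]
  {Y : Scheme.{u}} [Y.Over (Spec (CommRingCat.of K))] {π : Y ⟶ X}
  (sq : IsPullback π (Y ↘ Spec (CommRingCat.of K)) (X ↘ Spec (CommRingCat.of k))
    (Spec.map (CommRingCat.ofHom (algebraMap k K))))

include sq in
theorem isFinite_π : IsFinite π :=
  MorphismProperty.of_isPullback (P := @IsFinite) sq.flip
    ((IsFinite.SpecMap_iff _).2 (RingHom.finite_algebraMap.2 ‹_›))

omit [IsProper (X ↘ Spec (CommRingCat.of k))] [Module.Finite k K] in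
theorem toGlobal_algebraMap (c : k) :
    Coh.toGlobal (Y ↘ Spec (CommRingCat.of K)) (algebraMap k K c) =
      Coh.toGlobal ((Y ↘ Spec (CommRingCat.of K)) ≫ Spec.map (CommRingCat.ofHom (algebraMap k K))) c := by
  have h := ConcreteCategory.congr_hom (Scheme.ΓSpecIso_inv_naturality (CommRingCat.ofHom (algebraMap k K))) c
  exact congrArg (Scheme.Hom.appTop (Y ↘ Spec (CommRingCat.of K))) h

include sq in
/-- The Euler characteristic of a direct image along a finite extension of the ground field. -/
theorem euler_push (M : Y.Modules) (hM : Coh.IsQCoh M) :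
    Curv2.euler k X ((Coh.push π).obj M) = (Module.finrank k K : ℤ) * Curv2.euler K Y M := by
  letI : Y.Over (Spec (CommRingCat.of k)) :=
    ⟨(Y ↘ Spec (CommRingCat.of K)) ≫ Spec.map (CommRingCat.ofHom (algebraMap k K))⟩
  haveI := isFinite_π sq
  haveI : X.IsSeparated := ⟨by rw [← terminal.comp_from (X ↘ Spec (CommRingCat.of k))]; infer_instance⟩
  rw [Groth.L03.Euler.euler_push π M hM sq.w]
  unfold Curv2.euler
  rw [mul_finsum]
  refine finsum_congr fun p => ?_
  haveI : IsScalarTower k K (Coh.HH Y M p) := IsScalarTower.of_algebraMap_smul fun c x =>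
    congrArg (fun r : Coh.Γtop Y => r • x) (toGlobal_algebraMap (Y := Y) c)
  rw [← Module.finrank_mul_finrank k K (Coh.HH Y M p), Nat.cast_mul]
  ring

include sq in
theorem isCoh_push {G : Y.Modules} (hG : Coh.IsCoh G) : Coh.IsCoh ((Coh.push π).obj G) :=
  haveI := isFinite_π sq
  haveI : IsLocallyNoetherian X := Basic.locallyNoetherian (k := k)
  Groth.L16.Exist.isCoh_pushforward π hG

include sq in
/-- The Hilbert polynomial of a direct image along a finite extension of the ground field. -/
theorem isHilbPoly_push {L : X.Modules} (hL : PicF.IsInvertible L) {G : Y.Modules} (hG : Coh.IsCoh G)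
    {P : ℚ[X]} (hP : _root_.ShStab.IsHilbPoly K Y ((Scheme.Modules.pullback π).obj L) G P) :
    _root_.ShStab.IsHilbPoly k X L ((Coh.push π).obj G) ((Module.finrank k K : ℚ) • P) := by
  intro m
  haveI : IsProper (Y ↘ Spec (CommRingCat.of K)) :=
    MorphismProperty.of_isPullback (P := @IsProper) sq inferInstance
  haveI : IsLocallyNoetherian Y := Basic.locallyNoetherian (k := K)
  have hN := Groth.L18.Ample.isInvertible_tensorPow hL m
  let N := CohB1.tensorPow L m
  let e : CohB1.tensorMod ((Coh.push π).obj G) N ≅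
      (Coh.push π).obj (CohB1.tensorMod G (CohB1.tensorPow ((Scheme.Modules.pullback π).obj L) m)) :=
    Groth.L00.Tensor.tensorComm _ N ≪≫
      (Groth.L17.ProjFormula.projIso π N (Groth.L16.Existence.isFinLocFree_of_isInvertible hN)).app G ≪≫
      (Coh.push π).mapIso (Groth.L00.Tensor.tensorComm _ G ≪≫
        Groth.L00.Tensor.tensorIso (Iso.refl G) (Groth.L18.Ample.pullPow π L m))
  have hq : Coh.IsQCoh (CohB1.tensorMod G (CohB1.tensorPow ((Scheme.Modules.pullback π).obj L) m)) :=
    (Groth.L03.Euler.isCoh_tensor (Groth.L18.Ample.isInvertible_tensorPow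
      (Groth.L18.Ample.isInvertible_pullback π hL) m) hG).1
  change (Curv2.euler k X (CohB1.tensorMod _ N) : ℚ) = _
  rw [Groth.L03.Euler.euler_iso (k := k) e, euler_push sq _ hq, Int.cast_mul, eval_smul, smul_eq_mul]
  exact congrArg (_ * ·) (hP m)

end Groth.L03.ShStab.FinExt
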