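import Groth.Agent.L03.ShStab.StabLattice
import Mathlib.Order.JordanHolder

/-!
# Jordan–Hölder theory of a semistable lattice
-/

open Polynomial StabCat

namespace Groth.L03.ShStab

open PolyOrd

universe u

namespace StabData

variable {Λ : Type u} [Lattice Λ] [BoundedOrder Λ] {d : ℕ} (D : StabData Λ d)

/-- `s` is a Jordan–Hölder series. -/
def IsJH (s : LTSeries Λ) : Prop :=
  s.head = ⊥ ∧ s.last = ⊤ ∧ ∀ i : Fin s.length,
    D.ISt (s i.castSucc) (s i.succ) ∧ RedEq d (D.q (s i.castSucc) (s i.succ)) (D.q ⊥ ⊤)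

/-- Elements with the slope of the whole. -/
def Mem (c : Λ) : Prop := D.q ⊥ c = D.av ⊥ c • D.r ⊥ ⊤

variable {D} (hss : D.ISS ⊥ ⊤)

include hss in
theorem mem_sup_inf {a b : Λ} (ha : D.Mem a) (hb : D.Mem b) : D.Mem (a ⊔ b) ∧ D.Mem (a ⊓ b) := by
  have e : D.q ⊥ (a ⊔ b) + D.q ⊥ (a ⊓ b) = D.q ⊥ a + D.q ⊥ b := by
    have := D.modular a b
    simp only [q]
    linear_combination this
  have eα : D.av ⊥ (a ⊔ b) + D.av ⊥ (a ⊓ b) = D.av ⊥ a + D.av ⊥ b := by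
    simp only [av, ← alpha_add, e]
  have h1 := hss.le_smul (c := a ⊔ b) bot_le le_top
  have h2 := hss.le_smul (c := a ⊓ b) bot_le le_top
  rw [polyLE_iff] at h1 h2
  have hsum : (D.av ⊥ (a ⊔ b) • D.r ⊥ ⊤ - D.q ⊥ (a ⊔ b)) + (D.av ⊥ (a ⊓ b) • D.r ⊥ ⊤ - D.q ⊥ (a ⊓ b)) = 0 := by
    have ha' : D.q ⊥ a = D.av ⊥ a • D.r ⊥ ⊤ := ha
    have hb' : D.q ⊥ b = D.av ⊥ b • D.r ⊥ ⊤ := hb
    rw [ha', hb', ← add_smul, ← eα, add_smul] at e
    linear_combination -e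
  have h1' : (D.av ⊥ (a ⊔ b) • D.r ⊥ ⊤ - D.q ⊥ (a ⊔ b)) = 0 := by
    have hneg := congrArg leadingCoeff (eq_neg_of_add_eq_zero_left hsum)
    rw [leadingCoeff_neg] at hneg
    exact leadingCoeff_eq_zero.1 (by linarith)
  refine ⟨(sub_eq_zero.1 h1').symm, ?_⟩
  rw [h1', zero_add] at hsum
  exact (sub_eq_zero.1 hsum).symm

theorem mem_bot : D.Mem ⊥ := by simp [Mem, q_self, av_self]

include hss in
theorem mem_top : D.Mem ⊤ := (D.smul_r hss.av_pos.ne').symm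

theorem q_of_mem {a b : Λ} (ha : D.Mem a) (hb : D.Mem b) : D.q a b = D.av a b • D.r ⊥ ⊤ := by
  have ha' : D.q ⊥ a = D.av ⊥ a • D.r ⊥ ⊤ := ha
  have hb' : D.q ⊥ b = D.av ⊥ b • D.r ⊥ ⊤ := hb
  rw [← D.q_add ⊥ a b, ← D.av_add ⊥ a b, ha', add_smul] at hb'
  exact add_left_cancel hb'

variable (strict : ∀ a b : Λ, a < b → D.p a ≠ D.p b)

include strict in
theorem av_pos_of_mem {a b : Λ} (ha : D.Mem a) (hb : D.Mem b) (h : a < b) : 0 < D.av a b := by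
  refine lt_of_le_of_ne (D.av_nonneg h.le) fun h0 => strict a b h ?_
  have := q_of_mem ha hb
  rw [← h0, zero_smul] at this
  exact (sub_eq_zero.1 this).symm

section

variable [IsModularLattice Λ]

/-- The sublattice of elements with the slope of the whole. -/
abbrev MemSub (hss : D.ISS ⊥ ⊤) : Sublattice Λ where
  carrier := {c | D.Mem c}
  supClosed' := fun _ ha _ hb => (mem_sup_inf hss ha hb).1
  infClosed' := fun _ ha _ hb => (mem_sup_inf hss ha hb).2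

instance : IsModularLattice (MemSub hss) :=
  ⟨fun {x} y {z} h => sup_inf_le_assoc_of_le (α := Λ) y.1 (show x.1 ≤ z.1 from h)⟩

include strict in
theorem iSt_of_covBy {a b : MemSub hss} (h : a ⋖ b) :
    D.ISt a.1 b.1 ∧ RedEq d (D.q a.1 b.1) (D.q ⊥ ⊤) := by
  have hab : a.1 < b.1 := h.lt
  have hα := av_pos_of_mem strict a.2 b.2 hab
  have hpos : ∀ c, a.1 < c → c ≤ b.1 →
      0 < D.av a.1 c ∧ PolyLE (D.q a.1 c) (D.av a.1 c • D.r ⊥ ⊤) := by
    intro c hac hcb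
    have h1 := hss.le_smul (c := c) bot_le le_top
    have h2 : D.q ⊥ a.1 = D.av ⊥ a.1 • D.r ⊥ ⊤ := a.2
    rw [← D.q_add ⊥ a.1 c, ← D.av_add ⊥ a.1 c, h2, add_smul] at h1
    have h3 : PolyLE (D.q a.1 c) (D.av a.1 c • D.r ⊥ ⊤) := by
      rw [polyLE_iff] at h1 ⊢
      rwa [add_sub_add_left_eq_sub] at h1
    refine ⟨lt_of_le_of_ne (D.av_nonneg hac.le) fun h0 => ?_, h3⟩
    rw [← h0, zero_smul] at h3
    exact strict a.1 c hac (sub_eq_zero.1 (polyLE_antisymm h3 (D.q_nonneg hac.le))).symm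
  have hr : D.r a.1 b.1 = D.r ⊥ ⊤ := by
    rw [r, q_of_mem a.2 b.2, red, alpha_smul, r, alpha_red hss.av_pos.ne', mul_one, smul_smul,
      inv_mul_cancel₀ hα.ne', one_smul]
  refine ⟨⟨hab, fun c h1 h2 => (hpos c h1 h2).1, fun c h1 h2 => ?_⟩,
    (redEq_iff hα hss.av_pos).2 hr⟩
  obtain ⟨hc, hle⟩ := hpos c h1 h2.le
  refine (redLT_iff hc hα).2 (not_polyLE_iff.1 fun h' => ?_)
  change PolyLE (D.r a.1 b.1) (D.r a.1 c) at h'
  rw [hr] at h'
  have e : D.r a.1 c = D.r ⊥ ⊤ := polyLE_antisymm ((D.q_le_smul_iff hc).1 hle) h'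
  have hm : D.Mem c := by
    have h4 : D.q ⊥ a.1 = D.av ⊥ a.1 • D.r ⊥ ⊤ := a.2
    rw [Mem, ← D.q_add ⊥ a.1 c, ← D.av_add ⊥ a.1 c, h4, add_smul, ← e, D.smul_r hc.ne']
  exact h.2 (c := ⟨c, hm⟩) (Subtype.mk_lt_mk.2 h1) (Subtype.mk_lt_mk.2 h2)

include hss in
theorem IsJH.mem {s : LTSeries Λ} (hs : D.IsJH s) (i : Fin (s.length + 1)) : D.Mem (s i) := by
  induction i using Fin.induction with
  | zero => rw [show s 0 = ⊥ from hs.1]; exact mem_bot
  | succ i ih =>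
    obtain ⟨h1, h2⟩ := hs.2.2 i
    have e := (redEq_iff h1.iss.av_pos hss.av_pos).1 h2
    rw [Mem, ← D.q_add ⊥ (s i.castSucc), ← D.av_add ⊥ (s i.castSucc), add_smul,
      show D.q ⊥ (s i.castSucc) = D.av ⊥ (s i.castSucc) • D.r ⊥ ⊤ from ih,
      ← D.smul_r h1.iss.av_pos.ne']
    simp only [r, e]

include hss strict in
theorem exists_isJH [WellFoundedGT Λ] : ∃ s, D.IsJH s := by
  haveI : WellFoundedLT (MemSub hss) :=
    StrictMono.wellFoundedLT (f := fun a => D.ν a.1) fun a b h =>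
      D.ν_lt_of_av_pos (av_pos_of_mem strict a.2 b.2 h)
  haveI : WellFoundedGT (MemSub hss) :=
    StrictMono.wellFoundedGT (f := fun a => a.1) fun _ _ h => h
  obtain ⟨f, h0, n, hn, hc⟩ := exists_covBy_seq_of_wellFoundedLT_wellFoundedGT_of_le
    (x := (⟨⊥, mem_bot⟩ : MemSub hss)) (y := ⟨⊤, mem_top hss⟩) (show (⊥ : Λ) ≤ ⊤ from bot_le)
  refine ⟨⟨n, fun i => (f i.val).1, fun i => (hc i.val i.2).lt⟩,
    congrArg Subtype.val h0, congrArg Subtype.val hn, fun i => ?_⟩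
  exact iSt_of_covBy hss strict (hc i.val i.2)

include hss in
/-- Matching of the factors of two Jordan–Hölder series. -/
theorem IsJH.exists_equiv {s t : LTSeries Λ} (hs : D.IsJH s) (ht : D.IsJH t) {Q : Λ × Λ → Λ × Λ → Prop}
    (hrefl : ∀ x, Q x x) (hsymm : ∀ {x y}, Q x y → Q y x) (htrans : ∀ {x y z}, Q x y → Q y z → Q x z)
    (hQ : ∀ x y, Q (x, x ⊔ y) (x ⊓ y, y)) :
    ∃ e : Fin s.length ≃ Fin t.length, ∀ i,
      Q (s i.castSucc, s i.succ) (t (e i).castSucc, t (e i).succ) := by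
  have hmk : ∀ {u : LTSeries Λ} (hu : D.IsJH u) (i : Fin u.length),
      (⟨u i.castSucc, IsJH.mem hss hu _⟩ : MemSub hss) ⋖ ⟨u i.succ, IsJH.mem hss hu _⟩ := by
    intro u hu i
    obtain ⟨h1, h2⟩ := hu.2.2 i
    refine ⟨h1.1, fun c hc1 hc2 => ?_⟩
    have hlt := h1.2.2 c.1 hc1 hc2
    have hc : 0 < D.av (u i.castSucc) c.1 := h1.2.1 _ hc1 hc2.le
    refine ne_of_polyLT ((redLT_iff hc h1.iss.av_pos).1 hlt) ?_
    rw [(redEq_iff h1.iss.av_pos hss.av_pos).1 h2, q_of_mem (IsJH.mem hss hu _) c.2, red,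
      alpha_smul, r, alpha_red hss.av_pos.ne', mul_one, smul_smul, inv_mul_cancel₀ hc.ne', one_smul]
  let cs : ∀ {u : LTSeries Λ}, D.IsJH u → CompositionSeries (MemSub hss) := fun {u} hu =>
    ⟨u.length, fun i => ⟨u i, IsJH.mem hss hu i⟩, fun i => hmk hu i⟩
  obtain ⟨e, he⟩ := CompositionSeries.jordan_holder (cs hs) (cs ht)
    (Subtype.ext (hs.1.trans ht.1.symm)) (Subtype.ext (hs.2.1.trans ht.2.1.symm))
  refine ⟨e, fun i => ?_⟩
  have key : ∀ x y, JordanHolderLattice.Iso (X := MemSub hss) x y → Q (x.1.1, x.2.1) (y.1.1, y.2.1) := by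
    intro x y h
    induction h with
    | rel x y hxy =>
      obtain ⟨-, h1, h2⟩ := hxy
      rw [h1, h2]
      exact hQ _ _
    | refl => exact hrefl _
    | symm _ _ _ ih => exact hsymm ih
    | trans _ _ _ _ _ ih₁ ih₂ => exact htrans ih₁ ih₂
  exact key _ _ (he i)

end

end StabData

end Groth.L03.ShStab
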