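import Groth.Agent.L03.ShStab.Bridge
import Groth.Agent.L03.ShStab.StabJH
import Groth.Agent.L17.CohClass

/-!
# Harder–Narasimhan and Jordan–Hölder filtrations of coherent modules
-/

universe u

open CategoryTheory CategoryTheory.Limits AlgebraicGeometry Polynomial StabCat
open Groth.L03.Euler
open Groth.L00.SubobjLattice (qt qπ)

namespace Groth.L03.ShStab

theorem isSemistable_iso {k : Type u} [Field k] {X : Scheme.{u}} [X.Over (Spec (CommRingCat.of k))]
    [IsProper (X ↘ Spec (CommRingCat.of k))] {L : X.Modules} {d : ℕ} {E E' : X.Modules} (e : E ≅ E')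
    (h : _root_.ShStab.IsSemistable k X L E d) : _root_.ShStab.IsSemistable k X L E' d := by
  haveI : IsLocallyNoetherian X := Basic.locallyNoetherian (k := k)
  refine ⟨Groth.L16.CohSupport.isCoh_of_iso e h.1, fun h0 => h.2.1 (h0.of_iso e),
    fun F ι hι hF h0 => ?_, fun F ι hι hF h0 hi pF pE hpF hpE => ?_⟩
  · haveI := hι
    exact h.2.2.1 F (ι ≫ e.inv) (mono_comp _ _) hF h0
  · haveI := hι
    refine h.2.2.2 F (ι ≫ e.inv) (mono_comp _ _) hF h0 (fun hi' => hi ?_) pF pE hpF (isHilbPoly_iso e.symm hpE)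
    have : ι = (ι ≫ e.inv) ≫ e.hom := by simp
    rw [this]; infer_instance

namespace Filt

open Bridge Basic

variable {X : Scheme.{u}} [IsNoetherian X] {E : X.Modules}

/-- A series of coherent submodules as a series of submodules. -/
noncomputable def ofLat {hE : Coh.IsCoh E} (t : LTSeries (cohLattice hE)) : LTSeries (Subobject E) :=
  LTSeries.map t (fun a => a.1) fun _ _ h => h

theorem isCoh_of_factors {s : LTSeries (Subobject E)} (h0 : s.head = ⊥)
    (h : ∀ i : Fin s.length, Coh.IsCoh (StabCat.factor s i)) (i : Fin (s.length + 1)) :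
    Coh.IsCoh ((s i : Subobject E) : X.Modules) := by
  induction i using Fin.induction with
  | zero => rw [show s 0 = ⊥ from h0]; exact isCoh_bot
  | succ i ih =>
    exact Groth.L17.CohClass.isCoh_of_shortExact _ (shortExact_ofLE (le_of_lt (s.step i))) ih (h i)

theorem exists_lat (hE : Coh.IsCoh E) {s : LTSeries (Subobject E)} (h0 : s.head = ⊥)
    (h : ∀ i : Fin s.length, Coh.IsCoh (StabCat.factor s i)) :
    ∃ t : LTSeries (cohLattice hE), ofLat t = s :=
  ⟨⟨s.length, fun i => ⟨s i, isCoh_of_factors h0 h i⟩, fun i => s.step i⟩, rfl⟩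

variable {k : Type u} [Field k] [X.Over (Spec (CommRingCat.of k))]
  [IsProper (X ↘ Spec (CommRingCat.of k))] {L : X.Modules} {d : ℕ}
variable (hL : CohB1.IsAmple L) (hE : Coh.IsCoh E) (hd : topologicalKrullDim (CohB1.support E) ≤ d)

theorem isHN_iff (t : LTSeries (cohLattice hE)) :
    _root_.ShStab.IsHNFiltration k X L E d (ofLat t) ↔ (stabData (k := k) hL hE hd).IsHN ⊥ t := by
  constructor
  · rintro ⟨h0, h1, h2, h3⟩
    refine ⟨Subtype.ext h0, Subtype.ext h1,
      fun i => (isSemistable_qt_iff (k := k) hL hE hd (t.step i).le).1 (h2 i), fun i j hij => ?_⟩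
    exact h3 i j hij _ _ (hilb_q hL hE hd (t.step i).le) (hilb_q hL hE hd (t.step j).le)
  · rintro ⟨h0, h1, h2, h3⟩
    refine ⟨congrArg Subtype.val h0, congrArg Subtype.val h1,
      fun i => (isSemistable_qt_iff (k := k) hL hE hd (t.step i).le).2 (h2 i), fun i j hij p q hp' hq => ?_⟩
    rw [isHilbPoly_unique hp' (hilb_q hL hE hd (t.step i).le),
      isHilbPoly_unique hq (hilb_q hL hE hd (t.step j).le)]
    exact h3 i j hij

theorem isJH_iff (t : LTSeries (cohLattice hE)) :
    _root_.ShStab.IsJHFiltration k X L E d (ofLat t) ↔ (stabData (k := k) hL hE hd).IsJH t := by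
  obtain ⟨P, hP⟩ := exists_hilb (k := k) hL.1 hE hd
  constructor
  · rintro ⟨h0, h1, h2⟩
    refine ⟨Subtype.ext h0, Subtype.ext h1, fun i => ⟨(isStable_qt_iff (k := k) hL hE hd (t.step i).le).1 (h2 i).1, ?_⟩⟩
    rw [q_bot_top hL hE hd hP]
    exact (h2 i).2 _ _ (hilb_q hL hE hd (t.step i).le) hP
  · rintro ⟨h0, h1, h2⟩
    refine ⟨congrArg Subtype.val h0, congrArg Subtype.val h1,
      fun i => ⟨(isStable_qt_iff (k := k) hL hE hd (t.step i).le).2 (h2 i).1, fun p q hp' hq => ?_⟩⟩
    rw [isHilbPoly_unique hp' (hilb_q hL hE hd (t.step i).le), isHilbPoly_unique hq hP,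
      ← q_bot_top hL hE hd hP]
    exact (h2 i).2

include hL hE in
/-- Existence and uniqueness of the Harder–Narasimhan filtration. -/
theorem existsUnique_isHNFiltration (hp' : _root_.ShStab.IsPure X E d) :
    ∃! s : LTSeries (Subobject E), _root_.ShStab.IsHNFiltration k X L E d s := by
  have hd := dim_le_of_isPure hE hp'
  obtain ⟨t, ht, huniq⟩ := StabData.existsUnique_isHN (D := stabData (k := k) hL hE hd) ⊥
    (iPure_bot_top hL hE hd hp')
  refine ⟨ofLat t, (isHN_iff hL hE hd t).2 ht, fun s hs => ?_⟩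
  obtain ⟨t', rfl⟩ := exists_lat hE hs.1 fun i => (hs.2.2.1 i).1
  rw [huniq t' ((isHN_iff hL hE hd t').1 hs)]

theorem q_bot (a : cohLattice hE) :
    (stabData (k := k) hL hE hd).q ⊥ a = hp (k := k) hL hE hd a := by
  change _ - hp (k := k) hL hE hd ⊥ = _
  rw [isHilbPoly_unique (hp_spec hL hE hd ⊥) (isHilbPoly_zero (k := k) hL.1
    (IsZero.of_iso (isZero_zero _) Subobject.botCoeIsoZero)), sub_zero]
  rfl

/-- A coherent submodule, as an element of the lattice, with its polynomial. -/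
theorem exists_mem (F : X.Modules) (ι : F ⟶ E) [Mono ι] (hF : Coh.IsCoh F) {P : ℚ[X]}
    (hP : _root_.ShStab.IsHilbPoly k X L F P) :
    ∃ a : cohLattice hE, a.1 = Subobject.mk ι ∧ (stabData (k := k) hL hE hd).q ⊥ a = P ∧
      (¬ IsZero F → ⊥ < a) ∧ (¬ IsIso ι → a < ⊤) := by
  let a : cohLattice hE := ⟨Subobject.mk ι,
    Groth.L16.CohSupport.isCoh_of_iso (Subobject.underlyingIso ι).symm hF⟩
  refine ⟨a, rfl, ?_, fun h0 => lt_of_le_of_ne bot_le fun h => h0 ?_, fun hi => lt_of_le_of_ne le_top fun h => hi ?_⟩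
  · rw [q_bot]
    exact isHilbPoly_unique (hp_spec hL hE hd a) (isHilbPoly_iso (Subobject.underlyingIso ι).symm hP)
  · have h' : Subobject.mk ι = ⊥ := congrArg Subtype.val h.symm
    exact IsZero.of_mono_eq_zero ι ((Subobject.mk_eq_bot_iff_zero).1 h')
  · exact (Subobject.isIso_iff_mk_eq_top ι).2 (congrArg Subtype.val h)

/-- The quotient by a submodule as a factor. -/
theorem nonempty_qt_top (a : Subobject E) : Nonempty (qt a ⊤ le_top ≅ cokernel a.arrow) :=
  ⟨cokernel.mapIso _ _ (Iso.refl _) (asIso (⊤ : Subobject E).arrow) (by simp)⟩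

theorem iss_bot_top (hs : _root_.ShStab.IsSemistable k X L E d) :
    (stabData (k := k) hL hE hd).ISS ⊥ ⊤ := by
  refine (isSemistable_qt_iff (k := k) hL hE hd (show (⊥ : Subobject E) ≤ ⊤ from bot_le)).1 ?_
  let e : qt (⊥ : Subobject E) ⊤ bot_le ≅ E :=
    (cokernelIsoOfEq (g := 0) ((IsZero.of_iso (isZero_zero _) Subobject.botCoeIsoZero).eq_of_src _ _)) ≪≫
      cokernelZeroIsoTarget ≪≫ asIso (⊤ : Subobject E).arrow
  exact isSemistable_iso e.symm hs

end Filt

end Groth.L03.ShStab
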