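import Groth.Agent.L03.ShStab.BCSemistable
import Groth.Agent.L03.ShStab.Filtrations

/-!
# Harder–Narasimhan filtrations under extensions of the ground field
-/

set_option autoImplicit false
set_option linter.style.haveILetI false

universe u

open CategoryTheory CategoryTheory.Limits AlgebraicGeometry Polynomial StabCat
open Groth.L03.Euler
open Groth.L00.SubobjLattice (qt qπ)

noncomputable section

namespace Groth.L03.ShStab.BC

open Groth.L16.AffineBC

section Flat

variable {X Y : Scheme.{u}} (f : Y ⟶ X) [Flat f] {E : X.Modules}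

/-- The pulled back subobject. -/
def pbSub (a : Subobject E) : Subobject ((Scheme.Modules.pullback f).obj E) :=
  haveI := mono_pullback f a.arrow
  Subobject.mk ((Scheme.Modules.pullback f).map a.arrow)

/-- The underlying module of the pulled back subobject. -/
def pbIso (a : Subobject E) : (pbSub f a : Y.Modules) ≅ (Scheme.Modules.pullback f).obj (a : X.Modules) :=
  haveI := mono_pullback f a.arrow
  Subobject.underlyingIso _

theorem pbIso_hom_arrow (a : Subobject E) :
    (pbIso f a).hom ≫ (Scheme.Modules.pullback f).map a.arrow = (pbSub f a).arrow :=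
  haveI := mono_pullback f a.arrow
  Subobject.underlyingIso_hom_comp_eq_mk _

theorem pbSub_mono {a b : Subobject E} (h : a ≤ b) : pbSub f a ≤ pbSub f b :=
  haveI := mono_pullback f a.arrow
  Subobject.mk_le_of_comm ((Scheme.Modules.pullback f).map (Subobject.ofLE a b h) ≫ (pbIso f b).inv) (by
    rw [Category.assoc, ← pbIso_hom_arrow, Iso.inv_hom_id_assoc, ← Functor.map_comp, Subobject.ofLE_arrow])

theorem ofLE_pbSub {a b : Subobject E} (h : a ≤ b) :
    (pbIso f a).hom ≫ (Scheme.Modules.pullback f).map (Subobject.ofLE a b h) =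
      Subobject.ofLE _ _ (pbSub_mono f h) ≫ (pbIso f b).hom := by
  haveI := mono_pullback f b.arrow
  rw [← cancel_mono ((Scheme.Modules.pullback f).map b.arrow), Category.assoc, Category.assoc,
    ← Functor.map_comp, Subobject.ofLE_arrow, pbIso_hom_arrow, pbIso_hom_arrow, Subobject.ofLE_arrow]

theorem pbSub_lt [Surjective f] {a b : Subobject E} (h : a < b) : pbSub f a < pbSub f b := by
  refine lt_of_le_of_ne (pbSub_mono f h.le) fun he => h.ne ?_
  haveI : Mono (Subobject.ofLE a b h.le) := inferInstance
  have h1 : IsIso (Subobject.ofLE _ _ (pbSub_mono f h.le)) := by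
    refine ⟨Subobject.ofLE _ _ he.ge, ?_, ?_⟩ <;> rw [Subobject.ofLE_comp_ofLE, Subobject.ofLE_refl]
  haveI := h1
  have h2 : IsIso ((Scheme.Modules.pullback f).map (Subobject.ofLE a b h.le)) := by
    rw [show (Scheme.Modules.pullback f).map (Subobject.ofLE a b h.le) =
      (pbIso f a).inv ≫ Subobject.ofLE _ _ (pbSub_mono f h.le) ≫ (pbIso f b).hom by
        rw [← ofLE_pbSub, Iso.inv_hom_id_assoc]]
    infer_instance
  haveI := isIso_of_pullback f _ h2
  exact le_antisymm h.le (Subobject.le_of_comm (inv (Subobject.ofLE a b h.le)) (by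
    rw [IsIso.inv_comp_eq, Subobject.ofLE_arrow]))

/-- The quotient of pulled back subobjects. -/
def pbQtIso {a b : Subobject E} (h : a ≤ b) :
    qt (pbSub f a) (pbSub f b) (pbSub_mono f h) ≅ (Scheme.Modules.pullback f).obj (qt a b h) :=
  haveI := (Scheme.Modules.pullbackPushforwardAdjunction f).leftAdjoint_preservesColimits
  cokernel.mapIso _ _ (pbIso f a) (pbIso f b) (ofLE_pbSub f h).symm ≪≫
    (PreservesCokernel.iso (Scheme.Modules.pullback f) (Subobject.ofLE a b h)).symm

theorem pbSub_top : pbSub f (⊤ : Subobject E) = ⊤ := by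
  haveI := mono_pullback f (⊤ : Subobject E).arrow
  exact (Subobject.isIso_iff_mk_eq_top _).1 inferInstance

theorem pbSub_bot : pbSub f (⊥ : Subobject E) = ⊥ := by
  haveI := mono_pullback f (⊥ : Subobject E).arrow
  rw [pbSub, Subobject.mk_eq_bot_iff_zero]
  exact ((Scheme.Modules.pullback f).map_isZero
    (IsZero.of_iso (isZero_zero _) Subobject.botCoeIsoZero)).eq_of_src _ _

/-- The pulled back series. -/
def pbSeries [Surjective f] (s : LTSeries (Subobject E)) :
    LTSeries (Subobject ((Scheme.Modules.pullback f).obj E)) :=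
  ⟨s.length, fun i => pbSub f (s i), fun i => pbSub_lt f (s.step i)⟩

end Flat

variable {k : Type u} [Field k] {X : Scheme.{u}} [X.Over (Spec (CommRingCat.of k))]
  [IsProper (X ↘ Spec (CommRingCat.of k))] {L E : X.Modules} {d : ℕ}

omit [IsProper (X ↘ Spec (CommRingCat.of k))] in
theorem flat_gb (K : Type u) [Field K] [Algebra k K] : Flat (gb k K X) :=
  haveI := flat_specMap (k := k) K
  MorphismProperty.of_isPullback (P := @Flat) (IsPullback.of_hasPullback _ _).flip inferInstance

omit [IsProper (X ↘ Spec (CommRingCat.of k))] in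
theorem surjective_gb (K : Type u) [Field K] [Algebra k K] : Surjective (gb k K X) :=
  haveI := surjective_specMap (k := k) K
  MorphismProperty.of_isPullback (P := @Surjective) (IsPullback.of_hasPullback _ _).flip inferInstance

/-- The dimension of the support is invariant under extension of the ground field. -/
theorem dim_support_bc (hL : CohB1.IsAmple L) (hE : Coh.IsCoh E) (h0 : ¬ IsZero E)
    (hd : topologicalKrullDim (CohB1.support E) = d) (K : Type u) [Field K] [Algebra k K] :
    topologicalKrullDim (CohB1.support ((Scheme.Modules.pullback (gb k K X)).obj E)) = d := by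
  haveI := flat_gb (X := X) (k := k) K
  haveI := surjective_gb (X := X) (k := k) K
  haveI : IsLocallyNoetherian X := Basic.locallyNoetherian (k := k)
  haveI : IsLocallyNoetherian (Xb k K X) := Basic.locallyNoetherian (k := K)
  have hEK := isCoh_pullback (gb k K X) hE
  have hLK := Groth.L18.Ample.isAmple_pullback_of_isAffineHom (gb k K X) hL
  obtain ⟨pE, hpE⟩ := Basic.exists_hilb (k := k) hL.1 hE hd.le
  have hpEK := isHilbPoly_pullback (gb k K X) (IsPullback.of_hasPullback _ _) hL.1 hE (K := K) hpE
  obtain ⟨N, hN⟩ := exists_dim_bound K (Xb k K X)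
  obtain ⟨e, -, he⟩ := Basic.exists_nat_dim (fun h => h0 (isZero_of_pullback (gb k K X) h))
    ((Topology.IsInducing.subtypeVal.topologicalKrullDim_le).trans hN)
  rw [he, (natDegree_eq_and_coeff_pos hLK hEK he hpEK).1.symm.trans
    (natDegree_eq_and_coeff_pos hL hE hd hpE).1]

/-- Harder–Narasimhan filtrations pull back to Harder–Narasimhan filtrations. -/
theorem hn_bc (hL : CohB1.IsAmple L) (hE : Coh.IsCoh E) (h0 : ¬ IsZero E)
    (hp : _root_.ShStab.IsPure X E d) {s : LTSeries (Subobject E)}
    (hs : _root_.ShStab.IsHNFiltration k X L E d s) (K : Type u) [Field K] [Algebra k K]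
    {s' : LTSeries (Subobject ((Scheme.Modules.pullback (gb k K X)).obj E))}
    (hs' : _root_.ShStab.IsHNFiltration K (Xb k K X) ((Scheme.Modules.pullback (gb k K X)).obj L)
      ((Scheme.Modules.pullback (gb k K X)).obj E) d s') :
    s'.length = s.length ∧
      ∀ (i : Fin (s.length + 1)) (j : Fin (s'.length + 1)), i.val = j.val →
        ∃ e : (s' j : (Xb k K X).Modules) ≅
            (Scheme.Modules.pullback (gb k K X)).obj ((s i : Subobject E) : X.Modules),
          e.hom ≫ (Scheme.Modules.pullback (gb k K X)).map (s i).arrow = (s' j).arrow := by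
  haveI := flat_gb (X := X) (k := k) K
  haveI := surjective_gb (X := X) (k := k) K
  haveI : IsLocallyNoetherian X := Basic.locallyNoetherian (k := k)
  haveI : IsLocallyNoetherian (Xb k K X) := Basic.locallyNoetherian (k := K)
  haveI : CompactSpace X := QuasiCompact.compactSpace_of_compactSpace (X ↘ Spec (CommRingCat.of k))
  haveI : CompactSpace (Xb k K X) :=
    QuasiCompact.compactSpace_of_compactSpace (Xb k K X ↘ Spec (CommRingCat.of K))
  haveI : IsNoetherian X := {}
  haveI : IsNoetherian (Xb k K X) := {}
  let f := gb k K X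
  let EK := (Scheme.Modules.pullback f).obj E
  have hEK : Coh.IsCoh EK := isCoh_pullback f hE
  have hLK := Groth.L18.Ample.isAmple_pullback_of_isAffineHom f hL
  have hdE : topologicalKrullDim (CohB1.support E) = d := hp E (𝟙 E) inferInstance hE h0
  have hdK := dim_support_bc (k := k) hL hE h0 hdE K
  let t := pbSeries f s
  have hfac : ∀ i : Fin s.length,
      Nonempty (StabCat.factor t i ≅ (Scheme.Modules.pullback f).obj (StabCat.factor s i)) :=
    fun i => ⟨pbQtIso f (le_of_lt (s.step i))⟩
  have hsst : ∀ i : Fin t.length, _root_.ShStab.IsSemistable K (Xb k K X)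
      ((Scheme.Modules.pullback f).obj L) (StabCat.factor t i) d := fun i => by
    obtain ⟨e⟩ := hfac i
    exact isSemistable_iso e.symm (isSemistable_bc hL (hs.2.2.1 i) K)
  have ht : _root_.ShStab.IsHNFiltration K (Xb k K X) ((Scheme.Modules.pullback f).obj L) EK d t := by
    refine ⟨(congrArg (pbSub f) hs.1).trans (pbSub_bot f), (congrArg (pbSub f) hs.2.1).trans (pbSub_top f),
      hsst, fun i j hij p q hp' hq => ?_⟩
    have key : ∀ l : Fin s.length, ∀ r, _root_.ShStab.IsHilbPoly K (Xb k K X)
        ((Scheme.Modules.pullback f).obj L) (StabCat.factor t l) r →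
        _root_.ShStab.IsHilbPoly k X L (StabCat.factor s l) r := fun l r hr => by
      obtain ⟨e⟩ := hfac l
      have hl := hs.2.2.1 l
      obtain ⟨r', hr'⟩ := Basic.exists_hilb (k := k) hL.1 hl.1 (Basic.dim_le_of_isPure hl.1 hl.2.2.1)
      have h1 := isHilbPoly_pullback f (IsPullback.of_hasPullback _ _) hL.1 hl.1 (K := K) hr'
      rwa [isHilbPoly_unique (isHilbPoly_iso e hr) h1]
    exact hs.2.2.2 i j hij p q (key i p hp') (key j q hq)
  have hcoh := Filt.isCoh_of_factors ht.1 fun i => (hsst i).1
  have hpt : ∀ i : Fin (t.length + 1), _root_.ShStab.IsPure (Xb k K X) ((t i : Subobject EK) : (Xb k K X).Modules) d := by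
    intro i
    induction i using Fin.induction with
    | zero =>
      rw [show t 0 = ⊥ from ht.1]
      intro F ι hι _ hF0
      haveI := hι
      exact absurd (IsZero.of_mono_eq_zero ι
        ((IsZero.of_iso (isZero_zero _) Subobject.botCoeIsoZero).eq_of_tgt _ _)) hF0
    | succ i ih =>
      exact Mu.isPure_ext (Bridge.shortExact_ofLE (le_of_lt (t.step i))) (hcoh _) (hsst i).1 ih (hsst i).2.2.1
        (Basic.dim_sub_le (t i.succ).arrow hdK.le) K
  have hpK : _root_.ShStab.IsPure (Xb k K X) EK d := by
    have h := hpt (Fin.last _)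
    rw [show t (Fin.last _) = ⊤ from ht.2.1] at h
    exact Basic.isPure_sub h (inv (⊤ : Subobject EK).arrow)
  obtain rfl : s' = t := (Filt.existsUnique_isHNFiltration (k := K) hLK hEK hpK).unique hs' ht
  refine ⟨rfl, fun i j hij => ?_⟩
  obtain rfl : i = j := Fin.ext hij
  exact ⟨pbIso f (s i), pbIso_hom_arrow f (s i)⟩

end Groth.L03.ShStab.BC
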