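import Groth.Agent.L03.ShStab.FinExtPoly
import Groth.Agent.L16.AffineBC.OverBase
import Groth.Agent.L16.AffineBC.Local
import Mathlib.LinearAlgebra.Dimension.Free

/-!
# Submodules after a finite extension of the ground field
-/

set_option autoImplicit false
set_option linter.style.haveILetI false

universe u

open CategoryTheory CategoryTheory.Limits AlgebraicGeometry Polynomial StabCat TopologicalSpace Opposite
open scoped TensorProduct

namespace Groth.L03.ShStab.FinExt

open Groth.L16.AffineBC
open Groth.L18.Frame (rs ro pull)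

variable (k : Type u) [Field k] (X : Scheme.{u}) [X.Over (Spec (CommRingCat.of k))]
  (K : Type u) [Field K] [Algebra k K]

theorem app_res {A B : X.Modules} (φ : A ⟶ B) {U V : X.Opens} (h : V ≤ U) (m : Γ(A, U)) :
    φ.app V (A.presheaf.map (homOfLE h).op m) = B.presheaf.map (homOfLE h).op (φ.app U m) :=
  ConcreteCategory.congr_hom (φ.mapPresheaf.naturality (homOfLE h).op) m

/-- The coordinates of `π_* π^* F` along a basis of the extension field, jointly monic. -/
theorem exists_coords (F : X.Modules) [Coh.IsQCoh F] {n : ℕ} (b : Module.Basis (Fin n) k K) :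
    ∃ p : Fin n → (G k K X F ⟶ F),
      ∀ (Z : X.Modules) (x : Z ⟶ G k K X F), (∀ i, x ≫ p i = 0) → x = 0 := by
  classical
  letI mk : ∀ U : X.Opens, Module k Γ(F, U) := fun U => Module.compHom _ (scal k X U)
  choose E hE using fun U : X.affineOpens => exists_equiv k K X F U.2
  let φ₀ : Fin n → ∀ U : X.Opens, IsAffineOpen U → (Γ(G k K X F, U) →+ Γ(F, U)) := fun i U hU =>
    (((TensorProduct.lid k Γ(F, U)).toLinearMap ∘ₗ (b.coord i).rTensor Γ(F, U)).toAddMonoidHom).comp
      (E ⟨U, hU⟩).symm.toAddMonoidHom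
  have hφ : ∀ i U hU (c : K) (m : Γ(F, U)),
      φ₀ i U hU ((β k K X F c).app U ((η k K X F).app U m)) = b.coord i c • m := by
    intro i U hU c m
    rw [← hE ⟨U, hU⟩ c m]
    show (TensorProduct.lid k Γ(F, U)) ((b.coord i).rTensor Γ(F, U) ((E ⟨U, hU⟩).symm (E ⟨U, hU⟩ (c ⊗ₜ m)))) = _
    rw [AddEquiv.symm_apply_apply, LinearMap.rTensor_tmul, TensorProduct.lid_tmul]
  have hp : ∀ i, ∃ p : G k K X F ⟶ F, ∀ (U : X.Opens) (hU : IsAffineOpen U) (m : Γ(G k K X F, U)),
      p.app U m = φ₀ i U hU m := by
    intro i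
    refine exists_hom_affine (φ₀ i) (fun U V hU hV h m => ?_) (fun U hU r m => ?_)
    · obtain ⟨z, rfl⟩ := (E ⟨U, hU⟩).surjective m
      induction z using TensorProduct.induction_on with
      | zero => simp only [map_zero]
      | tmul c m =>
        rw [hE ⟨U, hU⟩ c m, hφ, ← app_res, ← app_res, hφ]
        show _ = F.presheaf.map (homOfLE h).op (scal k X U (b.coord i c) • m)
        rw [Scheme.Modules.map_smul]
        refine congrArg (fun r : Γ(X, V) => r • F.presheaf.map (homOfLE h).op m) ?_
        show scal k X V (b.coord i c) =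
          ((X.presheaf.map (homOfLE (le_top : U ≤ ⊤)).op) ≫ X.presheaf.map (homOfLE h).op) _
        rw [← Functor.map_comp]
        rfl
      | add x y hx hy => simp only [map_add, hx, hy]
    · obtain ⟨z, rfl⟩ := (E ⟨U, hU⟩).surjective m
      induction z using TensorProduct.induction_on with
      | zero => simp only [map_zero, smul_zero]
      | tmul c m =>
        rw [hE ⟨U, hU⟩ c m, hφ, ← Scheme.Modules.Hom.app_smul, ← Scheme.Modules.Hom.app_smul, hφ]
        show scal k X U (b.coord i c) • r • m = r • scal k X U (b.coord i c) • m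
        rw [smul_smul, smul_smul, mul_comm]
      | add x y hx hy => simp only [map_add, smul_add, hx, hy]
  choose p hp using hp
  refine ⟨p, fun Z x hx => hom_ext_affine _ _ fun U hU m => ?_⟩
  show x.app U m = 0
  obtain ⟨z, hz⟩ := (E ⟨U, hU⟩).surjective (x.app U m)
  have h0 : ∀ i, (b.coord i).rTensor Γ(F, U) z = 0 := by
    intro i
    apply (TensorProduct.lid k Γ(F, U)).injective
    rw [map_zero]
    have h1 : (p i).app U (x.app U m) = 0 :=
      congrArg (fun q : Z ⟶ F => q.app U m) (hx i)
    rw [hp i U hU, ← hz] at h1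
    simp only [φ₀, AddMonoidHom.coe_comp, Function.comp_apply, AddEquiv.coe_toAddMonoidHom,
      AddEquiv.symm_apply_apply] at h1
    exact h1
  have hz0 : z = 0 := by
    apply (TensorProduct.equivFinsuppOfBasisLeft b).injective
    rw [map_zero]
    ext i
    have := congrArg (TensorProduct.lid k Γ(F, U)) (h0 i)
    rw [map_zero] at this
    rw [TensorProduct.equivFinsuppOfBasisLeft_apply]
    exact this
  rw [← hz, hz0, map_zero]

variable {k X K} [IsProper (X ↘ Spec (CommRingCat.of k))] [Module.Finite k K]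

/-- Submodules of a semistable module after a finite extension of the ground field. -/
theorem exists_redLE {L E : X.Modules} (hL : CohB1.IsAmple L) {d : ℕ}
    (hE : _root_.ShStab.IsSemistable k X L E d) {pE : ℚ[X]} (hpE : _root_.ShStab.IsHilbPoly k X L E pE)
    {F : (Xb k K X).Modules} (ι : F ⟶ (Scheme.Modules.pullback (gb k K X)).obj E) [Mono ι]
    (hF : Coh.IsCoh F) {pF : ℚ[X]}
    (hpF : _root_.ShStab.IsHilbPoly K (Xb k K X) ((Scheme.Modules.pullback (gb k K X)).obj L) F pF) :
    RedLE d pF pE := by
  haveI : Coh.IsQCoh E := hE.1.1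
  have sq : IsPullback (gb k K X) (Xb k K X ↘ Spec (CommRingCat.of K)) (X ↘ Spec (CommRingCat.of k))
      (Spec.map (CommRingCat.ofHom (algebraMap k K))) := IsPullback.of_hasPullback _ _
  let b := Module.finBasis k K
  obtain ⟨p, hp⟩ := exists_coords k X K E b
  haveI : (Scheme.Modules.pushforward (gb k K X)).IsRightAdjoint :=
    (Scheme.Modules.pullbackPushforwardAdjunction (gb k K X)).isRightAdjoint
  haveI : Mono ((Coh.push (gb k K X)).map ι) := inferInstanceAs (Mono ((Scheme.Modules.pushforward _).map ι))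
  obtain ⟨q, hq, hb⟩ := Bound.exists_redLE hL hE hpE (Module.finrank k K) ((Coh.push (gb k K X)).obj F)
    (fun i => (Coh.push (gb k K X)).map ι ≫ p i) (fun Z x hx => by
      rw [← cancel_mono ((Coh.push (gb k K X)).map ι), Limits.zero_comp]
      exact hp Z _ fun i => by rw [Category.assoc]; exact hx i) (isCoh_push sq hF)
  rw [Groth.L03.Euler.isHilbPoly_unique hq (isHilbPoly_push sq hL.1 hF hpF)] at hb
  exact (Bound.redLE_smul_iff (Nat.cast_pos.2 Module.finrank_pos)).1 hb

end Groth.L03.ShStab.FinExt
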