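import Groth.Agent.L03.ShStab.Special
import Groth.Agent.L03.ShStab.FinExt
import Groth.Agent.L03.ShStab.Trunc
import Groth.Agent.L18.AmplePull

/-!
# Semistability is preserved by extensions of the ground field
-/

set_option autoImplicit false
set_option linter.style.haveILetI false

universe u

open CategoryTheory CategoryTheory.Limits AlgebraicGeometry Polynomial StabCat
open Groth.L03.Euler

namespace Groth.L03.ShStab.BC

open Groth.L16.AffineBC

variable {k : Type u} [Field k] {X : Scheme.{u}} [X.Over (Spec (CommRingCat.of k))]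
  [IsProper (X ↘ Spec (CommRingCat.of k))] {L E : X.Modules} {d : ℕ}

/-- The bound for submodules after any extension of the ground field. -/
theorem redLE_bc (hL : CohB1.IsAmple L) (hE : _root_.ShStab.IsSemistable k X L E d)
    {K : Type u} [Field K] [Algebra k K] {pE : ℚ[X]} (hpE : _root_.ShStab.IsHilbPoly k X L E pE)
    {F : (Xb k K X).Modules} (ι : F ⟶ (Scheme.Modules.pullback (gb k K X)).obj E) [Mono ι]
    (hF : Coh.IsCoh F) {pF : ℚ[X]}
    (hpF : _root_.ShStab.IsHilbPoly K (Xb k K X) ((Scheme.Modules.pullback (gb k K X)).obj L) F pF) :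
    RedLE d pF pE := by
  obtain ⟨A, hA, h, sq, hh, G, κ, hκ, hG, ⟨e⟩⟩ := Spread.exists_spread hE.1 ι hF
  haveI := hκ
  haveI : Algebra.FiniteType k A := A.fg_iff_finiteType.1 hA
  obtain ⟨k', _, _, _, F₀, ι₀, hι₀, hF₀, heq⟩ :=
    Special.exists_special hL.1 hE.1 (A := A) (K := K) Subtype.val_injective h hh sq κ hG e
  haveI := hι₀
  refine FinExt.exists_redLE hL hE hpE ι₀ hF₀ fun m => ?_
  exact (congrArg (Int.cast : ℤ → ℚ) (heq m)).trans (hpF m)

/-- Semistability is preserved by extensions of the ground field. -/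
theorem isSemistable_bc (hL : CohB1.IsAmple L) (hE : _root_.ShStab.IsSemistable k X L E d)
    (K : Type u) [Field K] [Algebra k K] :
    _root_.ShStab.IsSemistable K (Xb k K X) ((Scheme.Modules.pullback (gb k K X)).obj L)
      ((Scheme.Modules.pullback (gb k K X)).obj E) d := by
  have sq : IsPullback (gb k K X) (Xb k K X ↘ Spec (CommRingCat.of K)) (X ↘ Spec (CommRingCat.of k))
      (Spec.map (CommRingCat.ofHom (algebraMap k K))) := IsPullback.of_hasPullback _ _
  haveI := flat_specMap (k := k) K
  haveI := surjective_specMap (k := k) K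
  haveI : Flat (gb k K X) := MorphismProperty.of_isPullback (P := @Flat) sq.flip inferInstance
  haveI : Surjective (gb k K X) := MorphismProperty.of_isPullback (P := @Surjective) sq.flip inferInstance
  haveI : IsLocallyNoetherian X := Basic.locallyNoetherian (k := k)
  haveI : IsLocallyNoetherian (Xb k K X) := Basic.locallyNoetherian (k := K)
  let EK := (Scheme.Modules.pullback (gb k K X)).obj E
  have hEK : Coh.IsCoh EK := isCoh_pullback (gb k K X) hE.1
  have h0 : ¬ IsZero EK := fun h => hE.2.1 (isZero_of_pullback (gb k K X) h)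
  have hLK := Groth.L18.Ample.isAmple_pullback_of_isAffineHom (gb k K X) hL
  have hdE : topologicalKrullDim (CohB1.support E) = d := hE.2.2.1 E (𝟙 E) inferInstance hE.1 hE.2.1
  obtain ⟨pE, hpE⟩ := Basic.exists_hilb (k := k) hL.1 hE.1 hdE.le
  have hpEK := isHilbPoly_pullback (gb k K X) sq hL.1 hE.1 hpE
  obtain ⟨N, hN⟩ := exists_dim_bound K (Xb k K X)
  have hdK : topologicalKrullDim (CohB1.support EK) = d := by
    obtain ⟨e, -, he⟩ := Basic.exists_nat_dim h0 ((Topology.IsInducing.subtypeVal.topologicalKrullDim_le).trans hN)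
    rw [he, (natDegree_eq_and_coeff_pos hLK hEK he hpEK).1.symm.trans
      (natDegree_eq_and_coeff_pos hL hE.1 hdE hpE).1]
  have hαE : 0 < alpha d pE := Basic.alpha_pos hL hE.1 hdE hpE
  refine ⟨hEK, h0, fun F ι hι hF hF0 => ?_, fun F ι hι hF hF0 _ pF pE' hpF hpE' => ?_⟩
  · haveI := hι
    obtain ⟨e, hed, he⟩ := Basic.exists_nat_dim hF0 (Basic.dim_sub_le ι hdK.le)
    obtain ⟨pF, hpF⟩ := Basic.exists_hilb (k := K) hLK.1 hF he.le
    obtain ⟨h1, h2⟩ := natDegree_eq_and_coeff_pos hLK hF he hpF
    rcases hed.lt_or_eq with hlt | rfl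
    · have hb := redLE_bc hL hE hpE ι hF hpF
      have ha : alpha d pF = 0 := PolyOrd.alpha_eq_zero_iff.2
        (coeff_eq_zero_of_natDegree_lt (h1.trans_lt hlt))
      rw [RedLE, ha, zero_smul, PolyOrd.polyLE_iff, zero_sub, leadingCoeff_neg, smul_eq_C_mul,
        leadingCoeff_mul, leadingCoeff_C] at hb
      have : 0 < pF.leadingCoeff := by rw [leadingCoeff, h1]; exact h2
      nlinarith [mul_pos hαE this]
    · exact he
  · haveI := hι
    rw [isHilbPoly_unique hpE' hpEK]
    exact redLE_bc hL hE hpE ι hF hpF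

end Groth.L03.ShStab.BC
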