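import Groth.Prelude.Def_StabCat
import Mathlib.Analysis.Polynomial.Basic

/-!
# Eventual comparison of rational polynomials and reduced comparisons
-/

open Polynomial StabCat

namespace Groth.L03.ShStab.PolyOrd

variable {P Q R P' Q' : ℚ[X]} {d e : ℕ}

theorem exists_eventually_pos (h : 0 < P.leadingCoeff) :
    ∃ N : ℕ, ∀ m : ℕ, N ≤ m → 0 < P.eval (m : ℚ) := by
  rcases Nat.eq_zero_or_pos P.natDegree with hd | hd
  · refine ⟨0, fun m _ => ?_⟩
    obtain ⟨c, rfl⟩ := natDegree_eq_zero.1 hd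
    simpa using h
  · have ht := P.tendsto_atTop_of_leadingCoeff_nonneg (natDegree_pos_iff_degree_pos.1 hd) h.le
    have h2 : Filter.Tendsto (fun m : ℕ => P.eval (m : ℚ)) Filter.atTop Filter.atTop :=
      ht.comp tendsto_natCast_atTop_atTop
    exact Filter.eventually_atTop.1 (h2.eventually_gt_atTop 0)

theorem eventually_nonneg_iff :
    (∃ N : ℕ, ∀ m : ℕ, N ≤ m → 0 ≤ P.eval (m : ℚ)) ↔ 0 ≤ P.leadingCoeff := by
  constructor
  · rintro ⟨N, hN⟩
    by_contra h
    obtain ⟨N', hN'⟩ := exists_eventually_pos (P := -P) (by simpa using lt_of_not_ge h)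
    have h1 := hN (max N N') (le_max_left _ _)
    have h2 := hN' (max N N') (le_max_right _ _)
    rw [eval_neg] at h2
    linarith
  · intro h
    rcases h.eq_or_lt with h | h
    · rw [leadingCoeff_eq_zero.1 h.symm]
      exact ⟨0, fun m _ => by simp⟩
    · obtain ⟨N, hN⟩ := exists_eventually_pos h
      exact ⟨N, fun m hm => (hN m hm).le⟩

theorem eventually_pos_iff :
    (∃ N : ℕ, ∀ m : ℕ, N ≤ m → 0 < P.eval (m : ℚ)) ↔ 0 < P.leadingCoeff := by
  refine ⟨fun ⟨N, hN⟩ => lt_of_le_of_ne (eventually_nonneg_iff.1 ⟨N, fun m hm => (hN m hm).le⟩) ?_,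
    exists_eventually_pos⟩
  intro h
  have := hN N le_rfl
  rw [leadingCoeff_eq_zero.1 h.symm] at this
  simp at this

theorem polyLE_iff : PolyLE P Q ↔ 0 ≤ (Q - P).leadingCoeff := by
  rw [← eventually_nonneg_iff]
  simp [PolyLE, eval_sub, sub_nonneg]

theorem polyLT_iff : PolyLT P Q ↔ 0 < (Q - P).leadingCoeff := by
  rw [← eventually_pos_iff]
  simp [PolyLT, eval_sub, sub_pos]

theorem polyLE_refl (P : ℚ[X]) : PolyLE P P := polyLE_iff.2 (by simp)

theorem polyLE_of_lt (h : PolyLT P Q) : PolyLE P Q := polyLE_iff.2 (polyLT_iff.1 h).le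

theorem not_polyLT_iff : ¬ PolyLT P Q ↔ PolyLE Q P := by
  rw [polyLT_iff, polyLE_iff, ← neg_sub P Q, leadingCoeff_neg, not_lt, neg_nonpos]

theorem not_polyLE_iff : ¬ PolyLE P Q ↔ PolyLT Q P := by
  rw [← not_polyLT_iff, not_not]

theorem polyLE_total (P Q : ℚ[X]) : PolyLE P Q ∨ PolyLE Q P :=
  (em (PolyLE P Q)).imp id fun h => polyLE_of_lt (not_polyLE_iff.1 h)

theorem polyLE_trans (h₁ : PolyLE P Q) (h₂ : PolyLE Q R) : PolyLE P R := by
  obtain ⟨N, hN⟩ := h₁
  obtain ⟨M, hM⟩ := h₂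
  exact ⟨max N M, fun m hm => (hN m (le_of_max_le_left hm)).trans (hM m (le_of_max_le_right hm))⟩

theorem polyLT_of_le_of_lt (h₁ : PolyLE P Q) (h₂ : PolyLT Q R) : PolyLT P R := by
  obtain ⟨N, hN⟩ := h₁
  obtain ⟨M, hM⟩ := h₂
  exact ⟨max N M, fun m hm => (hN m (le_of_max_le_left hm)).trans_lt (hM m (le_of_max_le_right hm))⟩

theorem polyLT_of_lt_of_le (h₁ : PolyLT P Q) (h₂ : PolyLE Q R) : PolyLT P R := by
  obtain ⟨N, hN⟩ := h₁
  obtain ⟨M, hM⟩ := h₂
  exact ⟨max N M, fun m hm => (hN m (le_of_max_le_left hm)).trans_le (hM m (le_of_max_le_right hm))⟩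

theorem polyLE_antisymm (h₁ : PolyLE P Q) (h₂ : PolyLE Q P) : P = Q := by
  rw [polyLE_iff] at h₁ h₂
  rw [← neg_sub Q P, leadingCoeff_neg] at h₂
  exact (sub_eq_zero.1 (leadingCoeff_eq_zero.1 (le_antisymm (by linarith) h₁))).symm

theorem polyLT_irrefl (P : ℚ[X]) : ¬ PolyLT P P := by simp [polyLT_iff]

theorem ne_of_polyLT (h : PolyLT P Q) : P ≠ Q := fun e => polyLT_irrefl Q (e ▸ h)

theorem polyLE_smul {c : ℚ} (hc : 0 ≤ c) (h : PolyLE P Q) : PolyLE (c • P) (c • Q) := by
  rw [polyLE_iff] at h ⊢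
  rw [← smul_sub, smul_eq_C_mul, leadingCoeff_mul, leadingCoeff_C]
  positivity

theorem polyLT_smul {c : ℚ} (hc : 0 < c) (h : PolyLT P Q) : PolyLT (c • P) (c • Q) := by
  rw [polyLT_iff] at h ⊢
  rw [← smul_sub, smul_eq_C_mul, leadingCoeff_mul, leadingCoeff_C]
  positivity

theorem polyLE_smul_iff {c : ℚ} (hc : 0 < c) : PolyLE (c • P) (c • Q) ↔ PolyLE P Q :=
  ⟨fun h => by simpa [smul_smul, inv_mul_cancel₀ hc.ne'] using polyLE_smul (inv_nonneg.2 hc.le) h,
    polyLE_smul hc.le⟩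

theorem polyLE_add (h₁ : PolyLE P Q) (h₂ : PolyLE P' Q') : PolyLE (P + P') (Q + Q') := by
  obtain ⟨N, hN⟩ := h₁
  obtain ⟨M, hM⟩ := h₂
  refine ⟨max N M, fun m hm => ?_⟩
  simp only [eval_add]
  exact add_le_add (hN m (le_of_max_le_left hm)) (hM m (le_of_max_le_right hm))

theorem polyLT_add (h₁ : PolyLT P Q) (h₂ : PolyLE P' Q') : PolyLT (P + P') (Q + Q') := by
  obtain ⟨N, hN⟩ := h₁
  obtain ⟨M, hM⟩ := h₂
  refine ⟨max N M, fun m hm => ?_⟩
  simp only [eval_add]
  exact add_lt_add_of_lt_of_le (hN m (le_of_max_le_left hm)) (hM m (le_of_max_le_right hm))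

/-- Comparison at the top degree. -/
theorem coeff_le_of_polyLE (hP : P.natDegree ≤ e) (hQ : Q.natDegree ≤ e) (h : PolyLE P Q) :
    P.coeff e ≤ Q.coeff e := by
  rw [polyLE_iff] at h
  rcases lt_or_eq_of_le ((natDegree_sub_le Q P).trans (max_le hQ hP)) with h' | h'
  · have := coeff_eq_zero_of_natDegree_lt h'
    rw [coeff_sub] at this
    linarith
  · have : (Q - P).coeff e = (Q - P).leadingCoeff := by rw [← h']; rfl
    rw [coeff_sub] at this
    linarith

theorem polyLT_of_coeff_lt (hP : P.natDegree ≤ e) (hQ : Q.natDegree ≤ e) (h : P.coeff e < Q.coeff e) :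
    PolyLT P Q :=
  not_polyLE_iff.1 fun h' => (coeff_le_of_polyLE hQ hP h').not_gt h

theorem alpha_add : alpha d (P + Q) = alpha d P + alpha d Q := by simp [alpha, mul_add]

theorem alpha_smul (c : ℚ) : alpha d (c • P) = c * alpha d P := by simp [alpha]; ring

theorem alpha_pos_iff : 0 < alpha d P ↔ 0 < P.coeff d :=
  mul_pos_iff_of_pos_left (by exact_mod_cast d.factorial_pos)

theorem alpha_nonneg_iff : 0 ≤ alpha d P ↔ 0 ≤ P.coeff d :=
  mul_nonneg_iff_of_pos_left (by exact_mod_cast d.factorial_pos)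

theorem alpha_eq_zero_iff : alpha d P = 0 ↔ P.coeff d = 0 := by
  simp [alpha, Nat.factorial_ne_zero]

theorem alpha_red (h : alpha d P ≠ 0) : alpha d (red d P) = 1 := by
  rw [red, alpha_smul, inv_mul_cancel₀ h]

theorem smul_red (h : alpha d P ≠ 0) : alpha d P • red d P = P := by
  rw [red, smul_smul, mul_inv_cancel₀ h, one_smul]

theorem redLE_iff (hP : 0 < alpha d P) (hQ : 0 < alpha d Q) :
    RedLE d P Q ↔ PolyLE (red d P) (red d Q) := by
  rw [RedLE, ← polyLE_smul_iff (c := (alpha d P * alpha d Q)⁻¹) (by positivity)]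
  simp only [red, smul_smul, mul_inv]
  rw [mul_assoc, inv_mul_cancel₀ hQ.ne', mul_one, mul_comm (alpha d P)⁻¹, mul_assoc,
    inv_mul_cancel₀ hP.ne', mul_one]

theorem redLT_iff_not_redLE : RedLT d P Q ↔ ¬ RedLE d Q P := not_polyLE_iff.symm

theorem redLT_iff (hP : 0 < alpha d P) (hQ : 0 < alpha d Q) :
    RedLT d P Q ↔ PolyLT (red d P) (red d Q) := by
  rw [redLT_iff_not_redLE, redLE_iff hQ hP, not_polyLE_iff]

theorem redEq_iff (hP : 0 < alpha d P) (hQ : 0 < alpha d Q) :
    RedEq d P Q ↔ red d P = red d Q := by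
  constructor
  · intro h
    refine polyLE_antisymm ((redLE_iff hP hQ).1 ?_) ((redLE_iff hQ hP).1 ?_)
    · unfold RedLE; rw [h]; exact polyLE_refl _
    · unfold RedLE; rw [h]; exact polyLE_refl _
  · intro h
    refine polyLE_antisymm ?_ ?_
    · exact (redLE_iff hP hQ).2 (h ▸ polyLE_refl _)
    · exact (redLE_iff hQ hP).2 (h ▸ polyLE_refl _)

theorem red_add (hP : alpha d P ≠ 0) (hQ : alpha d Q ≠ 0) :
    red d (P + Q) = (alpha d P + alpha d Q)⁻¹ • (alpha d P • red d P + alpha d Q • red d Q) := by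
  rw [smul_red hP, smul_red hQ, red, alpha_add]

theorem leadingCoeff_mediant (hP : 0 < alpha d P) (hQ : 0 < alpha d Q) :
    alpha d Q * (red d Q - red d (P + Q)).leadingCoeff =
      alpha d P * (red d (P + Q) - red d P).leadingCoeff := by
  have hs : 0 < alpha d (P + Q) := by rw [alpha_add]; positivity
  have key : alpha d Q • (red d Q - red d (P + Q)) = alpha d P • (red d (P + Q) - red d P) := by
    have e : alpha d (P + Q) • red d (P + Q) = alpha d P • red d P + alpha d Q • red d Q := by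
      rw [smul_red hs.ne', smul_red hP.ne', smul_red hQ.ne']
    rw [alpha_add, add_smul] at e
    rw [smul_sub, smul_sub]
    linear_combination (norm := module) -e
  have := congrArg leadingCoeff key
  rwa [smul_eq_C_mul, smul_eq_C_mul, leadingCoeff_mul, leadingCoeff_mul, leadingCoeff_C,
    leadingCoeff_C] at this

/-- Mediant: if the part is at most the sum, the sum is at most the rest. -/
theorem red_le_rest (hP : 0 < alpha d P) (hQ : 0 < alpha d Q)
    (h : PolyLE (red d P) (red d (P + Q))) : PolyLE (red d (P + Q)) (red d Q) := by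
  have := leadingCoeff_mediant hP hQ
  rw [polyLE_iff] at h ⊢
  nlinarith

theorem red_lt_rest (hP : 0 < alpha d P) (hQ : 0 < alpha d Q)
    (h : PolyLT (red d P) (red d (P + Q))) : PolyLT (red d (P + Q)) (red d Q) := by
  have := leadingCoeff_mediant hP hQ
  rw [polyLT_iff] at h ⊢
  nlinarith

theorem red_ge_rest (hP : 0 < alpha d P) (hQ : 0 < alpha d Q)
    (h : PolyLE (red d (P + Q)) (red d P)) : PolyLE (red d Q) (red d (P + Q)) := by
  have := leadingCoeff_mediant hP hQ
  rw [polyLE_iff, ← neg_sub, leadingCoeff_neg] at h ⊢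
  nlinarith

theorem red_gt_rest (hP : 0 < alpha d P) (hQ : 0 < alpha d Q)
    (h : PolyLT (red d (P + Q)) (red d P)) : PolyLT (red d Q) (red d (P + Q)) := by
  have := leadingCoeff_mediant hP hQ
  rw [polyLT_iff, ← neg_sub, leadingCoeff_neg] at h ⊢
  nlinarith

/-- The top part is linear. -/
theorem topPart_sub (ℓ : ℕ) : topPart ℓ d (P - Q) = topPart ℓ d P - topPart ℓ d Q := by
  simp [topPart, Finset.sum_sub_distrib]

theorem topPart_smul (ℓ : ℕ) (c : ℚ) : topPart ℓ d (c • P) = c • topPart ℓ d P := by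
  simp [topPart, Finset.smul_sum, smul_monomial]

theorem coeff_topPart (ℓ : ℕ) (i : ℕ) :
    (topPart ℓ d P).coeff i = if d - ℓ ≤ i ∧ i ≤ d then P.coeff i else 0 := by
  simp [topPart, finsetSum_coeff, coeff_monomial, Finset.sum_ite_eq', Finset.mem_Icc]

theorem alpha_topPart (ℓ : ℕ) : alpha d (topPart ℓ d P) = alpha d P := by
  simp [alpha, coeff_topPart]

theorem topPart_self (hP : P.natDegree ≤ d) : topPart d d P = P := by
  ext i
  rw [coeff_topPart]
  by_cases hi : i ≤ d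
  · simp [hi]
  · simp [hi, coeff_eq_zero_of_natDegree_lt (show P.natDegree < i by omega)]

theorem topPart_nonneg (ℓ : ℕ) (hP : P.natDegree ≤ d) (h : 0 ≤ P.leadingCoeff) :
    0 ≤ (topPart ℓ d P).leadingCoeff := by
  by_cases hl : d - ℓ ≤ P.natDegree
  · have hdeg : (topPart ℓ d P).natDegree ≤ P.natDegree := natDegree_le_iff_coeff_eq_zero.2 fun i hi => by
      rw [coeff_topPart, coeff_eq_zero_of_natDegree_lt hi, ite_self]
    have hc : (topPart ℓ d P).coeff P.natDegree = P.leadingCoeff := by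
      rw [coeff_topPart, if_pos ⟨hl, hP⟩]; rfl
    by_cases h0 : P.leadingCoeff = 0
    · rw [leadingCoeff_eq_zero.1 h0]; simp [topPart]
    · rw [show (topPart ℓ d P).leadingCoeff = P.leadingCoeff by
        rw [leadingCoeff, le_antisymm hdeg (le_natDegree_of_ne_zero (hc ▸ h0)), hc]]
      exact h
  · have : topPart ℓ d P = 0 := ext fun i => by
      rw [coeff_topPart, coeff_zero]
      split_ifs with hi
      · exact coeff_eq_zero_of_natDegree_lt (by omega)
      · rfl
    simp [this]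

theorem natDegree_smul_sub_le {a b : ℚ} (hP : P.natDegree ≤ d) (hQ : Q.natDegree ≤ d) :
    (a • P - b • Q).natDegree ≤ d :=
  (natDegree_sub_le _ _).trans (max_le ((natDegree_smul_le _ _).trans hP) ((natDegree_smul_le _ _).trans hQ))

end Groth.L03.ShStab.PolyOrd
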