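import Groth.Agent.L03.Euler.Lead
import Groth.Agent.L03.ShStab.PolyOrd

/-!
# Hilbert polynomials of subobjects and quotients of coherent and pure modules
-/

universe u

open CategoryTheory CategoryTheory.Limits AlgebraicGeometry Polynomial StabCat
open Groth.L03.Euler

namespace Groth.L03.ShStab.Basic

variable {k : Type u} [Field k] {X : Scheme.{u}} [X.Over (Spec (CommRingCat.of k))]
  [IsProper (X ↘ Spec (CommRingCat.of k))] {L : X.Modules} {d : ℕ}

include k in
theorem locallyNoetherian : IsLocallyNoetherian X :=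
  LocallyOfFiniteType.isLocallyNoetherian (X ↘ Spec (CommRingCat.of k))

omit [IsProper (X ↘ Spec (CommRingCat.of k))] [X.Over (Spec (CommRingCat.of k))] in
/-- A pure module has support of dimension at most `d`. -/
theorem dim_le_of_isPure {E : X.Modules} (hE : Coh.IsCoh E) (hp : _root_.ShStab.IsPure X E d) :
    topologicalKrullDim (CohB1.support E) ≤ d := by
  by_cases h0 : IsZero E
  · rw [topologicalKrullDim_of_empty ((Groth.L21.Mod.isZero_iff_support_eq_empty E).1 h0)]
    exact bot_le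
  · exact (hp E (𝟙 E) inferInstance hE h0).le

omit [IsProper (X ↘ Spec (CommRingCat.of k))] [X.Over (Spec (CommRingCat.of k))] in
theorem dim_sub_le {E F : X.Modules} (ι : F ⟶ E) [Mono ι] (h : topologicalKrullDim (CohB1.support E) ≤ d) :
    topologicalKrullDim (CohB1.support F) ≤ d :=
  (topologicalKrullDim_set_mono (Groth.L21.Mod.support_mono ι)).trans h

omit [IsProper (X ↘ Spec (CommRingCat.of k))] [X.Over (Spec (CommRingCat.of k))] in
theorem dim_quot_le {E G : X.Modules} (π : E ⟶ G) [Epi π] (h : topologicalKrullDim (CohB1.support E) ≤ d) :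
    topologicalKrullDim (CohB1.support G) ≤ d :=
  (topologicalKrullDim_set_mono (Groth.L21.Mod.support_epi π)).trans h

omit [IsProper (X ↘ Spec (CommRingCat.of k))] [X.Over (Spec (CommRingCat.of k))] in
theorem exists_nat_dim {M : X.Modules} (h0 : ¬ IsZero M) (h : topologicalKrullDim (CohB1.support M) ≤ d) :
    ∃ e : ℕ, e ≤ d ∧ topologicalKrullDim (CohB1.support M) = e := by
  have hne : (CohB1.support M).Nonempty := by
    rw [Set.nonempty_iff_ne_empty]
    exact fun h' => h0 ((Groth.L21.Mod.isZero_iff_support_eq_empty M).2 h')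
  have h1 := zero_le_topologicalKrullDim hne
  generalize topologicalKrullDim (CohB1.support M) = t at h h1
  induction t using WithBot.recBotCoe with
  | bot => exact absurd h1 (by simp)
  | coe t =>
    obtain ⟨t, rfl⟩ : ∃ i : ℕ, (i : ℕ∞) = t := ENat.ne_top_iff_exists.1 (by
      rintro rfl
      exact absurd (WithBot.coe_le_coe.1 h) (by simp))
    exact ⟨t, by exact_mod_cast h, rfl⟩

theorem natDegree_le (hL : PicF.IsInvertible L) {M : X.Modules} (hM : Coh.IsCoh M)
    (h : topologicalKrullDim (CohB1.support M) ≤ d) {P : ℚ[X]}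
    (hP : _root_.ShStab.IsHilbPoly k X L M P) : P.natDegree ≤ d := by
  obtain ⟨Q, hQ, hQP⟩ := exists_isHilbPoly (k := k) hL hM h
  rwa [isHilbPoly_unique hP hQP]

theorem exists_hilb (hL : PicF.IsInvertible L) {M : X.Modules} (hM : Coh.IsCoh M)
    (h : topologicalKrullDim (CohB1.support M) ≤ d) : ∃ P, _root_.ShStab.IsHilbPoly k X L M P :=
  let ⟨P, _, hP⟩ := exists_isHilbPoly (k := k) hL hM h
  ⟨P, hP⟩

theorem leadingCoeff_pos (hL : CohB1.IsAmple L) {M : X.Modules} (hM : Coh.IsCoh M) (h0 : ¬ IsZero M)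
    (h : topologicalKrullDim (CohB1.support M) ≤ d) {P : ℚ[X]}
    (hP : _root_.ShStab.IsHilbPoly k X L M P) : 0 < P.leadingCoeff := by
  obtain ⟨e, -, he⟩ := exists_nat_dim h0 h
  obtain ⟨h1, h2⟩ := natDegree_eq_and_coeff_pos hL hM he hP
  rwa [Polynomial.leadingCoeff, h1]

/-- The multiplicity is nonnegative. -/
theorem alpha_nonneg (hL : CohB1.IsAmple L) {M : X.Modules} (hM : Coh.IsCoh M)
    (h : topologicalKrullDim (CohB1.support M) ≤ d) {P : ℚ[X]}
    (hP : _root_.ShStab.IsHilbPoly k X L M P) : 0 ≤ alpha d P :=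
  PolyOrd.alpha_nonneg_iff.2 (posAt hL d M hM h P hP).1

theorem alpha_pos (hL : CohB1.IsAmple L) {M : X.Modules} (hM : Coh.IsCoh M)
    (h : topologicalKrullDim (CohB1.support M) = d) {P : ℚ[X]}
    (hP : _root_.ShStab.IsHilbPoly k X L M P) : 0 < alpha d P :=
  PolyOrd.alpha_pos_iff.2 ((posAt hL d M hM h.le P hP).2 h)

/-- A nonzero coherent submodule of a pure module has positive multiplicity. -/
theorem alpha_pos_sub (hL : CohB1.IsAmple L) {E F : X.Modules} (hp : _root_.ShStab.IsPure X E d)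
    (ι : F ⟶ E) [Mono ι] (hF : Coh.IsCoh F) (h0 : ¬ IsZero F) {P : ℚ[X]}
    (hP : _root_.ShStab.IsHilbPoly k X L F P) : 0 < alpha d P :=
  alpha_pos hL hF (hp F ι inferInstance hF h0) hP

omit [IsProper (X ↘ Spec (CommRingCat.of k))] [X.Over (Spec (CommRingCat.of k))] in
theorem isPure_sub {E F : X.Modules} (hp : _root_.ShStab.IsPure X E d) (ι : F ⟶ E) [Mono ι] :
    _root_.ShStab.IsPure X F d :=
  fun G κ hκ hG h0 => haveI := hκ; hp G (κ ≫ ι) (mono_comp κ ι) hG h0

theorem isZero_of_hilb_eq_zero (hL : CohB1.IsAmple L) {M : X.Modules} (hM : Coh.IsCoh M)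
    (h : topologicalKrullDim (CohB1.support M) ≤ d)
    (hP : _root_.ShStab.IsHilbPoly k X L M 0) : IsZero M := by
  by_contra h0
  have := leadingCoeff_pos hL hM h0 h hP
  simp at this

theorem nonneg_leadingCoeff (hL : CohB1.IsAmple L) {M : X.Modules} (hM : Coh.IsCoh M)
    (h : topologicalKrullDim (CohB1.support M) ≤ d) {P : ℚ[X]}
    (hP : _root_.ShStab.IsHilbPoly k X L M P) : 0 ≤ P.leadingCoeff := by
  by_cases h0 : IsZero M
  · rw [isHilbPoly_unique hP (isHilbPoly_zero hL.1 h0)]; simp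
  · exact (leadingCoeff_pos hL hM h0 h hP).le

/-- Kernel, image and cokernel of a map of coherent modules. -/
theorem coh_parts (k : Type u) [Field k] {X : Scheme.{u}} [X.Over (Spec (CommRingCat.of k))]
    [IsProper (X ↘ Spec (CommRingCat.of k))] {A B : X.Modules} (hA : Coh.IsCoh A) (hB : Coh.IsCoh B)
    (φ : A ⟶ B) : Coh.IsCoh (kernel φ) ∧ Coh.IsCoh (Abelian.image φ) ∧ Coh.IsCoh (cokernel φ) := by
  haveI := locallyNoetherian (k := k) (X := X)
  haveI : Coh.IsQCoh B := hB.1
  have h := Groth.L16.CohKernel.isCoh_kernel_cokernel hA hB φ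
  exact ⟨h.1, Groth.L16.CohSupport.isCoh_image hA φ, h.2⟩

/-- `0 → kernel → A → image → 0` on Hilbert polynomials. -/
theorem hilb_kernel_image (hL : CohB1.IsAmple L) {A B : X.Modules} (hA : Coh.IsCoh A) (hB : Coh.IsCoh B)
    (φ : A ⟶ B) {PA PK PI : ℚ[X]} (hPA : _root_.ShStab.IsHilbPoly k X L A PA)
    (hPK : _root_.ShStab.IsHilbPoly k X L (kernel φ) PK)
    (hPI : _root_.ShStab.IsHilbPoly k X L (Abelian.image φ) PI) : PA = PK + PI := by
  obtain ⟨h1, h2, -⟩ := coh_parts k hA hB φ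
  exact isHilbPoly_unique hPA
    (isHilbPoly_add hL.1 (Groth.L16.Devissage.shortExact_kernel_image φ) h1 hA h2 hPK hPI)

/-- `0 → F → E → cokernel → 0` on Hilbert polynomials. -/
theorem hilb_cokernel (hL : CohB1.IsAmple L) {F E : X.Modules} (hF : Coh.IsCoh F) (hE : Coh.IsCoh E)
    (ι : F ⟶ E) [Mono ι] {PF PE PQ : ℚ[X]} (hPF : _root_.ShStab.IsHilbPoly k X L F PF)
    (hPE : _root_.ShStab.IsHilbPoly k X L E PE)
    (hPQ : _root_.ShStab.IsHilbPoly k X L (cokernel ι) PQ) : PE = PF + PQ := by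
  obtain ⟨-, -, h3⟩ := coh_parts k hF hE ι
  exact isHilbPoly_unique hPE (isHilbPoly_add hL.1
    (ShortComplex.ShortExact.mk (ShortComplex.exact_cokernel ι) :
      (ShortComplex.mk ι (cokernel.π ι) (cokernel.condition _)).ShortExact) hF hE h3 hPF hPQ)

end Groth.L03.ShStab.Basic
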