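import Groth.Agent.L03.ShStab.Mu

/-!
# Coherent modules with a jointly monic family of maps to a semistable module
-/

universe u

open CategoryTheory CategoryTheory.Limits AlgebraicGeometry Polynomial StabCat
open Groth.L03.Euler

namespace Groth.L03.ShStab.Bound

open Groth.L03.ShStab.Basic

theorem redLE_zero (d : ℕ) (Q : ℚ[X]) : RedLE d 0 Q := by
  simp [RedLE, PolyOrd.polyLE_iff, alpha]

theorem redLE_refl (d : ℕ) (Q : ℚ[X]) : RedLE d Q Q := PolyOrd.polyLE_refl _

theorem redLE_add {d : ℕ} {P P' Q : ℚ[X]} (h : RedLE d P Q) (h' : RedLE d P' Q) :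
    RedLE d (P + P') Q := by
  rw [RedLE, smul_add, PolyOrd.alpha_add, add_smul]
  exact PolyOrd.polyLE_add h h'

theorem redLE_smul_iff {d : ℕ} {P Q : ℚ[X]} {c : ℚ} (hc : 0 < c) :
    RedLE d (c • P) Q ↔ RedLE d P Q := by
  rw [RedLE, PolyOrd.alpha_smul, smul_comm, mul_smul, PolyOrd.polyLE_smul_iff hc]
  rfl

variable {k : Type u} [Field k] {X : Scheme.{u}} [X.Over (Spec (CommRingCat.of k))]
  [IsProper (X ↘ Spec (CommRingCat.of k))] {L E : X.Modules} {d : ℕ}

/-- The bound for submodules. -/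
theorem exists_redLE_of_mono (hL : CohB1.IsAmple L) (hE : _root_.ShStab.IsSemistable k X L E d)
    {pE : ℚ[X]} (hpE : _root_.ShStab.IsHilbPoly k X L E pE) {G : X.Modules} (ι : G ⟶ E) [Mono ι]
    (hG : Coh.IsCoh G) : ∃ pG, _root_.ShStab.IsHilbPoly k X L G pG ∧ RedLE d pG pE := by
  have dE := dim_le_of_isPure hE.1 hE.2.2.1
  obtain ⟨pG, hpG⟩ := exists_hilb (k := k) hL.1 hG (dim_sub_le ι dE)
  refine ⟨pG, hpG, ?_⟩
  by_cases h0 : IsZero G
  · rw [isHilbPoly_unique hpG (isHilbPoly_zero hL.1 h0)]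
    exact redLE_zero d pE
  by_cases hi : IsIso ι
  · have hpG' : _root_.ShStab.IsHilbPoly k X L E pG := isHilbPoly_iso (asIso ι) hpG
    rw [isHilbPoly_unique hpG' hpE]
    exact redLE_refl d pE
  exact hE.2.2.2 G ι inferInstance hG h0 hi pG pE hpG hpE

/-- The bound for modules with a jointly monic family of maps to a semistable module. -/
theorem exists_redLE (hL : CohB1.IsAmple L) (hE : _root_.ShStab.IsSemistable k X L E d)
    {pE : ℚ[X]} (hpE : _root_.ShStab.IsHilbPoly k X L E pE) :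
    ∀ (n : ℕ) (G : X.Modules) (p : Fin n → (G ⟶ E)),
      (∀ (Z : X.Modules) (x : Z ⟶ G), (∀ i, x ≫ p i = 0) → x = 0) → Coh.IsCoh G →
        ∃ pG, _root_.ShStab.IsHilbPoly k X L G pG ∧ RedLE d pG pE := by
  intro n
  induction n with
  | zero =>
    intro G p hp hG
    have h0 : IsZero G := (IsZero.iff_id_eq_zero G).2 (hp G (𝟙 G) fun i => i.elim0)
    exact ⟨0, isHilbPoly_zero hL.1 h0, redLE_zero d pE⟩
  | succ n ih =>
    intro G p hp hG
    obtain ⟨hK, hI, -⟩ := coh_parts k hG hE.1 (p 0)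
    obtain ⟨pK, hpK, bK⟩ := ih (kernel (p 0)) (fun i => kernel.ι (p 0) ≫ p i.succ) (fun Z x hx => by
      rw [← cancel_mono (kernel.ι (p 0)), Limits.zero_comp]
      refine hp Z _ fun i => ?_
      refine Fin.cases ?_ (fun j => ?_) i
      · rw [Category.assoc, kernel.condition, Limits.comp_zero]
      · rw [Category.assoc]; exact hx j) hK
    obtain ⟨pI, hpI, bI⟩ := exists_redLE_of_mono hL hE hpE (Abelian.image.ι (p 0)) hI
    exact ⟨pK + pI, isHilbPoly_add hL.1 (Groth.L16.Devissage.shortExact_kernel_image (p 0)) hK hG hI hpK hpI,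
      redLE_add bK bI⟩

end Groth.L03.ShStab.Bound
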