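import Groth.Agent.L16.CohSupport
import Groth.Agent.L16.Devissage
import Groth.Agent.L00.SubobjLattice
import Groth.Agent.L20.ModStalk
import Mathlib.Order.WellFoundedSet
import Mathlib.Data.DFinsupp.WellFounded

/-!
# The lattice of coherent submodules satisfies the ascending chain condition
-/

universe u

open CategoryTheory CategoryTheory.Limits AlgebraicGeometry TopologicalSpace Opposite

namespace Groth.L03.ShStab.CohSub

open Groth.L16

variable {X : Scheme.{u}} [IsLocallyNoetherian X] {E : X.Modules}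

omit [IsLocallyNoetherian X] in
theorem app_injective {A B : X.Modules} (φ : A ⟶ B) [Mono φ] (U : X.Opens) :
    Function.Injective (φ.app U) := by
  intro a b hab
  refine TopCat.Presheaf.section_ext (C := AddCommGrpCat.{u}) ⟨A.presheaf, A.isSheaf⟩ U a b fun x hx => ?_
  apply (Groth.L21.Mod.mono_iff_stalk_injective φ).1 inferInstance x
  rw [Groth.L21.Mod.stalkF_map_germ, Groth.L21.Mod.stalkF_map_germ]
  exact congrArg _ hab

/-- A map of coherent modules surjective on the sections over an affine cover is surjective on stalks. -/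
theorem stalk_surjective {A B : X.Modules} (φ : A ⟶ B) (hB : Coh.IsCoh B) {U : X.Opens}
    (hU : IsAffineOpen U) (h : Function.Surjective (φ.app U)) {x : X} (hx : x ∈ U) :
    Function.Surjective ((Groth.L00.Stk.F X x).map φ) := by
  haveI : Coh.IsQCoh B := hB.1
  letI := Groth.L20.ModStalk.stalkModule B hx
  letI := X.presheaf.algebra_section_stalk ⟨x, hx⟩
  haveI := hU.isLocalization_stalk ⟨x, hx⟩
  haveI := Groth.L20.ModStalk.isLocalizedModule_germ B hU hx
  let S := (hU.primeIdealOf ⟨x, hx⟩).asIdeal.primeCompl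
  intro v
  obtain ⟨⟨m, s⟩, hs⟩ := IsLocalizedModule.surj S (Groth.L20.ModStalk.germₗ B hx) v
  obtain ⟨a, ha⟩ := h m
  have hu : IsUnit (X.presheaf.germ U x hx s.1) := IsLocalization.map_units (X.presheaf.stalk x) s
  obtain ⟨u, hu'⟩ := hu
  refine ⟨(show X.presheaf.stalk x from ↑u⁻¹) •
    (show (Groth.L00.Stk.F X x).obj A from A.presheaf.germ U x hx a), ?_⟩
  rw [map_smul]
  have h1 : (Groth.L00.Stk.F X x).map φ (show (Groth.L00.Stk.F X x).obj A from A.presheaf.germ U x hx a) =
      (show (Groth.L00.Stk.F X x).obj B from B.presheaf.germ U x hx (φ.app U a)) :=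
    DerSch.stalkFunctor_map_germ x φ U hx a
  rw [h1, ha]
  have h2 : (show (Groth.L00.Stk.F X x).obj B from B.presheaf.germ U x hx m) = (↑u : X.presheaf.stalk x) • v := by
    rw [hu']; exact hs.symm
  rw [h2, smul_smul, Units.inv_mul, one_smul]

variable (E) in
/-- The coherent submodules. -/
abbrev CSub : Type (u + 1) := {a : Subobject E // Coh.IsCoh (a : X.Modules)}

theorem isCoh_sup (hE : Coh.IsCoh E) {a b : Subobject E} (ha : Coh.IsCoh (a : X.Modules))
    (hb : Coh.IsCoh (b : X.Modules)) [IsNoetherian X] : Coh.IsCoh ((a ⊔ b : Subobject E) : X.Modules) := by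
  haveI : HasBinaryBiproduct (a : X.Modules) (b : X.Modules) :=
    HasBinaryBiproducts.has_binary_biproduct _ _
  haveI : Coh.IsQCoh E := hE.1
  let s : (a : X.Modules) ⊞ (b : X.Modules) ⟶ E := biprod.desc a.arrow b.arrow
  have hI : Coh.IsCoh (Abelian.image s) := CohSupport.isCoh_image (Devissage.isCoh_biprod ha hb) s
  have e : Subobject.mk (Abelian.image.ι s) = a ⊔ b := by
    refine le_antisymm ?_ (sup_le ?_ ?_)
    · let g : (a : X.Modules) ⊞ (b : X.Modules) ⟶ ((a ⊔ b : Subobject E) : X.Modules) :=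
        biprod.desc (Subobject.ofLE a _ le_sup_left) (Subobject.ofLE b _ le_sup_right)
      have hg : g ≫ (a ⊔ b).arrow = s := by apply biprod.hom_ext' <;> simp [g, s]
      have h0 : Abelian.image.ι s ≫ cokernel.π (a ⊔ b).arrow = 0 := by
        rw [← cancel_epi (Abelian.factorThruImage s), Limits.comp_zero, ← Category.assoc, Abelian.image.fac, ← hg,
          Category.assoc, cokernel.condition, Limits.comp_zero]
      exact Subobject.mk_le_of_comm (Abelian.monoLift (a ⊔ b).arrow (Abelian.image.ι s) h0)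
        (Abelian.monoLift_comp _ _ _)
    · exact Subobject.le_mk_of_comm (biprod.inl ≫ Abelian.factorThruImage s) (by simp [s])
    · exact Subobject.le_mk_of_comm (biprod.inr ≫ Abelian.factorThruImage s) (by simp [s])
  rw [← e]
  exact CohSupport.isCoh_of_iso (Subobject.underlyingIso _).symm hI

theorem isCoh_inf (hE : Coh.IsCoh E) {a b : Subobject E} (ha : Coh.IsCoh (a : X.Modules))
    (hb : Coh.IsCoh (b : X.Modules)) [IsNoetherian X] : Coh.IsCoh ((a ⊓ b : Subobject E) : X.Modules) := by
  haveI : Coh.IsQCoh E := hE.1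
  let c := a.arrow ≫ cokernel.π b.arrow
  haveI : Coh.IsQCoh (cokernel b.arrow) := (CohKernel.isCoh_kernel_cokernel hb hE b.arrow).2.1
  have hK : Coh.IsCoh (kernel c) := CohSupport.isCoh_kernel ha c
  have e : Subobject.mk (kernel.ι c ≫ a.arrow) = a ⊓ b := by
    refine le_antisymm (le_inf ?_ ?_) ?_
    · exact Subobject.mk_le_of_comm (kernel.ι c) rfl
    · exact Subobject.mk_le_of_comm
        (Abelian.monoLift b.arrow (kernel.ι c ≫ a.arrow) (by rw [Category.assoc]; exact kernel.condition c))
        (Abelian.monoLift_comp _ _ _)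
    · refine Subobject.le_mk_of_comm (kernel.lift c (Subobject.ofLE (a ⊓ b) a inf_le_left) ?_)
        (by rw [← Category.assoc, kernel.lift_ι, Subobject.ofLE_arrow])
      rw [← Category.assoc, Subobject.ofLE_arrow, ← Subobject.ofLE_arrow (inf_le_right : a ⊓ b ≤ b),
        Category.assoc, cokernel.condition, Limits.comp_zero]
  rw [← e]
  exact CohSupport.isCoh_of_iso (Subobject.underlyingIso _).symm hK

/-- Coherent submodules are determined, among nested ones, by their sections over an affine cover. -/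
theorem eq_of_le_of_range {a b : CSub E} (hab : a.1 ≤ b.1) (hE : Coh.IsCoh E)
    {ι : Type*} (U : ι → X.Opens) (hU : ∀ i, IsAffineOpen (U i)) (hcov : ∀ x : X, ∃ i, x ∈ U i)
    (h : ∀ i, Set.range (b.1.arrow.app (U i)) ⊆ Set.range (a.1.arrow.app (U i))) : a = b := by
  have hsurj : ∀ i, Function.Surjective ((Subobject.ofLE a.1 b.1 hab).app (U i)) := by
    intro i m
    obtain ⟨n, hn⟩ := h i ⟨m, rfl⟩
    refine ⟨n, app_injective b.1.arrow (U i) (Eq.trans ?_ hn)⟩
    exact (ConcreteCategory.congr_hom (congrArg (fun φ : (a.1 : X.Modules) ⟶ E => φ.app (U i))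
      (Subobject.ofLE_arrow hab)) n)
  have hz : IsZero (cokernel (Subobject.ofLE a.1 b.1 hab)) := by
    rw [Groth.L21.Mod.isZero_iff_support_eq_empty]
    refine Set.eq_empty_iff_forall_notMem.2 fun x hx => ?_
    obtain ⟨i, hi⟩ := hcov x
    have hsx := stalk_surjective _ b.2 (hU i) (hsurj i) hi
    refine hx ?_
    have h0 : ∀ q : (Groth.L00.Stk.F X x).obj (cokernel (Subobject.ofLE a.1 b.1 hab)), q = 0 := by
      intro q
      obtain ⟨p, rfl⟩ := (ModuleCat.epi_iff_surjective
        ((Groth.L00.Stk.F X x).map (cokernel.π (Subobject.ofLE a.1 b.1 hab)))).1 inferInstance q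
      obtain ⟨r, rfl⟩ := hsx p
      rw [← ModuleCat.comp_apply, ← Functor.map_comp, cokernel.condition, Functor.map_zero]
      rfl
    exact ⟨fun p q => (h0 p).trans (h0 q).symm⟩
  haveI := Preadditive.epi_of_isZero_cokernel _ hz
  haveI := isIso_of_mono_of_epi (Subobject.ofLE a.1 b.1 hab)
  exact Subtype.ext (Subobject.eq_of_comm (asIso (Subobject.ofLE a.1 b.1 hab)) (Subobject.ofLE_arrow hab))

/-- The ascending chain condition. -/
theorem wellFoundedGT_cSub [IsNoetherian X] (hE : Coh.IsCoh E) : WellFoundedGT (CSub E) := by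
  haveI : Coh.IsQCoh E := hE.1
  choose U hxU hU using fun x : X =>
    (show ∃ U : X.Opens, x ∈ U ∧ IsAffineOpen U from by
      obtain ⟨_, ⟨V, hV, rfl⟩, hxV, -⟩ :=
        X.isBasis_affineOpens.exists_subset_of_mem_open (Set.mem_univ x) isOpen_univ
      exact ⟨V, hxV, hV⟩)
  obtain ⟨t, ht⟩ := isCompact_univ.elim_finite_subcover (fun x : X => (U x : Set X))
    (fun x => (U x).isOpen) (fun x _ => Set.mem_iUnion.2 ⟨x, hxU x⟩)
  have hcov : ∀ x : X, ∃ i : t, x ∈ U i := fun x => by
    obtain ⟨i, hi, hxi⟩ := Set.mem_iUnion₂.1 (ht (Set.mem_univ x))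
    exact ⟨⟨i, hi⟩, hxi⟩
  let f : CSub E → ((i : t) → Submodule Γ(X, U i) Γ(E, U i)) := fun a i =>
    LinearMap.range
      ({ toFun := a.1.arrow.app (U i)
         map_add' := map_add _
         map_smul' := fun r m => Scheme.Modules.Hom.app_smul a.1.arrow r m } :
        Γ((a.1 : X.Modules), U i) →ₗ[Γ(X, U i)] Γ(E, U i))
  have hmono : StrictMono f := by
    intro a b hab
    refine lt_of_le_of_ne (fun i => ?_) fun he => hab.ne ?_
    · rintro _ ⟨m, rfl⟩
      refine ⟨(Subobject.ofLE a.1 b.1 hab.le).app (U i) m, ?_⟩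
      exact (ConcreteCategory.congr_hom (congrArg (fun φ : (a.1 : X.Modules) ⟶ E => φ.app (U i))
        (Subobject.ofLE_arrow (show a.1 ≤ b.1 from hab.le))) m)
    · exact eq_of_le_of_range (show a.1 ≤ b.1 from hab.le) hE (fun i : t => U i) (fun i => hU i) hcov
        fun i v hv => (congrFun he i).ge hv
  haveI : ∀ i : t, IsNoetherianRing Γ(X, U i) := fun i =>
    IsLocallyNoetherian.component_noetherian ⟨U i, hU i⟩
  haveI : ∀ i : t, Module.Finite Γ(X, U i) Γ(E, U i) := fun i =>
    Groth.L20.ModStalk.finite_sections E hE (hU i)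
  haveI : ∀ i : t, WellFoundedGT (Submodule Γ(X, U i) Γ(E, U i)) := fun i =>
    wellFoundedGT
  haveI : ∀ i : t, WellFoundedLT (Submodule Γ(X, U i) Γ(E, U i))ᵒᵈ := fun i => inferInstance
  exact StrictAnti.wellFoundedGT (f := fun a (i : t) => OrderDual.toDual (f a i))
    fun a b hab => lt_of_le_not_ge (fun i => (hmono hab).le i) fun h => (hmono hab).not_ge fun i => h i

end Groth.L03.ShStab.CohSub
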