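import Groth.Agent.L03.ShStab.StabLattice
import Groth.Agent.L03.ShStab.CohSub
import Groth.Agent.L03.ShStab.Trunc
import Mathlib.Algebra.Group.ForwardDiff
import Mathlib.Order.Sublattice

/-!
# The stability lattice of a coherent module
-/

universe u

open CategoryTheory CategoryTheory.Limits AlgebraicGeometry Polynomial StabCat
open Groth.L03.Euler
open Groth.L00.SubobjLattice (qt qπ)

namespace Groth.L03.ShStab

/-- Multiplicities of polynomials with integral values at natural numbers are integers. -/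
theorem exists_int_alpha {P : ℚ[X]} {d : ℕ} (hd : P.natDegree ≤ d)
    (h : ∀ m : ℕ, ∃ z : ℤ, P.eval (m : ℚ) = z) : ∃ z : ℤ, alpha d P = z := by
  rcases hd.eq_or_lt with hd | hd
  · choose z hz using h
    refine ⟨∑ i ∈ Finset.range (d + 1), (((-1 : ℤ) ^ (d - i) * d.choose i) * z i), ?_⟩
    have h1 := congrFun P.fwdDiff_iter_degree_eq_factorial (0 : ℚ)
    rw [fwdDiff_iter_eq_sum_shift, hd] at h1
    have h2 : alpha d P = P.leadingCoeff * (d.factorial : ℚ) := by
      rw [leadingCoeff, hd, alpha, mul_comm]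
    rw [h2]
    simp only [Pi.smul_apply, Pi.natCast_apply, smul_eq_mul, zero_add, nsmul_eq_mul, mul_one,
      zsmul_eq_mul] at h1
    rw [← h1]
    push_cast
    exact Finset.sum_congr rfl fun i _ => by rw [hz i]
  · exact ⟨0, by simp [alpha, coeff_eq_zero_of_natDegree_lt hd]⟩

namespace Bridge

open Groth.L16 Basic

variable {X : Scheme.{u}} [IsNoetherian X] {E : X.Modules}

theorem isCoh_bot : Coh.IsCoh (((⊥ : Subobject E)) : X.Modules) :=
  Devissage.isCoh_of_isZero (IsZero.of_iso (isZero_zero _) Subobject.botCoeIsoZero)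

theorem isCoh_top (hE : Coh.IsCoh E) : Coh.IsCoh (((⊤ : Subobject E)) : X.Modules) :=
  CohSupport.isCoh_of_iso (asIso (⊤ : Subobject E).arrow).symm hE

/-- The lattice of coherent submodules. -/
abbrev cohLattice (hE : Coh.IsCoh E) : Sublattice (Subobject E) where
  carrier := {a | Coh.IsCoh (a : X.Modules)}
  supClosed' := fun _ ha _ hb => CohSub.isCoh_sup hE ha hb
  infClosed' := fun _ ha _ hb => CohSub.isCoh_inf hE ha hb

noncomputable instance (hE : Coh.IsCoh E) : BoundedOrder (cohLattice hE) :=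
  Subtype.boundedOrder isCoh_bot (isCoh_top hE)

instance (hE : Coh.IsCoh E) : WellFoundedGT (cohLattice hE) := CohSub.wellFoundedGT_cSub hE

instance (hE : Coh.IsCoh E) : IsModularLattice (cohLattice hE) :=
  ⟨fun {x} y {z} h => sup_inf_le_assoc_of_le (α := Subobject E) y.1 (show x.1 ≤ z.1 from h)⟩

omit [AlgebraicGeometry.IsNoetherian X] in
theorem shortExact_ofLE {a b : Subobject E} (h : a ≤ b) :
    (ShortComplex.mk (Subobject.ofLE a b h) (qπ a b h) (cokernel.condition _)).ShortExact :=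
  ShortComplex.ShortExact.mk (ShortComplex.exact_cokernel _)

theorem isCoh_qt {a b : Subobject E} (h : a ≤ b) (ha : Coh.IsCoh (a : X.Modules))
    (hb : Coh.IsCoh (b : X.Modules)) : Coh.IsCoh (qt a b h) :=
  haveI : Coh.IsQCoh (b : X.Modules) := hb.1
  (CohKernel.isCoh_kernel_cokernel ha hb _).2

variable {k : Type u} [Field k] [X.Over (Spec (CommRingCat.of k))]
  [IsProper (X ↘ Spec (CommRingCat.of k))] {L : X.Modules} {d : ℕ}

/-- The chosen Hilbert polynomial of a coherent submodule. -/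
noncomputable def hp (hL : CohB1.IsAmple L) (hE : Coh.IsCoh E)
    (hd : topologicalKrullDim (CohB1.support E) ≤ d) (a : cohLattice hE) : ℚ[X] :=
  (exists_hilb (k := k) hL.1 a.2 (dim_sub_le a.1.arrow hd)).choose

variable (hL : CohB1.IsAmple L) (hE : Coh.IsCoh E) (hd : topologicalKrullDim (CohB1.support E) ≤ d)

theorem hp_spec (a : cohLattice hE) :
    _root_.ShStab.IsHilbPoly k X L (a.1 : X.Modules) (hp (k := k) hL hE hd a) :=
  (exists_hilb (k := k) hL.1 a.2 (dim_sub_le a.1.arrow hd)).choose_spec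

include hd in
omit [IsProper (X ↘ Spec (CommRingCat.of k))] [X.Over (Spec (CommRingCat.of k))] [AlgebraicGeometry.IsNoetherian X] in
theorem dim_qt {a b : Subobject E} (h : a ≤ b) :
    topologicalKrullDim (CohB1.support (qt a b h)) ≤ d :=
  dim_quot_le (qπ a b h) (dim_sub_le b.arrow hd)

/-- The Hilbert polynomial of a factor is the difference. -/
theorem hilb_qt {a b : cohLattice hE} (h : a.1 ≤ b.1) :
    _root_.ShStab.IsHilbPoly k X L (qt a.1 b.1 h) (hp (k := k) hL hE hd b - hp (k := k) hL hE hd a) := by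
  have hQ : Coh.IsCoh (qt a.1 b.1 h) := isCoh_qt h a.2 b.2
  obtain ⟨Q, hQ'⟩ := exists_hilb (k := k) hL.1 hQ (dim_qt hd h)
  rw [isHilbPoly_unique (hp_spec hL hE hd b)
    (isHilbPoly_add hL.1 (shortExact_ofLE h) a.2 b.2 hQ (hp_spec hL hE hd a) hQ'), add_sub_cancel_left]
  exact hQ'

/-- The valuation on coherent submodules. -/
noncomputable def stabData : StabData (cohLattice hE) d where
  p := hp (k := k) hL hE hd
  natDegree_le a := natDegree_le hL.1 a.2 (dim_sub_le a.1.arrow hd) (hp_spec hL hE hd a)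
  mono a b h := by
    rw [PolyOrd.polyLE_iff]
    exact nonneg_leadingCoeff hL (isCoh_qt h a.2 b.2) (dim_qt hd h) (hilb_qt hL hE hd h)
  modular a b := by
    obtain ⟨e⟩ := Groth.L00.SubobjLattice.nonempty_iso (a := a.1) (b := a.1 ⊔ b.1) (c := a.1 ⊓ b.1)
      (d := b.1) le_sup_left inf_le_right le_sup_right inf_le_left le_rfl le_rfl
    have h1 := hilb_qt (k := k) hL hE hd (a := a) (b := a ⊔ b) le_sup_left
    have h2 := hilb_qt (k := k) hL hE hd (a := a ⊓ b) (b := b) inf_le_right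
    have h3 := isHilbPoly_unique h1 (isHilbPoly_iso e h2)
    linear_combination h3
  alpha_int a := by
    have hP := hp_spec (k := k) hL hE hd a
    obtain ⟨z, hz⟩ := exists_int_alpha
      (natDegree_le hL.1 a.2 (dim_sub_le a.1.arrow hd) hP) fun m => ⟨_, (hP m).symm⟩
    have h0 := alpha_nonneg hL a.2 (dim_sub_le a.1.arrow hd) hP
    rw [hz] at h0
    obtain ⟨n, rfl⟩ := Int.eq_ofNat_of_zero_le (show 0 ≤ z by exact_mod_cast h0)
    exact ⟨n, by rw [hz]; norm_cast⟩

local notation "𝒟" => stabData (k := k) hL hE hd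

theorem hilb_q {a b : cohLattice hE} (h : a.1 ≤ b.1) :
    _root_.ShStab.IsHilbPoly k X L (qt a.1 b.1 h) ((𝒟).q a b) := hilb_qt hL hE hd h

theorem p_ne_of_lt (a b : cohLattice hE) (h : a < b) : (𝒟).p a ≠ (𝒟).p b := by
  intro he
  have h0 := hilb_qt (k := k) hL hE hd (a := a) (b := b) (show a.1 ≤ b.1 from h.le)
  rw [show hp (k := k) hL hE hd b - hp (k := k) hL hE hd a = 0 from sub_eq_zero.2 he.symm] at h0
  haveI := Preadditive.epi_of_isZero_cokernel _
    (isZero_of_hilb_eq_zero hL (isCoh_qt h.le a.2 b.2) (dim_qt hd h.le) h0)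
  haveI := isIso_of_mono_of_epi (Subobject.ofLE a.1 b.1 h.le)
  exact h.ne (Subtype.ext (Subobject.eq_of_comm (asIso (Subobject.ofLE a.1 b.1 h.le))
    (Subobject.ofLE_arrow h.le)))

omit [AlgebraicGeometry.IsNoetherian X] [X.Over (Spec (CommRingCat.of k))] [IsProper (X ↘ Spec (CommRingCat.of k))] in
/-- Subintervals give subobjects of the factor. -/
theorem exists_mono_qt {a c b : Subobject E} (h1 : a ≤ c) (h2 : c ≤ b) :
    ∃ κ : qt a c h1 ⟶ qt a b (h1.trans h2), Mono κ := by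
  refine ⟨cokernel.map _ _ (𝟙 _) (Subobject.ofLE c b h2)
    (by rw [Category.id_comp, Subobject.ofLE_comp_ofLE]), ?_⟩
  refine Groth.L28.Elt.mono_iff.2 ((injective_iff_map_eq_zero _).2 fun z hz => ?_)
  obtain ⟨y, rfl⟩ := Groth.L28.Elt.surj (qπ a c h1) z
  rw [← Groth.L28.Elt.ev_comp, cokernel.π_desc, Groth.L28.Elt.ev_comp,
    Groth.L00.SubobjLattice.ev_qπ_eq_zero_iff, ← Groth.L28.Elt.ev_comp, Subobject.ofLE_arrow] at hz
  rwa [Groth.L00.SubobjLattice.ev_qπ_eq_zero_iff]

/-- Coherent subobjects of a factor come from subintervals. -/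
theorem exists_interval {a b : cohLattice hE} (h : a.1 ≤ b.1) {K : X.Modules} (κ : K ⟶ qt a.1 b.1 h)
    [Mono κ] (hK : Coh.IsCoh K) {P : ℚ[X]} (hP : _root_.ShStab.IsHilbPoly k X L K P) :
    ∃ c : cohLattice hE, a ≤ c ∧ c ≤ b ∧ P = (𝒟).q a c ∧ (c = a → IsZero K) ∧ (c = b → IsIso κ) := by
  have hQ := isCoh_qt h a.2 b.2
  haveI : Coh.IsQCoh (qt a.1 b.1 h) := hQ.1
  have hC := (CohKernel.isCoh_kernel_cokernel hK hQ κ).2
  haveI : Coh.IsQCoh (cokernel κ) := hC.1
  let ψ : (b.1 : X.Modules) ⟶ cokernel κ := qπ a.1 b.1 h ≫ cokernel.π κ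
  have hc : Coh.IsCoh ((Subobject.mk (kernel.ι ψ ≫ b.1.arrow) : Subobject E) : X.Modules) :=
    CohSupport.isCoh_of_iso (Subobject.underlyingIso _).symm (CohSupport.isCoh_kernel b.2 ψ)
  let c : cohLattice hE := ⟨Subobject.mk (kernel.ι ψ ≫ b.1.arrow), hc⟩
  have hac : a.1 ≤ c.1 := Subobject.le_mk_of_comm (kernel.lift ψ (Subobject.ofLE a.1 b.1 h)
    (by simp [ψ, qπ])) (by rw [← Category.assoc, kernel.lift_ι, Subobject.ofLE_arrow])
  have hcb : c.1 ≤ b.1 := Subobject.mk_le_of_comm (kernel.ι ψ) rfl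
  have hker : _root_.ShStab.IsHilbPoly k X L (kernel ψ) (hp (k := k) hL hE hd c) :=
    isHilbPoly_iso (Subobject.underlyingIso _) (hp_spec hL hE hd c)
  obtain ⟨R, hR⟩ := exists_hilb (k := k) hL.1 hC (dim_quot_le (cokernel.π κ) (dim_qt hd h))
  have e1 : hp (k := k) hL hE hd b - hp (k := k) hL hE hd a = P + R :=
    hilb_cokernel hL hK hQ κ hP (hilb_qt hL hE hd h) hR
  haveI : Epi ψ := epi_comp _ _
  have e2 : hp (k := k) hL hE hd b = hp (k := k) hL hE hd c + R :=
    isHilbPoly_unique (hp_spec hL hE hd b) (isHilbPoly_add hL.1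
      (ShortComplex.ShortExact.mk (ShortComplex.exact_kernel ψ) :
        (ShortComplex.mk (kernel.ι ψ) ψ (kernel.condition _)).ShortExact)
      (CohSupport.isCoh_kernel b.2 ψ) b.2 hC hker hR)
  have hPq : P = (𝒟).q a c := by
    change P = hp (k := k) hL hE hd c - hp (k := k) hL hE hd a
    linear_combination e2 - e1
  refine ⟨c, hac, hcb, hPq, fun he => ?_, fun he => ?_⟩
  · rw [he, StabData.q_self] at hPq
    exact isZero_of_hilb_eq_zero hL hK (dim_sub_le κ (dim_qt hd h)) (hPq ▸ hP)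
  · rw [he] at e2
    rw [left_eq_add] at e2
    haveI := Preadditive.epi_of_isZero_cokernel κ
      (isZero_of_hilb_eq_zero hL hC (dim_quot_le (cokernel.π κ) (dim_qt hd h)) (e2 ▸ hR))
    exact isIso_of_mono_of_epi κ

theorem dim_eq_iff_alpha_pos {M : X.Modules} (hM : Coh.IsCoh M)
    (h : topologicalKrullDim (CohB1.support M) ≤ d) {P : ℚ[X]}
    (hP : _root_.ShStab.IsHilbPoly k X L M P) (hL : CohB1.IsAmple L) :
    topologicalKrullDim (CohB1.support M) = d ↔ 0 < alpha d P := by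
  refine ⟨fun he => alpha_pos hL hM he hP, fun hpos => ?_⟩
  by_contra hne
  have := coeff_eq_zero_of_dim_lt hL.1 hM (Euler.add_one_le_of_lt (lt_of_le_of_ne h hne)) hP
  rw [PolyOrd.alpha_eq_zero_iff.2 this] at hpos
  exact lt_irrefl _ hpos

theorem isPure_qt_iff {a b : cohLattice hE} (h : a.1 ≤ b.1) :
    _root_.ShStab.IsPure X (qt a.1 b.1 h) d ↔ (𝒟).IPure a b := by
  constructor
  · intro hp' c hac hcb
    obtain ⟨κ, hκ⟩ := exists_mono_qt (E := E) (show a.1 ≤ c.1 from hac.le) (show c.1 ≤ b.1 from hcb)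
    have hK := isCoh_qt (show a.1 ≤ c.1 from hac.le) a.2 c.2
    have hP := hilb_q (k := k) hL hE hd (a := a) (b := c) hac.le
    refine alpha_pos hL hK (hp' _ κ hκ hK fun h0 => ?_) hP
    refine p_ne_of_lt (k := k) hL hE hd a c hac (sub_eq_zero.1 ?_).symm
    exact isHilbPoly_unique hP (isHilbPoly_zero (k := k) hL.1 h0)
  · intro hp' K κ hκ hK h0
    haveI := hκ
    have dK := dim_sub_le κ (dim_qt hd h)
    obtain ⟨P, hP⟩ := exists_hilb (k := k) hL.1 hK dK
    obtain ⟨c, hac, hcb, hPq, hz, -⟩ := exists_interval (k := k) hL hE hd h κ hK hP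
    have hlt : a < c := lt_of_le_of_ne hac fun he => h0 (hz he.symm)
    exact (dim_eq_iff_alpha_pos (k := k) hK dK hP hL).2 (hPq ▸ hp' c hlt hcb)

theorem isSemistable_qt_iff {a b : cohLattice hE} (h : a.1 ≤ b.1) :
    _root_.ShStab.IsSemistable k X L (qt a.1 b.1 h) d ↔ (𝒟).ISS a b := by
  have hab : a ≤ b := h
  have hQ := isCoh_qt h a.2 b.2
  have hq := hilb_q (k := k) hL hE hd h
  constructor
  · rintro ⟨-, h0, hp', hss⟩
    have hlt : a < b := lt_of_le_of_ne hab fun he => h0 (by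
      subst he
      exact isZero_of_hilb_eq_zero hL hQ (dim_qt hd h) (by rwa [StabData.q_self] at hq))
    refine ⟨hlt, (isPure_qt_iff (k := k) hL hE hd h).1 hp', fun c hac hcb => ?_⟩
    obtain ⟨κ, hκ⟩ := exists_mono_qt (E := E) (show a.1 ≤ c.1 from hac.le) (show c.1 ≤ b.1 from hcb.le)
    haveI := hκ
    have hK := isCoh_qt (show a.1 ≤ c.1 from hac.le) a.2 c.2
    have hP := hilb_q (k := k) hL hE hd (a := a) (b := c) hac.le
    refine hss _ κ hκ hK (fun h0' => ?_) (fun hi => ?_) _ _ hP hq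
    · refine p_ne_of_lt (k := k) hL hE hd a c hac (sub_eq_zero.1 ?_).symm
      exact isHilbPoly_unique hP (isHilbPoly_zero (k := k) hL.1 h0')
    · refine p_ne_of_lt (k := k) hL hE hd c b hcb ?_
      have e := isHilbPoly_unique (isHilbPoly_iso (asIso κ) hP) hq
      simp only [StabData.q, sub_left_inj] at e
      exact e
  · intro hs
    refine ⟨hQ, fun h0 => ?_, (isPure_qt_iff (k := k) hL hE hd h).2 hs.2.1, fun K κ hκ hK h0 hi pF pE hpF hpE => ?_⟩
    · refine p_ne_of_lt (k := k) hL hE hd a b hs.1 (sub_eq_zero.1 ?_).symm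
      exact isHilbPoly_unique hq (isHilbPoly_zero (k := k) hL.1 h0)
    · haveI := hκ
      obtain ⟨c, hac, hcb, hPq, hz, hi'⟩ := exists_interval (k := k) hL hE hd h κ hK hpF
      rw [isHilbPoly_unique hpE hq, hPq]
      exact hs.2.2 c (lt_of_le_of_ne hac fun he => h0 (hz he.symm))
        (lt_of_le_of_ne hcb fun he => hi (hi' he))

theorem isStable_qt_iff {a b : cohLattice hE} (h : a.1 ≤ b.1) :
    _root_.ShStab.IsStable k X L (qt a.1 b.1 h) d ↔ (𝒟).ISt a b := by
  have hq := hilb_q (k := k) hL hE hd h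
  constructor
  · intro hst
    obtain ⟨hlt, hp', -⟩ := (isSemistable_qt_iff (k := k) hL hE hd h).1 (Schur.isSemistable_of_isStable hst)
    refine ⟨hlt, hp', fun c hac hcb => ?_⟩
    obtain ⟨κ, hκ⟩ := exists_mono_qt (E := E) (show a.1 ≤ c.1 from hac.le) (show c.1 ≤ b.1 from hcb.le)
    haveI := hκ
    have hP := hilb_q (k := k) hL hE hd (a := a) (b := c) hac.le
    refine hst.2.2.2 _ κ hκ (isCoh_qt (show a.1 ≤ c.1 from hac.le) a.2 c.2) (fun h0' => ?_)
      (fun hi => ?_) _ _ hP hq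
    · refine p_ne_of_lt (k := k) hL hE hd a c hac (sub_eq_zero.1 ?_).symm
      exact isHilbPoly_unique hP (isHilbPoly_zero (k := k) hL.1 h0')
    · refine p_ne_of_lt (k := k) hL hE hd c b hcb ?_
      have e := isHilbPoly_unique (isHilbPoly_iso (asIso κ) hP) hq
      simp only [StabData.q, sub_left_inj] at e
      exact e
  · intro hs
    obtain ⟨hQ, h0', hp', -⟩ := (isSemistable_qt_iff (k := k) hL hE hd h).2 hs.iss
    refine ⟨hQ, h0', hp', fun K κ hκ hK h0 hi pF pE hpF hpE => ?_⟩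
    haveI := hκ
    obtain ⟨c, hac, hcb, hPq, hz, hi'⟩ := exists_interval (k := k) hL hE hd h κ hK hpF
    rw [isHilbPoly_unique hpE hq, hPq]
    exact hs.2.2 c (lt_of_le_of_ne hac fun he => h0 (hz he.symm))
      (lt_of_le_of_ne hcb fun he => hi (hi' he))

theorem iPure_bot_top (hp' : _root_.ShStab.IsPure X E d) : (𝒟).IPure ⊥ ⊤ := by
  intro c hc _
  have h1 : (𝒟).q ⊥ c = hp (k := k) hL hE hd c := by
    change _ - hp (k := k) hL hE hd ⊥ = _
    rw [isHilbPoly_unique (hp_spec hL hE hd ⊥) (isHilbPoly_zero (k := k) hL.1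
      (IsZero.of_iso (isZero_zero _) Subobject.botCoeIsoZero)), sub_zero]
    rfl
  have h0 : ¬ IsZero (c.1 : X.Modules) := fun h0 => by
    refine p_ne_of_lt (k := k) hL hE hd ⊥ c hc (sub_eq_zero.1 ?_).symm
    exact h1.trans (isHilbPoly_unique (hp_spec hL hE hd c) (isHilbPoly_zero (k := k) hL.1 h0))
  rw [StabData.av, h1]
  exact alpha_pos_sub hL hp' c.1.arrow c.2 h0 (hp_spec hL hE hd c)

theorem q_bot_top {P : ℚ[X]} (hP : _root_.ShStab.IsHilbPoly k X L E P) : (𝒟).q ⊥ ⊤ = P := by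
  refine isHilbPoly_unique ?_ hP
  have h1 : (𝒟).q ⊥ ⊤ = hp (k := k) hL hE hd ⊤ := by
    change _ - hp (k := k) hL hE hd ⊥ = _
    rw [isHilbPoly_unique (hp_spec hL hE hd ⊥) (isHilbPoly_zero (k := k) hL.1
      (IsZero.of_iso (isZero_zero _) Subobject.botCoeIsoZero)), sub_zero]
    rfl
  rw [h1]
  exact isHilbPoly_iso (asIso (⊤ : Subobject E).arrow) (hp_spec hL hE hd ⊤)

end Bridge

end Groth.L03.ShStab
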