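import Groth.Agent.L03.ShStab.Filtrations

/-!
# The truncated theory
-/

universe u

open CategoryTheory CategoryTheory.Limits AlgebraicGeometry Polynomial StabCat
open Groth.L03.Euler
open Groth.L00.SubobjLattice (qt qπ)

namespace Groth.L03.ShStab

open PolyOrd

theorem PolyOrd.topPart_add {d : ℕ} {P Q : ℚ[X]} (ℓ : ℕ) :
    topPart ℓ d (P + Q) = topPart ℓ d P + topPart ℓ d Q := by
  simp only [topPart, coeff_add, map_add, Finset.sum_add_distrib]

theorem PolyOrd.natDegree_topPart_le {d : ℕ} (P : ℚ[X]) (ℓ : ℕ) : (topPart ℓ d P).natDegree ≤ d :=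
  natDegree_sum_le_of_forall_le _ _ fun i hi =>
    (natDegree_monomial_le _).trans (Finset.mem_Icc.1 hi).2

/-- Truncating a valuation. -/
noncomputable def StabData.trunc {Λ : Type u} [Lattice Λ] [BoundedOrder Λ] {d : ℕ} (D : StabData Λ d)
    (ℓ : ℕ) : StabData Λ d where
  p a := topPart ℓ d (D.p a)
  modular a b := by rw [← topPart_add, D.modular, topPart_add]
  natDegree_le a := natDegree_topPart_le _ ℓ
  mono a b h := by
    rw [polyLE_iff, ← topPart_sub]
    exact topPart_nonneg ℓ (D.q_natDegree a b) (polyLE_iff.1 (D.mono a b h))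
  alpha_int a := by
    obtain ⟨n, hn⟩ := D.alpha_int a
    exact ⟨n, by rw [alpha_topPart, hn]⟩

namespace StabData

variable {Λ : Type u} [Lattice Λ] [BoundedOrder Λ] {d : ℕ} {D : StabData Λ d} {a b : Λ}

theorem trunc_q (ℓ : ℕ) : (D.trunc ℓ).q a b = topPart ℓ d (D.q a b) :=
  (topPart_sub ℓ).symm

theorem trunc_av (ℓ : ℕ) : (D.trunc ℓ).av a b = D.av a b := by
  rw [av, trunc_q, alpha_topPart]; rfl

theorem trunc_r (ℓ : ℕ) : (D.trunc ℓ).r a b = red d (topPart ℓ d (D.q a b)) := by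
  rw [r, trunc_q]

theorem trunc_iPure (ℓ : ℕ) : (D.trunc ℓ).IPure a b ↔ D.IPure a b := by
  simp only [IPure, trunc_av]

end StabData

theorem PolyOrd.redLE_topPart_one {d : ℕ} (hd : 1 ≤ d) {P Q : ℚ[X]} (hP : 0 < alpha d P)
    (hQ : 0 < alpha d Q) :
    RedLE d (topPart 1 d P) (topPart 1 d Q) ↔ hatSlope d P ≤ hatSlope d Q := by
  obtain ⟨e, rfl⟩ : ∃ e, d = e + 1 := ⟨d - 1, by omega⟩
  have hexp : ∀ R : ℚ[X], topPart 1 (e + 1) R =
      monomial e (R.coeff e) + monomial (e + 1) (R.coeff (e + 1)) := fun R => by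
    rw [topPart, Finset.sum_Icc_succ_top (by omega)]
    simp
  have hdiff : alpha (e + 1) P • topPart 1 (e + 1) Q - alpha (e + 1) Q • topPart 1 (e + 1) P =
      monomial e (alpha (e + 1) P * Q.coeff e - alpha (e + 1) Q * P.coeff e) := by
    rw [hexp, hexp, smul_add, smul_add]
    simp only [smul_monomial, smul_eq_mul, map_sub, alpha]
    rw [show ((e + 1).factorial : ℚ) * P.coeff (e + 1) * Q.coeff (e + 1) =
      ((e + 1).factorial : ℚ) * Q.coeff (e + 1) * P.coeff (e + 1) by ring]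
    abel
  have hlc : ∀ c : ℚ, (monomial e c).leadingCoeff = c := fun c => leadingCoeff_monomial c e
  rw [RedLE, alpha_topPart, alpha_topPart, polyLE_iff, hdiff, hlc]
  simp only [hatSlope, Nat.add_sub_cancel]
  rw [div_le_div_iff₀ hP hQ]
  simp only [show ∀ R : ℚ[X], alpha e R = (e.factorial : ℚ) * R.coeff e from fun R => rfl]
  have : (0 : ℚ) < e.factorial := by exact_mod_cast Nat.factorial_pos e
  constructor <;> intro h <;> nlinarith

theorem PolyOrd.redLT_topPart_one {d : ℕ} (hd : 1 ≤ d) {P Q : ℚ[X]} (hP : 0 < alpha d P)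
    (hQ : 0 < alpha d Q) :
    RedLT d (topPart 1 d P) (topPart 1 d Q) ↔ hatSlope d P < hatSlope d Q := by
  rw [redLT_iff_not_redLE, redLE_topPart_one hd hQ hP, not_le]

namespace Filt

open Bridge Basic

section

variable {k : Type u} [Field k] {X : Scheme.{u}} [X.Over (Spec (CommRingCat.of k))]
  [IsProper (X ↘ Spec (CommRingCat.of k))] {L : X.Modules} {d : ℕ} {E : X.Modules}

/-- On pure modules slope semistability is `1`-semistability. -/
theorem isMuSemistable_iff (hL : CohB1.IsAmple L) (hd1 : 1 ≤ d) :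
    (_root_.ShStab.IsPure X E d ∧ _root_.ShStab.IsMuSemistable k X L E d) ↔
      _root_.ShStab.IsEllSemistable k X L E d 1 := by
  constructor
  · rintro ⟨hp, hE, h0, -, -, hss⟩
    refine ⟨hE, h0, hp, fun F ι hι hF pF pE hpF hpE h1 h2 => ?_⟩
    exact (redLE_topPart_one hd1 h1 (h1.trans h2)).2 (hss F ι hι hF pF pE hpF hpE h1 h2)
  · rintro ⟨hE, h0, hp, hss⟩
    refine ⟨hp, hE, h0, hp E (𝟙 E) inferInstance hE h0, fun F ι hι hF h => ?_,
      fun F ι hι hF pF pE hpF hpE h1 h2 =>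
        (redLE_topPart_one hd1 h1 (h1.trans h2)).1 (hss F ι hι hF pF pE hpF hpE h1 h2)⟩
    by_cases hF0 : IsZero F
    · rw [topologicalKrullDim_of_empty ((Groth.L21.Mod.isZero_iff_support_eq_empty F).1 hF0)] at h
      simp at h
    · rw [hp F ι hι hF hF0] at h
      norm_cast at h
      omega

end

variable {X : Scheme.{u}} [IsNoetherian X] {E : X.Modules} {k : Type u} [Field k]
  [X.Over (Spec (CommRingCat.of k))] [IsProper (X ↘ Spec (CommRingCat.of k))] {L : X.Modules} {d : ℕ}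
variable (hL : CohB1.IsAmple L) (hE : Coh.IsCoh E) (hd : topologicalKrullDim (CohB1.support E) ≤ d)

local notation "𝒟" => stabData (k := k) hL hE hd

theorem isEllSemistable_qt_iff (ℓ : ℕ) {a b : cohLattice hE} (h : a.1 ≤ b.1) :
    _root_.ShStab.IsEllSemistable k X L (qt a.1 b.1 h) d ℓ ↔ ((𝒟).trunc ℓ).ISS a b := by
  have hab : a ≤ b := h
  have hQ := isCoh_qt h a.2 b.2
  have hq := hilb_q (k := k) hL hE hd h
  constructor
  · rintro ⟨-, h0, hp', hss⟩
    have hlt : a < b := lt_of_le_of_ne hab fun he => h0 (by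
      subst he
      exact isZero_of_hilb_eq_zero hL hQ (dim_qt hd h) (by rwa [StabData.q_self] at hq))
    have hip := (isPure_qt_iff (k := k) hL hE hd h).1 hp'
    refine ⟨hlt, (StabData.trunc_iPure ℓ).2 hip, fun c hac hcb => ?_⟩
    have hpc := hip c hac hcb.le
    have hpb := hip b hlt le_rfl
    rw [StabData.trunc_q, StabData.trunc_q]
    have hadd := (𝒟).av_add a c b
    rcases ((𝒟).av_nonneg hcb.le).eq_or_lt with h0' | h0'
    · have h1 : 0 < ((𝒟).trunc ℓ).av a c := by rw [StabData.trunc_av]; exact hpc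
      have h2 := ((𝒟).trunc ℓ).r_le_of_av_eq hcb.le h1
        (by rw [StabData.trunc_av, StabData.trunc_av]; linarith)
      rw [StabData.trunc_r, StabData.trunc_r] at h2
      exact (redLE_iff (by rw [alpha_topPart]; exact hpc) (by rw [alpha_topPart]; exact hpb)).2 h2
    · obtain ⟨κ, hκ⟩ := exists_mono_qt (E := E) (show a.1 ≤ c.1 from hac.le) (show c.1 ≤ b.1 from hcb.le)
      have hP := hilb_q (k := k) hL hE hd (a := a) (b := c) hac.le
      refine hss _ κ hκ (isCoh_qt (show a.1 ≤ c.1 from hac.le) a.2 c.2) _ _ hP hq hpc ?_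
      change (𝒟).av a c < (𝒟).av a b
      linarith
  · intro hs
    refine ⟨hQ, fun h0 => ?_,
      (isPure_qt_iff (k := k) hL hE hd h).2 ((StabData.trunc_iPure ℓ).1 hs.2.1),
      fun K κ hκ hK pF pE hpF hpE h1 h2 => ?_⟩
    · refine p_ne_of_lt (k := k) hL hE hd a b hs.1 (sub_eq_zero.1 ?_).symm
      exact isHilbPoly_unique hq (isHilbPoly_zero (k := k) hL.1 h0)
    · haveI := hκ
      obtain ⟨c, hac, hcb, hPq, -, -⟩ := exists_interval (k := k) hL hE hd h κ hK hpF
      rw [isHilbPoly_unique hpE hq, hPq] at h2 ⊢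
      rw [hPq] at h1
      have := hs.2.2 c (lt_of_le_of_ne hac fun he => by
          rw [← he, StabData.q_self] at h1; simp [alpha] at h1)
        (lt_of_le_of_ne hcb fun he => by rw [he] at h2; exact lt_irrefl _ h2)
      rwa [StabData.trunc_q, StabData.trunc_q] at this

theorem isEllHN_iff (ℓ : ℕ) (t : LTSeries (cohLattice hE)) :
    IsHNWith (fun G => _root_.ShStab.IsEllSemistable k X L G d ℓ)
      (fun G P => ∃ Q : ℚ[X], _root_.ShStab.IsHilbPoly k X L G Q ∧ P = topPart ℓ d Q) d E (ofLat t) ↔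
      ((𝒟).trunc ℓ).IsHN ⊥ t := by
  constructor
  · rintro ⟨h0, h1, h2, h3⟩
    refine ⟨Subtype.ext h0, Subtype.ext h1,
      fun i => (isEllSemistable_qt_iff (k := k) hL hE hd ℓ (t.step i).le).1 (h2 i), fun i j hij => ?_⟩
    rw [StabData.trunc_q, StabData.trunc_q]
    exact h3 i j hij _ _ ⟨_, hilb_q hL hE hd (t.step i).le, rfl⟩ ⟨_, hilb_q hL hE hd (t.step j).le, rfl⟩
  · rintro ⟨h0, h1, h2, h3⟩
    refine ⟨congrArg Subtype.val h0, congrArg Subtype.val h1,
      fun i => (isEllSemistable_qt_iff (k := k) hL hE hd ℓ (t.step i).le).2 (h2 i), ?_⟩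
    rintro i j hij _ _ ⟨p, hp', rfl⟩ ⟨q, hq, rfl⟩
    have := h3 i j hij
    rw [StabData.trunc_q, StabData.trunc_q] at this
    rw [isHilbPoly_unique hp' (hilb_q hL hE hd (t.step i).le),
      isHilbPoly_unique hq (hilb_q hL hE hd (t.step j).le)]
    exact this

end Filt

end Groth.L03.ShStab
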