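import Groth.Agent.L22.Reg.Mult
import Groth.Agent.L16.Exist.AdicGen
import Groth.Agent.L18.GenLocus
import Groth.Agent.L03.Euler.Twist

/-!
# Extensions by invertible modules split when the twisted first cohomology vanishes
-/

set_option autoImplicit false
set_option backward.isDefEq.respectTransparency false
set_option linter.style.haveILetI false

universe u

open CategoryTheory CategoryTheory.Limits AlgebraicGeometry TopologicalSpace Opposite

namespace Groth.L03.ShStab.ExtTwist

open Groth.L00.Tensor (tensorMap tensorRightF tensorIso)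

variable {X : Scheme.{u}}

/-- A short exact sequence `0 → A → E → B → 0` with `B` invertible, inverse `N`, splits when
`H¹(A ⊗ N) = 0`. -/
theorem nonempty_splitting {S : ShortComplex X.Modules} (hS : S.ShortExact) {L N : X.Modules}
    (hN : PicF.IsInvertible N) (e₃ : S.X₃ ≅ L) (e : CohB1.tensorMod N L ≅ Coh.structureModule X)
    (h : Subsingleton (Coh.HH X (CohB1.tensorMod S.X₁ N) 1)) : Nonempty S.Splitting := by
  let j : Coh.structureModule X ≅ (tensorRightF N).obj S.X₃ :=
    e.symm ≪≫ Groth.L00.Tensor.tensorComm N L ≪≫ tensorIso e₃.symm (Iso.refl N)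
  obtain ⟨τ, hτ⟩ := Groth.L16.Exist.Adic.surjective_app_top (Groth.L03.Euler.shortExact_tensor hN hS) h
    (Groth.L18.GenLoc.secOf j.hom)
  let ψ := Groth.L16.homOfSection ((tensorRightF N).obj S.X₂) τ
  have hψ : ψ ≫ (tensorRightF N).map S.g = j.hom := by
    rw [← Groth.L18.GenLoc.homOfSection_secOf j.hom,
      ← Groth.L18.GenLoc.homOfSection_secOf (ψ ≫ (tensorRightF N).map S.g)]
    congr 1
    exact (congrArg (((tensorRightF N).map S.g).app ⊤) (Groth.L18.GenLoc.secOf_homOfSection τ)).trans hτ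
  let s : S.X₃ ⟶ S.X₂ := (Groth.L22.Reg.cI e S.X₃).inv ≫ (tensorRightF L).map (j.inv ≫ ψ) ≫
    (Groth.L22.Reg.cI e S.X₂).hom
  have hs : s ≫ S.g = 𝟙 S.X₃ := by
    have h1 := Groth.L22.Reg.cI_natural e S.g
    have h2 : (j.inv ≫ ψ) ≫ (tensorRightF N).map S.g = 𝟙 _ := by
      rw [Category.assoc, hψ, Iso.inv_hom_id]
    show ((Groth.L22.Reg.cI e S.X₃).inv ≫ (tensorRightF L).map (j.inv ≫ ψ) ≫
      (Groth.L22.Reg.cI e S.X₂).hom) ≫ S.g = _
    rw [Category.assoc, Category.assoc, ← h1]
    refine (congrArg (fun z => (Groth.L22.Reg.cI e S.X₃).inv ≫ z) ?_).trans (Iso.inv_hom_id _)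
    rw [← Category.assoc]
    refine (congrArg (· ≫ _) ?_).trans (Category.id_comp _)
    rw [← (tensorRightF L).map_comp]
    exact (congrArg (tensorRightF L).map h2).trans ((tensorRightF L).map_id _)
  haveI := hS.mono_f
  exact ⟨ShortComplex.Splitting.ofExactOfSection S hS.exact s hs hS.mono_f⟩

end Groth.L03.ShStab.ExtTwist
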