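import Groth.Agent.L03.ShStab.Lift
import Groth.Agent.L17.BC.Model
import Groth.Agent.L17.Approx.Pull
import Groth.Agent.L01.FlatCx.Seq
import Groth.Agent.L16.HomSh.ModPowSect
import Groth.Agent.L03.ShStab.CohSub

/-!
# Sections of short exact sequences and of base changes; flat submodules
-/

set_option autoImplicit false
set_option linter.style.haveILetI false

universe u

open CategoryTheory CategoryTheory.Limits AlgebraicGeometry TopologicalSpace Opposite
open scoped TensorProduct

noncomputable section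

namespace Groth.L03.ShStab.FlatSec

open Groth.L16.AffineBC
open Groth.L17.BC (Sec act)
open Groth.L18.Frame (rs ro pull pull_smul rs_self)

/-- A morphism on sections, linearly. -/
def secMap {X : Scheme.{u}} {A : Type u} [CommRing A] (ρ : A →+* Coh.Γtop X) {M N : X.Modules} (φ : M ⟶ N)
    (V : X.Opens) : Sec ρ M V →ₗ[A] Sec ρ N V where
  toFun s := φ.app V s
  map_add' a b := map_add (φ.app V).hom a b
  map_smul' a s := φ.app_smul (act ρ V a) s

section Exact

variable {X : Scheme.{u}} {A : Type u} [CommRing A] (ρ : A →+* Coh.Γtop X) {G E : X.Modules}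
  [Coh.IsQCoh G] [Coh.IsQCoh E] (κ : G ⟶ E) [Mono κ]

omit [Coh.IsQCoh G] [Coh.IsQCoh E] in
theorem injective_secMap (V : X.Opens) : Function.Injective (secMap ρ κ V) :=
  CohSub.app_injective κ V

theorem surjective_secMap_π {V : X.Opens} (hV : IsAffineOpen V) :
    Function.Surjective (secMap ρ (cokernel.π κ) V) := by
  haveI : Coh.IsQCoh (cokernel κ) := Groth.L16.Devissage.isQCoh_cokernel κ
  exact surjective_app_of_epi (cokernel.π κ) hV

omit [Coh.IsQCoh G] [Coh.IsQCoh E] in
theorem exact_secMap (V : X.Opens) :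
    Function.Exact (secMap ρ κ V) (secMap ρ (cokernel.π κ) V) := by
  intro y
  refine ⟨fun hy => ?_, ?_⟩
  · obtain ⟨z, hz⟩ := Groth.L16.HomSh.exists_kernel_lift (cokernel.π κ) (U := V) y hy
    refine ⟨(Abelian.monoLift κ (kernel.ι (cokernel.π κ)) (kernel.condition _)).app V z, ?_⟩
    refine Eq.trans ?_ hz
    exact congrArg (fun φ : kernel (cokernel.π κ) ⟶ E => φ.app V z) (Abelian.monoLift_comp κ _ _)
  · rintro ⟨z, rfl⟩
    exact congrArg (fun φ : G ⟶ cokernel κ => φ.app V z) (cokernel.condition κ)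

end Exact

/-- The kernel of a map of flat modules with flat cokernel is flat over the base. -/
theorem isFlatOver_left {X : Scheme.{u}} {A : Type u} [CommRing A] (f : X ⟶ Spec (CommRingCat.of A))
    {G E : X.Modules} [Coh.IsQCoh G] [Coh.IsQCoh E] (κ : G ⟶ E) [Mono κ] {ι : Type*} (U : ι → X.Opens)
    (hU : ∀ i, IsAffineOpen (U i)) (hcov : ∀ x, ∃ i, x ∈ U i)
    (hE : ∀ i, Module.Flat A (Sec (Coh.toGlobal f) E (U i)))
    (hQ : ∀ i, Module.Flat A (Sec (Coh.toGlobal f) (cokernel κ) (U i))) : FlatMod.IsFlatOver f G :=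
  Groth.L17.Approx.isFlatOver_of_flat_sec f G U hU hcov fun i =>
    haveI := hE i
    haveI := hQ i
    Groth.L01.FlatCx.flat_left (injective_secMap _ κ _) (surjective_secMap_π _ κ (hU i)) (exact_secMap _ κ _)

section BC

variable (A : Type u) [CommRing A] (B : Type u) [CommRing B] [Algebra A B] (X : Scheme.{u})
  [X.Over (Spec (CommRingCat.of A))]

/-- Sections of a base change over an affine open are the tensor product. -/
theorem exists_secEquiv (M : X.Modules) [Coh.IsQCoh M] {U : X.Opens} (hU : IsAffineOpen U) :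
    ∃ e : B ⊗[A] Sec (Coh.toGlobal (X ↘ Spec (CommRingCat.of A))) M U ≃ₗ[B]
        Sec (Coh.toGlobal (Xb A B X ↘ Spec (CommRingCat.of B))) ((Scheme.Modules.pullback (gb A B X)).obj M)
          (gb A B X ⁻¹ᵁ U),
      ∀ (b : B) (m : Sec (Coh.toGlobal (X ↘ Spec (CommRingCat.of A))) M U),
        e (b ⊗ₜ m) = b • (show Sec (Coh.toGlobal (Xb A B X ↘ Spec (CommRingCat.of B)))
          ((Scheme.Modules.pullback (gb A B X)).obj M) (gb A B X ⁻¹ᵁ U) from pull (gb A B X) M U m) := by
  obtain ⟨E, hE⟩ := exists_equiv A B X M hU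
  let T := Sec (Coh.toGlobal (Xb A B X ↘ Spec (CommRingCat.of B))) ((Scheme.Modules.pullback (gb A B X)).obj M)
    (gb A B X ⁻¹ᵁ U)
  let e : B ⊗[A] Sec (Coh.toGlobal (X ↘ Spec (CommRingCat.of A))) M U ≃+ T := E
  have he : ∀ (b : B) (m : Sec (Coh.toGlobal (X ↘ Spec (CommRingCat.of A))) M U),
      e (b ⊗ₜ m) = b • (show T from pull (gb A B X) M U m) := fun b m =>
    (hE b m).trans (Coh.smulAb_app _ _ _ _)
  refine ⟨{ e with map_smul' := fun b z => ?_ }, he⟩
  show e (b • z) = b • e z
  induction z using TensorProduct.induction_on with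
  | zero => rw [smul_zero, map_zero, smul_zero]
  | tmul c m =>
    rw [TensorProduct.smul_tmul', he, he, ← mul_smul]
    rfl
  | add x y hx hy => rw [smul_add, map_add, map_add, hx, hy, smul_add]

theorem flat_sec_pullback (M : X.Modules) [Coh.IsQCoh M] {U : X.Opens} (hU : IsAffineOpen U)
    (h : Module.Flat B (B ⊗[A] Sec (Coh.toGlobal (X ↘ Spec (CommRingCat.of A))) M U)) :
    Module.Flat B (Sec (Coh.toGlobal (Xb A B X ↘ Spec (CommRingCat.of B)))
      ((Scheme.Modules.pullback (gb A B X)).obj M) (gb A B X ⁻¹ᵁ U)) := by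
  obtain ⟨e, -⟩ := exists_secEquiv A B X M hU
  haveI := h
  exact Module.Flat.of_linearEquiv e.symm

/-- A monomorphism with flat cokernel stays one after any base change. -/
theorem mono_pullback_of_flat {G E : X.Modules} [Coh.IsQCoh G] [Coh.IsQCoh E] (κ : G ⟶ E) [Mono κ]
    {ι : Type*} (U : ι → X.Opens) (hU : ∀ i, IsAffineOpen (U i)) (hcov : ∀ x, ∃ i, x ∈ U i)
    (hQ : ∀ i, Module.Flat A (Sec (Coh.toGlobal (X ↘ Spec (CommRingCat.of A))) (cokernel κ) (U i))) :
    Mono ((Scheme.Modules.pullback (gb A B X)).map κ) := by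
  haveI := isQCoh_pullback (gb A B X) G
  haveI := isQCoh_pullback (gb A B X) E
  refine Groth.L17.Approx.mono_of_injective_cover _ (fun i => gb A B X ⁻¹ᵁ U i) (fun i => (hU i).preimage _)
    (fun y => hcov (gb A B X y)) fun i => ?_
  haveI := hQ i
  obtain ⟨eG, hG⟩ := exists_secEquiv A B X G (hU i)
  obtain ⟨eE, hE⟩ := exists_secEquiv A B X E (hU i)
  let κ₁ := secMap (Coh.toGlobal (X ↘ Spec (CommRingCat.of A))) κ (U i)
  have hinj : Function.Injective (κ₁.lTensor B) := by
    have h1 := Groth.L01.FlatCx.rTensor_injective_of_flat_quot (injective_secMap _ κ (U i))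
      (surjective_secMap_π (Coh.toGlobal (X ↘ Spec (CommRingCat.of A))) κ (hU i)) (exact_secMap _ κ (U i)) B
    intro a b hab
    apply (TensorProduct.comm A _ _).injective
    apply h1
    exact (LinearMap.congr_fun (LinearMap.rTensor_comp_comm κ₁) a).trans
      ((congrArg (TensorProduct.comm A _ _) hab).trans
        (LinearMap.congr_fun (LinearMap.rTensor_comp_comm κ₁) b).symm)
  let φ := secMap (Coh.toGlobal (Xb A B X ↘ Spec (CommRingCat.of B))) ((Scheme.Modules.pullback (gb A B X)).map κ)
    (gb A B X ⁻¹ᵁ U i)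
  have key : ∀ z, φ (eG z) = eE (κ₁.lTensor B z) := by
    intro z
    induction z using TensorProduct.induction_on with
    | zero => simp only [map_zero]
    | tmul b m =>
      rw [LinearMap.lTensor_tmul, hG, hE, map_smul]
      exact congrArg (b • ·) (Groth.L17.BC.PullSec.map_pull (gb A B X) κ (U i) m)
    | add x y hx hy => simp only [map_add, hx, hy]
  intro a b hab
  obtain ⟨za, rfl⟩ := eG.surjective a
  obtain ⟨zb, rfl⟩ := eG.surjective b
  exact congrArg eG (hinj (eE.injective ((key za).symm.trans (hab.trans (key zb)))))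

end BC

end Groth.L03.ShStab.FlatSec
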