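import Groth.Agent.L15.Ref.ExtDiv
import Groth.Agent.L21.Mod.Stalks
import Groth.Agent.L16.HomSh.Basic
import Groth.Agent.L21.RR.Sections
import Groth.Prelude.Def_ExtPow2

/-!
# A globally generated bundle with trivial determinant is trivial
-/

set_option autoImplicit false
set_option linter.style.haveILetI false

universe u

open CategoryTheory CategoryTheory.Limits AlgebraicGeometry TopologicalSpace Opposite

noncomputable section

namespace Groth.L03.ShStab.TrivialGG

open Groth.L18.Frame (rs ro rs_rs rs_self)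
open Groth.L22.CurveDeg.Det (wedge rs_wedge)
open Groth.L20.ModStalk (germ_rs)

variable {X : Scheme.{u}}

/-- The standard sections of the free module. -/
def unitVec (r : ℕ) (j : Fin r) : Γ(FlatMod.freeMod X r, ⊤) :=
  (Sigma.ι (fun _ : Fin r => Coh.structureModule X) j).app ⊤ (1 : Γ(X, ⊤))

theorem bijective_unitVec (r : ℕ) (x : X) : Function.Bijective fun c : Fin r → X.presheaf.stalk x =>
    ∑ j, c j • (FlatMod.freeMod X r).presheaf.germ ⊤ x trivial (unitVec r j) := by
  let ι : Fin r → (Coh.structureModule X ⟶ FlatMod.freeMod X r) := Sigma.ι (fun _ : Fin r => Coh.structureModule X)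
  let π : Fin r → (FlatMod.freeMod X r ⟶ Coh.structureModule X) := fun j =>
    Sigma.desc fun i => if i = j then 𝟙 _ else 0
  have hab : ∀ i j, ι i ≫ π j = if i = j then 𝟙 _ else 0 := fun i j => Sigma.ι_desc _ _
  have hba : ∑ i, π i ≫ ι i = 𝟙 (FlatMod.freeMod X r) := by
    refine Sigma.hom_ext _ _ fun k => ?_
    rw [Preadditive.comp_sum, Category.comp_id, Finset.sum_eq_single k]
    · simp [π, ι]
    · intro i _ hi
      simp [π, Ne.symm hi]
    · exact fun hk => (hk (Finset.mem_univ k)).elim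
  exact Groth.L17.PullBasis.bijective_stalk (FlatMod.freeMod X r) (fun j => unitVec r j)
    (fun V g => Groth.L17.FinLocBases.bijective_lc ι π hab hba V) x trivial

theorem desc_unitVec {r : ℕ} {M : X.Modules} (t : Fin r → Γ(M, ⊤)) (j : Fin r) :
    (Sigma.desc fun i => Groth.L16.homOfSection M (t i)).app ⊤ (unitVec r j) = t j := by
  have h := congrArg (fun f => f.app ⊤ (1 : Γ(X, ⊤)))
    (Sigma.ι_desc (fun i => Groth.L16.homOfSection M (t i)) j)
  exact h.trans (Groth.L21.RR.app_homOfSection_one (t j))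

theorem isIso_desc {r : ℕ} {M : X.Modules} (t : Fin r → Γ(M, ⊤))
    (h : ∀ x : X, Function.Bijective fun c : Fin r → X.presheaf.stalk x =>
      ∑ j, c j • M.presheaf.germ ⊤ x trivial (t j)) :
    IsIso (Sigma.desc fun i => Groth.L16.homOfSection M (t i) : FlatMod.freeMod X r ⟶ M) := by
  rw [Groth.L21.Mod.isIso_iff_stalk_bijective]
  intro x
  refine ((bijective_unitVec r x).of_comp_iff _).1 ?_
  refine Eq.mp (congrArg Function.Bijective ?_) (h x)
  funext c
  show _ = RefHull.stalkMapₗ _ x (∑ j, c j • _)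
  rw [map_sum]
  refine Finset.sum_congr rfl fun j _ => ?_
  rw [map_smul, RefHull.stalkMapₗ_germ, desc_unitVec]

theorem span_germs_of_epi {N : ℕ} {M : X.Modules} (φ : FlatMod.freeMod X N ⟶ M) [Epi φ] (x : X) :
    Submodule.span (X.presheaf.stalk x)
      (Set.range fun j => M.presheaf.germ ⊤ x trivial (φ.app ⊤ (unitVec N j))) = ⊤ := by
  refine top_le_iff.1 fun v _ => ?_
  obtain ⟨w, hw⟩ := (Groth.L21.Mod.epi_iff_stalk_surjective φ).1 inferInstance x v
  obtain ⟨c, rfl⟩ := (bijective_unitVec N x).2 w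
  have hv : v = ∑ j, c j • M.presheaf.germ ⊤ x trivial (φ.app ⊤ (unitVec N j)) := by
    rw [← hw]
    show RefHull.stalkMapₗ φ x (∑ j, c j • _) = _
    rw [map_sum]
    exact Finset.sum_congr rfl fun j _ => by rw [map_smul, RefHull.stalkMapₗ_germ]
  rw [hv]
  exact Submodule.sum_mem _ fun j _ => Submodule.smul_mem _ _ (Submodule.subset_span ⟨j, rfl⟩)

variable [IsIntegral X] [IsLocallyNoetherian X]

theorem nonempty_iso (hconst : ∀ a : Γ(X, ⊤), a ≠ 0 → IsUnit a) {E L : X.Modules} {r N : ℕ}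
    (hE : FlatMod.IsFinLocFreeOfRank r E) (φ : FlatMod.freeMod X N ⟶ E) [Epi φ]
    (hL : ExtPow.IsExtPow r E L) (ξ : L ≅ Coh.structureModule X) :
    Nonempty (E ≅ FlatMod.freeMod X r) := by
  classical
  obtain ⟨Φ, hΦ⟩ := hL
  have hbas : ∀ x : X, Nonempty (Module.Basis (Fin r) (X.presheaf.stalk x) (E.presheaf.stalk x)) := fun x => by
    obtain ⟨U, hx, ⟨i⟩⟩ := hE x
    exact Groth.L15.Ref.exists_basis_stalk_of_iso U.ι i ⟨x, hx⟩
  let σ : Fin N → Γ(E, ⊤) := fun j => φ.app ⊤ (unitVec N j)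
  -- choose `r` generators at the generic point
  let η : X := genericPoint ↥X
  letI : Field (X.presheaf.stalk η) := (inferInstance : Field X.functionField)
  obtain ⟨g, hg⟩ : ∃ g : Fin r → Fin N, LinearIndependent (X.presheaf.stalk η)
      fun i => E.presheaf.germ ⊤ η trivial (σ (g i)) := by
    obtain ⟨κ, e, he, hspan, hli⟩ := exists_linearIndependent' (X.presheaf.stalk η)
      (fun j => E.presheaf.germ ⊤ η trivial (σ j))
    haveI : Finite κ := Finite.of_injective e he
    letI := Fintype.ofFinite κ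
    obtain ⟨b⟩ := hbas η
    let b' := Module.Basis.mk hli (by rw [hspan]; exact (span_germs_of_epi φ η).ge)
    have hc : Fintype.card κ = r := by
      rw [← Module.finrank_eq_card_basis b', Module.finrank_eq_card_basis b, Fintype.card_fin]
    exact ⟨e ∘ (Fintype.equivFinOfCardEq hc).symm, hli.comp _ (Equiv.injective _)⟩
  let τ : Fin r → Γ(E, ⊤) := fun i => σ (g i)
  -- their wedge as a global section
  let s : ∀ U : X.affineOpens, Γ(L, U.1) := fun U => wedge Φ U fun i => rs E le_top (τ i)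
  have hsep : ∀ (U V : X.affineOpens) (h : V.1 ≤ U.1), rs L h (s U) = s V := fun U V h => by
    rw [rs_wedge Φ hΦ U V h]
    simp only [rs_rs]
    rfl
  obtain ⟨w, hw⟩ := Groth.L16.HomSh.exists_glue L (fun U : X.affineOpens => U.1) (W := ⊤) (fun _ => le_top)
    (fun x _ => by
      obtain ⟨V, hV, hxV, -⟩ := exists_isAffineOpen_mem_and_subset (x := x) (U := ⊤) trivial
      exact Opens.mem_iSup.2 ⟨⟨V, hV⟩, hxV⟩) s
    (fun U V => Groth.L15.Ref.sec_ext fun y hy => by
      obtain ⟨Y, hY, hyY, hYle⟩ := exists_isAffineOpen_mem_and_subset (x := y) (U := U.1 ⊓ V.1) hy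
      have hle : Y ≤ U.1 ⊓ V.1 := hYle
      rw [← germ_rs L hle hyY, ← germ_rs L hle hyY (rs L inf_le_right (s V)), rs_rs, rs_rs,
        hsep U ⟨Y, hY⟩, hsep V ⟨Y, hY⟩])
  -- germs of `w`
  have hdet : ∀ (x : X) (b : Module.Basis (Fin r) (X.presheaf.stalk x) (E.presheaf.stalk x)),
      ∃ v : L.presheaf.stalk x, L.presheaf.germ ⊤ x trivial w =
        (Matrix.of fun i j => b.repr (E.presheaf.germ ⊤ x trivial (τ i)) j).det • v := by
    intro x b
    obtain ⟨V, hxV, e, he⟩ := Groth.L15.Ref.exists_affine_germs (F := E) (x := x) (fun j => b j)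
    refine ⟨L.presheaf.germ V.1 x hxV (wedge Φ V e), ?_⟩
    rw [← germ_rs L (le_top : V.1 ≤ ⊤) hxV w, hw V]
    refine Groth.L15.Ref.germ_wedge_eq_det (φ := Φ) hΦ hxV hxV _ e _ fun i => ?_
    rw [germ_rs E le_top hxV]
    conv_lhs => rw [← b.sum_repr (E.presheaf.germ ⊤ x trivial (τ i))]
    simp only [Matrix.of_apply, he]
  -- the constant
  have hwη : L.presheaf.germ ⊤ η trivial w ≠ 0 := by
    obtain ⟨V, hV, hηV, -⟩ := exists_isAffineOpen_mem_and_subset (x := η) (U := ⊤) trivial
    obtain ⟨b₀⟩ := hbas η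
    haveI := Module.Finite.of_basis b₀
    let b := basisOfLinearIndependentOfCardEqFinrank' _ hg
      (by rw [Module.finrank_eq_card_basis b₀])
    rw [← germ_rs L (le_top : V ≤ ⊤) hηV w, hw ⟨V, hV⟩]
    refine Groth.L15.Ref.germ_wedge_ne_zero (φ := Φ) hΦ (V := ⟨V, hV⟩) hηV _ b fun i => ?_
    rw [germ_rs E le_top hηV]
    simp [b, τ]
  let a : Γ(X, ⊤) := ξ.hom.app ⊤ w
  have hxi : ∀ x : X, RefHull.stalkMapₗ ξ.hom x (L.presheaf.germ ⊤ x trivial w) =
      (Coh.structureModule X).presheaf.germ ⊤ x trivial a := fun x => RefHull.stalkMapₗ_germ ξ.hom x (U := ⊤) trivial w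
  have hinj : ∀ x : X, Function.Injective (RefHull.stalkMapₗ ξ.hom x) :=
    fun x => ((Groth.L21.Mod.isIso_iff_stalk_bijective ξ.hom).1 inferInstance x).1
  have ha : IsUnit a := hconst a fun h0 => hwη (hinj η (by
    rw [hxi, map_zero, h0]
    exact map_zero _))
  refine ⟨(@asIso _ _ _ _ _ (isIso_desc τ fun x => ?_)).symm⟩
  obtain ⟨b⟩ := hbas x
  obtain ⟨v, hv⟩ := hdet x b
  set S := Matrix.of fun i j => b.repr (E.presheaf.germ ⊤ x trivial (τ i)) j
  have hS : IsUnit S.det := by
    obtain ⟨c, hc⟩ := (Groth.L15.Ref.strE x).surjective (RefHull.stalkMapₗ ξ.hom x v)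
    have h1 := hxi x
    rw [hv, map_smul, ← hc, ← map_smul] at h1
    have h2 : (Coh.structureModule X).presheaf.germ ⊤ x trivial a =
        Groth.L15.Ref.strE x (X.presheaf.germ ⊤ x trivial a) := by
      show _ = X.presheaf.germ ⊤ x trivial a • Groth.L21.RR.one X x
      exact (congrArg ((Coh.structureModule X).presheaf.germ ⊤ x trivial) (mul_one a).symm).trans
        (Groth.L20.ModStalk.germ_smul (Coh.structureModule X) (U := ⊤) trivial a (1 : Γ(X, ⊤)))
    have h3 : S.det * c = X.presheaf.germ ⊤ x trivial a :=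
      (Groth.L15.Ref.strE x).injective (h1.trans h2)
    exact isUnit_of_mul_isUnit_left (h3 ▸ ha.map (X.presheaf.germ ⊤ x trivial).hom)
  have hS' : IsUnit (b.toMatrix fun i => E.presheaf.germ ⊤ x trivial (τ i)) := by
    rw [Matrix.isUnit_iff_isUnit_det, show b.toMatrix _ = S.transpose from Matrix.ext fun _ _ => rfl,
      Matrix.det_transpose]
    exact hS
  have hb2 := ((b.is_basis_iff_det (v := fun i => E.presheaf.germ ⊤ x trivial (τ i))).2 (by
    rw [Module.Basis.det_apply]; exact (Matrix.isUnit_iff_isUnit_det _).1 hS'))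
  let b2 := Module.Basis.mk hb2.1 hb2.2.ge
  refine Eq.mp (congrArg Function.Bijective ?_) b2.equivFun.symm.bijective
  funext c
  rw [Module.Basis.equivFun_symm_apply]
  simp [b2]

end Groth.L03.ShStab.TrivialGG
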