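import Groth.Agent.L03.ShStab.PicZStable
import Groth.Agent.L03.ShStab.TrivialGG
import Groth.Agent.L16.Existence.Lemmas

/-!
# Submodules of free modules on varieties with cyclic Picard group

Either the slope drops by a full unit, or a constant vector lies in the submodule in codimension one.
-/

set_option autoImplicit false
set_option backward.isDefEq.respectTransparency false
set_option linter.style.haveILetI false

universe u

open CategoryTheory CategoryTheory.Limits AlgebraicGeometry TopologicalSpace Opposite Polynomial StabCat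
open Groth.L03.Euler

noncomputable section

namespace Groth.L03.ShStab.FreeSub

open Groth.L03.ShStab.Basic
open Groth.L03.ShStab.RankOneSlope
open Groth.L15.Ref (toEta toEta_injective toEta_stalkMapₗ stalkMapₗ_comp)

variable {X : Scheme.{u}}

theorem isReflexive_free [IsIntegral X] [IsLocallyNoetherian X] (N : ℕ) (hc : Coh.IsCoh (FlatMod.freeMod X N)) :
    RefHull.IsReflexive (FlatMod.freeMod X N) := by
  refine (Groth.L15.Ref.isReflexive_iff_stalks hc).2 fun x => ?_
  let b := LinearEquiv.ofBijective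
    (Fintype.linearCombination (X.presheaf.stalk x)
      (fun j => (FlatMod.freeMod X N).presheaf.germ ⊤ x trivial (TrivialGG.unitVec N j)))
    (TrivialGG.bijective_unitVec N x)
  haveI := Module.Free.of_equiv b
  haveI := Module.Finite.equiv b
  exact (inferInstance : Module.IsReflexive (X.presheaf.stalk x) ((FlatMod.freeMod X N).presheaf.stalk x))

theorem surjective_eta_of_mono [IsIntegral X] [IsLocallyNoetherian X] {F : X.Modules} [Coh.IsQCoh F] (f : F ⟶ Coh.structureModule X) [Mono f]
    (h0 : ¬ IsZero F) (htf : ∀ x, Module.IsTorsionFree (X.presheaf.stalk x) (F.presheaf.stalk x)) :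
    Function.Surjective (RefHull.stalkMapₗ f (genericPoint ↥X)) := by
  letI : Field (X.presheaf.stalk (genericPoint ↥X)) := (inferInstance : Field X.functionField)
  obtain ⟨u, hu⟩ : ∃ u : F.presheaf.stalk (genericPoint ↥X), u ≠ 0 := by
    by_contra! h
    refine h0 ((IsZero.iff_id_eq_zero F).2 (Groth.L15.Ref.hom_ext_eta htf (LinearMap.ext fun v => ?_)))
    rw [h v, map_zero, map_zero]
  obtain ⟨e, he⟩ := Groth.L21.RR.exists_frame_stalk (Groth.L18.Ample.isInvertible_structureModule X) (genericPoint ↥X)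
  obtain ⟨c, hc⟩ := he.2 (RefHull.stalkMapₗ f _ u)
  change c • e = _ at hc
  have hinj : Function.Injective (RefHull.stalkMapₗ f (genericPoint ↥X)) :=
    (Groth.L21.Mod.mono_iff_stalk_injective f).1 inferInstance _
  have hc0 : c ≠ 0 := fun h => hu (hinj (by rw [← hc, h, zero_smul, map_zero]))
  intro z
  obtain ⟨d, rfl⟩ := he.2 z
  refine ⟨(d * c⁻¹) • u, ?_⟩
  rw [map_smul, ← hc, smul_smul, mul_assoc, inv_mul_cancel₀ hc0, mul_one]

variable {L : X.Modules}

/-- A constant vector in the submodule, in codimension one. -/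
def Witness {M F : X.Modules} (ι : F ⟶ M) : Prop :=
  ∃ (F' : X.Modules) (t : F' ⟶ F) (b : F' ⟶ Coh.structureModule X) (g : Coh.structureModule X ⟶ M),
    (∀ z : X, Order.coheight z = 1 → Function.Surjective (RefHull.stalkMapₗ b z)) ∧ g ≠ 0 ∧ b ≫ g = t ≫ ι

variable {k : Type u} [Field k] [X.Over (Spec (CommRingCat.of k))]
  [IsProper (X ↘ Spec (CommRingCat.of k))] [IsIntegral X]

/-- Submodules of free modules. -/
theorem gap_or_witness (hreg : ∀ x : X, IsRegularLocalRing (X.presheaf.stalk x)) (hL : CohB1.IsAmple L)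
    [PicGrp.Law X] (hgen : ∀ c : PicLoc.PicSet X, ∃ n : ℤ, c = PicGrp.cls L hL.1 ^ n)
    {n : ℕ} (hn : 1 ≤ n) (hX : topologicalKrullDim X = n) {pO : ℚ[X]}
    (hpO : _root_.ShStab.IsHilbPoly k X L (Coh.structureModule X) pO) :
    ∀ (N : ℕ) {F : X.Modules} (ι : F ⟶ FlatMod.freeMod X N) [Mono ι], Coh.IsCoh F → ¬ IsZero F →
      ∀ {pF : ℚ[X]}, _root_.ShStab.IsHilbPoly k X L F pF →
        (∃ r : ℕ, 0 < r ∧ alpha n pF = (r : ℚ) * alpha n pO ∧
          alpha (n - 1) pF ≤ (r : ℚ) * alpha (n - 1) pO - alpha n pO) ∨ Witness ι := by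
  haveI : IsLocallyNoetherian X := Basic.locallyNoetherian (k := k)
  have hOi := Groth.L18.Ample.isInvertible_structureModule X
  have hOc := Groth.L18.Ample.isCoh_of_isInvertible hOi
  have hOp := isPure_invertible (k := k) hX hOi
  haveI : Coh.IsQCoh (Coh.structureModule X) := hOc.1
  have hαO := alpha_pos_sub hL hOp (𝟙 _) hOc (not_isZero_invertible hOi) hpO
  have hrk1 : ∀ {G : X.Modules} (f : G ⟶ Coh.structureModule X) [Mono f], Coh.IsCoh G → ¬ IsZero G →
      ∀ {pG : ℚ[X]}, _root_.ShStab.IsHilbPoly k X L G pG →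
        alpha n pG = alpha n pO ∧ alpha (n - 1) pG ≤ alpha (n - 1) pO := fun {G} f _ hG hG0 {pG} hpG => by
    haveI := hG.1
    have htf : ∀ x, Module.IsTorsionFree (X.presheaf.stalk x) (G.presheaf.stalk x) := fun x => by
      haveI := torsionFree_of_invertible hOi x
      have hinj : Function.Injective (RefHull.stalkMapₗ f x) :=
        (Groth.L21.Mod.mono_iff_stalk_injective f).1 inferInstance x
      exact hinj.moduleIsTorsionFree _ (fun r v => map_smul _ r v)
    obtain ⟨h1, h2⟩ := slope_le_of_mono hL hn hX hG hOc hOp hG0 f (surjective_eta_of_mono f hG0 htf) hpG hpO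
    refine ⟨h1, ?_⟩
    simp only [hatSlope, h1] at h2
    exact (div_le_div_iff_of_pos_right hαO).1 h2
  intro N
  induction N with
  | zero =>
    intro F ι _ hF hF0
    refine (hF0 ((IsZero.iff_id_eq_zero F).2 ?_)).elim
    rw [← cancel_mono ι]
    have hz : IsZero (FlatMod.freeMod X 0) :=
      (IsZero.iff_id_eq_zero _).2 (Sigma.hom_ext _ _ fun i => i.elim0)
    exact hz.eq_of_tgt _ _
  | succ N ih =>
    intro F ι _ hF hF0 pF hpF
    haveI := hF.1
    let O := Coh.structureModule X
    let inj : FlatMod.freeMod X N ⟶ FlatMod.freeMod X (N + 1) :=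
      Sigma.desc fun i => Sigma.ι (fun _ : Fin (N + 1) => O) i.castSucc
    let ret : FlatMod.freeMod X (N + 1) ⟶ FlatMod.freeMod X N :=
      Sigma.desc (Fin.lastCases 0 fun i => Sigma.ι (fun _ : Fin N => O) i)
    let π : FlatMod.freeMod X (N + 1) ⟶ O := Sigma.desc (Fin.lastCases (𝟙 O) fun _ => 0)
    have hid : ret ≫ inj + π ≫ Sigma.ι (fun _ : Fin (N + 1) => O) (Fin.last N) = 𝟙 _ := by
      refine Sigma.hom_ext _ _ fun i => ?_
      induction i using Fin.lastCases with
      | last => simp [ret, π, O]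
      | cast i => simp [ret, π, inj, O]
    have hir : inj ≫ ret = 𝟙 _ := Sigma.hom_ext _ _ fun i => by simp [inj, ret, O]
    haveI : Mono inj := mono_of_mono_fac hir
    obtain ⟨hK, hI, -⟩ := coh_parts k hF hOc (ι ≫ π)
    obtain ⟨pK, hpK⟩ := exists_hilb (k := k) hL.1 hK (dim_le hX _)
    obtain ⟨pI, hpI⟩ := exists_hilb (k := k) hL.1 hI (dim_le hX _)
    have hsum := hilb_kernel_image hL hF hOc (ι ≫ π) hpF hpK hpI
    by_cases hK0 : IsZero (kernel (ι ≫ π))
    · haveI : Mono (ι ≫ π) := Preadditive.mono_of_isZero_kernel _ hK0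
      obtain ⟨H, b, hH, hb, hbη, hbz, hext⟩ := exists_hull (k := k) hreg hF hF0 hOi (ι ≫ π)
      haveI := hb
      have hHc := Groth.L18.Ample.isCoh_of_isInvertible hH
      haveI : Coh.IsQCoh H := hHc.1
      obtain ⟨pH, hpH⟩ := exists_hilb (k := k) hL.1 hHc (dim_le hX H)
      obtain ⟨hα, hμ⟩ := slope_le_of_mono hL hn hX hF hHc (isPure_invertible (k := k) hX hH) hF0 b hbη hpF hpH
      obtain ⟨g', hg'⟩ := hext hOc (Rank2.isReflexive_of_rank hOc (rank_one_of_invertible hOi)) (ι ≫ π)
      have hg'0 : g' ≠ 0 := fun h => hF0 (IsZero.of_mono_eq_zero (ι ≫ π) (by rw [← hg', h, Limits.comp_zero]))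
      haveI : Mono g' := Rank2.mono_of_ne_zero hH (torsionFree_of_invertible hOi) hg'0
      obtain ⟨hαH, hH1⟩ := hrk1 g' hHc (not_isZero_invertible hH) hpH
      have hμ' : hatSlope n pH ≤ hatSlope n pO := by
        simp only [hatSlope, hαH]
        exact div_le_div_of_nonneg_right hH1 hαO.le
      have wit : ∀ _e : H ≅ Coh.structureModule X, Witness ι := fun e => by
        have hcM := Groth.L18.Ample.isCoh_of_isInvertible hOi
        have hfc : Coh.IsCoh (FlatMod.freeMod X (N + 1)) := Groth.L16.Existence.isCoh_sigma _ fun _ => hOc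
        obtain ⟨g, hg⟩ := hext hfc (isReflexive_free (N + 1) hfc) ι
        refine ⟨F, 𝟙 F, b ≫ e.hom, e.inv ≫ g, fun z hz => ?_, fun h => hF0 ?_, ?_⟩
        · rw [stalkMapₗ_comp]
          exact ((Groth.L21.Mod.epi_iff_stalk_surjective e.hom).1 inferInstance z).comp (hbz z hz)
        · refine IsZero.of_mono_eq_zero ι ?_
          rw [← hg, ← Iso.hom_inv_id_assoc e g, h, Limits.comp_zero, Limits.comp_zero]
        · rw [Category.assoc, Iso.hom_inv_id_assoc, Category.id_comp, hg]
      rcases PicZStable.exists_pow_iso hL.1 hgen hH with ⟨m, ⟨e⟩⟩ | ⟨m, ⟨e⟩⟩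
      · rcases Nat.eq_zero_or_pos m with rfl | hm
        · exact .inr (wit e)
        · have := hatSlope_twist hL hn hX hH (a := 0) (b := m) (Groth.L00.Tensor.tensorUnitRight H ≪≫ e) hpH hpO
          have : (1 : ℚ) ≤ (m : ℚ) := by exact_mod_cast hm
          simp only [Nat.cast_zero, add_zero] at *
          linarith
      · rcases Nat.eq_zero_or_pos m with rfl | hm
        · exact .inr (wit ((Groth.L00.Tensor.tensorUnitRight H).symm ≪≫ e))
        · left
          have h1 := hatSlope_twist hL hn hX hH (b := 0) e hpH hpO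
          have h2 : (1 : ℚ) ≤ (m : ℚ) := by exact_mod_cast hm
          simp only [Nat.cast_zero, add_zero, hatSlope, hα, hαH] at h1 hμ
          refine ⟨1, one_pos, by rw [hα, hαH, Nat.cast_one, one_mul], ?_⟩
          rw [div_add' _ _ _ hαO.ne', div_left_inj' hαO.ne'] at h1
          rw [div_le_div_iff_of_pos_right hαO] at hμ
          push_cast
          nlinarith
    · let k' := kernel.ι (ι ≫ π) ≫ ι ≫ ret
      have hk' : k' ≫ inj = kernel.ι (ι ≫ π) ≫ ι := by
        have h0 : (kernel.ι (ι ≫ π) ≫ ι) ≫ π ≫ Sigma.ι (fun _ : Fin (N + 1) => O) (Fin.last N) = 0 := by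
          rw [← Category.assoc (kernel.ι (ι ≫ π) ≫ ι) π, Category.assoc (kernel.ι (ι ≫ π)) ι π, kernel.condition,
            Limits.zero_comp]
        calc k' ≫ inj = (kernel.ι (ι ≫ π) ≫ ι) ≫ (ret ≫ inj) := by simp only [k', Category.assoc]
          _ = (kernel.ι (ι ≫ π) ≫ ι) ≫ (ret ≫ inj + π ≫ Sigma.ι (fun _ : Fin (N + 1) => O) (Fin.last N)) := by
            rw [Preadditive.comp_add _ _ _ (kernel.ι (ι ≫ π) ≫ ι), h0, add_zero]
          _ = _ := by rw [hid, Category.comp_id]
      haveI : Mono k' := mono_of_mono_fac hk'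
      rcases ih k' hK hK0 hpK with ⟨r, hr, h1, h2⟩ | ⟨F', t, b, g, hb, hg, hbg⟩
      · left
        by_cases hI0 : IsZero (Abelian.image (ι ≫ π))
        · have hpI0 : pI = 0 := isHilbPoly_unique hpI (isHilbPoly_zero hL.1 hI0)
          rw [hsum, hpI0, add_zero]
          exact ⟨r, hr, h1, h2⟩
        · obtain ⟨h3, h4⟩ := hrk1 (Abelian.image.ι (ι ≫ π)) hI hI0 hpI
          refine ⟨r + 1, r.succ_pos, ?_, ?_⟩
          · rw [hsum, PolyOrd.alpha_add, h1, h3]
            push_cast; ring
          · rw [hsum, PolyOrd.alpha_add]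
            push_cast
            linarith
      · right
        refine ⟨F', t ≫ kernel.ι (ι ≫ π), b, g ≫ inj, hb, fun h => hg ?_, ?_⟩
        · rwa [← cancel_mono inj, Limits.zero_comp]
        · rw [← Category.assoc b, hbg, Category.assoc, hk', Category.assoc]

end Groth.L03.ShStab.FreeSub
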