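import Groth.Agent.L03.GeneralVector
import Groth.Agent.L03.ShStab.TrivialGG
import Groth.Agent.L12.FinCov.Basis
import Groth.Agent.L22.SchemeDim
import Groth.Agent.L16.AffineBC.Pullback
import Groth.Agent.L04.FinLocFreeHom

/-!
# General sections of a globally generated bundle of large rank
-/

set_option autoImplicit false
set_option backward.isDefEq.respectTransparency false
set_option linter.style.haveILetI false

universe u

open CategoryTheory CategoryTheory.Limits AlgebraicGeometry TopologicalSpace Opposite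

noncomputable section

namespace Groth.L03.ShStab.GeneralSections

open Groth.L12.FinCov
open Groth.L03.ShStab.TrivialGG (unitVec desc_unitVec)

variable {X : Scheme.{u}}

theorem isBasisOn_unitVec (r : ℕ) : IsBasisOn (FlatMod.freeMod X r) ⊤ (unitVec r) := by
  let π : Fin r → (FlatMod.freeMod X r ⟶ Coh.structureModule X) := fun j =>
    Sigma.desc fun i => if i = j then 𝟙 _ else 0
  intro V _
  refine bijective_lc (Sigma.ι fun _ : Fin r => Coh.structureModule X) π (fun i j => Sigma.ι_desc _ _) ?_ V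
  refine Sigma.hom_ext _ _ fun k => ?_
  rw [Preadditive.comp_sum, Category.comp_id, Finset.sum_eq_single k]
  · simp [π]
  · intro i _ hi
    simp [π, Ne.symm hi]
  · exact fun hk => (hk (Finset.mem_univ k)).elim

/-- Sections adapted to a bundle: locally part of a basis. -/
def Adapted (E : X.Modules) (r : ℕ) {h : ℕ} (τ : Fin h → Γ(E, ⊤)) : Prop :=
  ∀ x : X, ∃ (U : X.Opens) (e : Fin r → Γ(E, U)) (g : Fin h ↪ Fin r),
    IsAffineOpen U ∧ x ∈ U ∧ IsBasisOn E U e ∧ ∀ i, e (g i) = rM E le_top (τ i)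

theorem lc_single {E : X.Modules} {U : X.Opens} {r : ℕ} (e : Fin r → Γ(E, U)) {V : X.Opens} (h : V ≤ U) (i : Fin r) :
    lc E e h (Pi.single i 1) = rM E h (e i) := by
  classical
  rw [lc, Finset.sum_eq_single i]
  · rw [Pi.single_eq_same, one_smul]
  · intro j _ hj
    rw [Pi.single_eq_of_ne hj, zero_smul]
  · exact fun hi => (hi (Finset.mem_univ i)).elim

/-- Replacing a basis vector by a vector with unit coefficient. -/
theorem isBasisOn_update {E : X.Modules} {U : X.Opens} {r : ℕ} {e : Fin r → Γ(E, U)} (he : IsBasisOn E U e)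
    (w : Fin r → Γ(X, U)) (i₀ : Fin r) (hw : IsUnit (w i₀)) :
    IsBasisOn E U (Function.update e i₀ (lc E e le_rfl w)) := by
  classical
  intro V hV
  let w' : Fin r → Γ(X, V) := fun i => rO hV (w i)
  obtain ⟨v, hv⟩ : IsUnit (w' i₀) := hw.map (X.presheaf.map (homOfLE hV).op).hom
  let T : (Fin r → Γ(X, V)) → (Fin r → Γ(X, V)) := fun c i => if i = i₀ then c i₀ * w' i₀ else c i + c i₀ * w' i
  let T' : (Fin r → Γ(X, V)) → (Fin r → Γ(X, V)) := fun c i =>
    if i = i₀ then c i₀ * ↑v⁻¹ else c i - c i₀ * ↑v⁻¹ * w' i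
  have hT : Function.Bijective T := Function.bijective_iff_has_inverse.2 ⟨T', fun c => by
      funext i
      by_cases hi : i = i₀
      · simp only [T', T, if_pos hi, if_true, mul_assoc, ← hv, Units.mul_inv, mul_one]
        rw [hi]
      · simp only [T', T, if_neg hi, if_true, mul_assoc, ← hv]
        rw [← mul_assoc (↑v : Γ(X, V)), Units.mul_inv, one_mul, add_sub_cancel_right],
    fun c => by
      funext i
      by_cases hi : i = i₀
      · simp only [T', T, if_pos hi, if_true, mul_assoc, ← hv, Units.inv_mul, mul_one]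
        rw [hi]
      · simp only [T', T, if_neg hi, if_true, mul_assoc, sub_add_cancel]⟩
  refine Eq.mp (congrArg Function.Bijective ?_) ((he V hV).comp hT)
  funext c
  show lc E e hV (T c) = lc E _ hV c
  have h1 : rM E hV (lc E e le_rfl w) = lc E e hV w' := rM_lc e le_rfl hV w
  have h2 : ∀ i, c i • rM E hV (Function.update e i₀ (lc E e le_rfl w) i) =
      (if i = i₀ then c i₀ • lc E e hV w' else c i • rM E hV (e i)) := fun i => by
    by_cases hi : i = i₀
    · subst hi; rw [Function.update_self, if_pos rfl, h1]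
    · rw [Function.update_of_ne hi, if_neg hi]
  have h3 : ∀ i, T c i • rM E hV (e i) =
      (if i = i₀ then (0 : Γ(E, V)) else c i • rM E hV (e i)) + (c i₀ * w' i) • rM E hV (e i) := fun i => by
    by_cases hi : i = i₀
    · simp only [T, if_pos hi, zero_add]; rw [hi]
    · simp only [T, if_neg hi, add_smul]
  have h4 : ∀ i, (if i = i₀ then c i₀ • lc E e hV w' else c i • rM E hV (e i)) =
      (if i = i₀ then (0 : Γ(E, V)) else c i • rM E hV (e i)) + if i = i₀ then c i₀ • lc E e hV w' else 0 := fun i => by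
    by_cases hi : i = i₀ <;> simp [hi]
  show (∑ i, T c i • rM E hV (e i)) = ∑ i, c i • rM E hV (Function.update e i₀ (lc E e le_rfl w) i)
  rw [Finset.sum_congr rfl fun i _ => h2 i, Finset.sum_congr rfl fun i _ => h3 i,
    Finset.sum_congr rfl fun i _ => h4 i, Finset.sum_add_distrib, Finset.sum_add_distrib,
    Finset.sum_ite_eq' Finset.univ i₀, if_pos (Finset.mem_univ _), lc, Finset.smul_sum]
  simp only [mul_smul]

section Step

variable (k : Type u) [Field k] [Infinite k] [X.Over (Spec (CommRingCat.of k))]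
  [LocallyOfFiniteType (X ↘ Spec (CommRingCat.of k))] [CompactSpace X]

include k

theorem exists_adapted_succ {E : X.Modules} {r N n h : ℕ} (hE : FlatMod.IsFinLocFreeOfRank r E)
    (φ : FlatMod.freeMod X N ⟶ E) [Epi φ] (hdim : topologicalKrullDim X ≤ (n : ℕ)) (hn : h + n < r)
    (τ : Fin h → Γ(E, ⊤)) (hτ : Adapted E r τ) :
    ∃ τ' : Fin (h + 1) → Γ(E, ⊤), Adapted E r τ' := by
  classical
  let σ : Fin N → Γ(E, ⊤) := fun j => φ.app ⊤ (unitVec N j)
  haveI : Coh.IsQCoh E := Groth.L04.FinLocFreeHom.isQCoh_of_finLocFree fun x => by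
    obtain ⟨U, hU, e⟩ := hE x; exact ⟨U, r, hU, e⟩
  haveI : Coh.IsQCoh (FlatMod.freeMod X N) := Groth.L04.FinLocFreeHom.isQCoh_of_finLocFree fun x => by
    obtain ⟨V, b, hx, hb⟩ : ∃ (V : X.Opens) (b : Fin N → Γ(FlatMod.freeMod X N, V)), x ∈ V ∧
        IsBasisOn (FlatMod.freeMod X N) V b := ⟨⊤, _, trivial, isBasisOn_unitVec N⟩
    exact ⟨V, N, hx, nonempty_restrict_iso_free hb⟩
  choose U e g hU hxU he heg using hτ
  have key : ∀ x : X, ∃ (f : MvPolynomial (Fin N) k) (a : Fin r → Fin N → Γ(X, U x)), f ≠ 0 ∧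
      (∀ j, lc E (e x) le_rfl (fun i => a i j) = rM E le_top (σ j)) ∧
      ∀ c : Fin N → k, MvPolynomial.eval c f ≠ 0 → Ideal.span
        (Set.range fun i : {i : Fin r // i ∉ Set.range (g x)} =>
          ∑ j, Groth.L22.SchemeDim.sectHom k X (U x) (c j) * a i.1 j) = ⊤ := by
    intro x
    choose a ha using fun j => (he x (U x) le_rfl).2 (rM E le_top (σ j))
    choose t ht using fun i => Groth.L16.AffineBC.surjective_app_of_epi φ (hU x) (e x i)
    choose s hs using fun i => (isBasisOn_unitVec (X := X) N (U x) le_top).2 (t i)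
    have hes : ∀ i, e x i = lc E σ (le_top (a := U x)) (s i) := fun i => by
      rw [← ht i, ← hs i, app_lc]
    let A : Matrix (Fin r) (Fin N) Γ(X, U x) := Matrix.of fun i j => a j i
    let B : Matrix (Fin N) (Fin r) Γ(X, U x) := Matrix.of fun j i => s i j
    have hAB : A * B = 1 := by
      refine Matrix.ext fun i l => ?_
      refine congrFun ((he x (U x) le_rfl).1 (a₁ := fun i => (A * B) i l) (a₂ := fun i => (1 : Matrix _ _ _) i l) ?_) i
      have h1 : (fun i => (1 : Matrix (Fin r) (Fin r) Γ(X, U x)) i l) = Pi.single l 1 := by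
        funext i; simp [Matrix.one_apply, Pi.single_apply]
      rw [h1, lc_single, rM_self, hes l]
      simp only [lc, Matrix.mul_apply, Finset.sum_smul, A, B, Matrix.of_apply, ← ha, rM_self, Finset.smul_sum, smul_smul]
      rw [Finset.sum_comm]
      refine Finset.sum_congr rfl fun j _ => Finset.sum_congr rfl fun i _ => ?_
      rw [mul_comm]
    let ι : Fin (Fintype.card {i : Fin r // i ∉ Set.range (g x)}) ≃ {i : Fin r // i ∉ Set.range (g x)} :=
      (Fintype.equivFin _).symm
    have hcard : Fintype.card {i : Fin r // i ∉ Set.range (g x)} = r - h := by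
      rw [Fintype.card_subtype_compl, Fintype.card_fin]
      congr 1
      exact (Fintype.card_congr (Equiv.ofInjective _ (g x).injective).symm).trans (Fintype.card_fin h)
    letI : Algebra k Γ(X, U x) := (Groth.L22.SchemeDim.sectHom k X (U x)).toAlgebra
    haveI : Algebra.FiniteType k Γ(X, U x) :=
      RingHom.finiteType_algebraMap.1 (Groth.L22.SchemeDim.finiteType_sectHom k X (hU x))
    have hd : ringKrullDim Γ(X, U x) ≤ (n : ℕ) := by
      rw [← Groth.L22.SchemeDim.topologicalKrullDim_affineOpen (hU x)]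
      exact (topologicalKrullDim_subspace_le X _).trans hdim
    obtain ⟨f, hf, hfc⟩ := Groth.L03.GeneralVector.exists_poly (k := k) (fun i j => A (ι i).1 j)
      (fun j i => B j (ι i).1) (by
        refine Matrix.ext fun i l => ?_
        have := congrFun (congrFun hAB (ι i).1) (ι l).1
        rw [Matrix.mul_apply] at this ⊢
        rw [this, Matrix.one_apply, Matrix.one_apply]
        simp only [Subtype.val_inj, ι.injective.eq_iff]) hd (by omega)
    refine ⟨f, fun i j => a j i, hf, fun j => ha j, fun c hc => ?_⟩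
    rw [← hfc c hc]
    refine congrArg Ideal.span ?_
    exact (ι.surjective.range_comp _).symm
  choose f a hf ha hfc using key
  obtain ⟨T, hT⟩ := isCompact_univ.elim_finite_subcover (fun x : X => (U x : Set X)) (fun x => (U x).2)
    (fun x _ => Set.mem_iUnion.2 ⟨x, hxU x⟩)
  obtain ⟨c, hc⟩ := Groth.L03.GeneralVector.exists_eval_ne_zero T f fun x _ => hf x
  let new : Γ(E, ⊤) :=
    lc E σ le_rfl fun j => (Coh.toGlobal (X ↘ Spec (CommRingCat.of k)) (c j) : Γ(X, ⊤))
  refine ⟨Fin.snoc τ new, fun y => ?_⟩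
  obtain ⟨x, hx, hyU⟩ := Set.mem_iUnion₂.1 (hT (Set.mem_univ y))
  let w : Fin r → Γ(X, U x) := fun i => ∑ j, Groth.L22.SchemeDim.sectHom k X (U x) (c j) * a x i j
  have hnew : rM E le_top new = lc E (e x) le_rfl w := by
    rw [show rM E (le_top : U x ≤ ⊤) new = _ from rM_lc σ le_rfl le_top _]
    simp only [lc, w, Finset.sum_smul, mul_smul]
    rw [Finset.sum_comm]
    refine Finset.sum_congr rfl fun j _ => ?_
    rw [← Finset.smul_sum, ← ha x j]
    rfl
  obtain ⟨i₀, hi₀, hy0⟩ : ∃ i, i ∉ Set.range (g x) ∧ y ∈ X.basicOpen (w i) := by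
    by_contra hcon
    have htop := hfc x c (hc x hx)
    have hle : Ideal.span (Set.range fun i : {i : Fin r // i ∉ Set.range (g x)} => w i.1) ≤
        (IsLocalRing.maximalIdeal (X.presheaf.stalk y)).comap (X.presheaf.germ (U x) y hyU).hom := by
      rw [Ideal.span_le]
      rintro _ ⟨i, rfl⟩
      rw [SetLike.mem_coe, Ideal.mem_comap, IsLocalRing.mem_maximalIdeal]
      intro hu
      exact hcon ⟨i.1, i.2, (X.mem_basicOpen' (w i.1) ⟨y, hyU⟩).2 hu⟩
    rw [show Ideal.span (Set.range fun i : {i : Fin r // i ∉ Set.range (g x)} => w i.1) = ⊤ from htop,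
      top_le_iff] at hle
    exact Ideal.comap_ne_top _ (IsLocalRing.maximalIdeal.isMaximal _).ne_top hle
  have hle : X.basicOpen (w i₀) ≤ U x := X.basicOpen_le _
  let e₀ : Fin r → Γ(E, X.basicOpen (w i₀)) := fun i => rM E hle (e x i)
  let w₀ : Fin r → Γ(X, X.basicOpen (w i₀)) := fun i => rO hle (w i)
  have hw₀ : IsUnit (w₀ i₀) := RingedSpace.isUnit_res_basicOpen X.toLocallyRingedSpace.toRingedSpace (w i₀)
  let g' : Fin (h + 1) ↪ Fin r := ⟨Fin.snoc (g x) i₀, Fin.snoc_injective_of_injective (g x).injective hi₀⟩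
  refine ⟨_, _, g', (hU x).basicOpen (w i₀), hy0, isBasisOn_update ((he x).mono hle) w₀ i₀ hw₀, fun i => ?_⟩
  induction i using Fin.lastCases with
  | last =>
    show Function.update e₀ i₀ _ ((Fin.snoc (g x) i₀ : Fin (h + 1) → Fin r) (Fin.last h)) = rM E le_top ((Fin.snoc τ new : Fin (h + 1) → Γ(E, ⊤)) (Fin.last h))
    rw [Fin.snoc_last, Fin.snoc_last, Function.update_self,
      ← rM_rM E (le_top : U x ≤ ⊤) hle, hnew, rM_lc]
    simp only [lc, e₀, w₀, rM_rM]
  | cast i =>
    show Function.update e₀ i₀ _ ((Fin.snoc (g x) i₀ : Fin (h + 1) → Fin r) i.castSucc) = rM E le_top ((Fin.snoc τ new : Fin (h + 1) → Γ(E, ⊤)) i.castSucc)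
    rw [Fin.snoc_castSucc, Fin.snoc_castSucc, Function.update_of_ne (fun h' => hi₀ ⟨i, h'⟩)]
    show rM E hle (e x (g x i)) = _
    rw [heg, rM_rM]

theorem exists_adapted {E : X.Modules} {r N n : ℕ} (hE : FlatMod.IsFinLocFreeOfRank r E)
    (φ : FlatMod.freeMod X N ⟶ E) [Epi φ] (hdim : topologicalKrullDim X ≤ (n : ℕ)) :
    ∀ h : ℕ, h + n ≤ r → ∃ τ : Fin h → Γ(E, ⊤), Adapted E r τ
  | 0, _ => ⟨Fin.elim0, fun x => by
      obtain ⟨V, b, hV, hxV, -, hb⟩ := exists_basisOn_of_rank hE x ⊤ trivial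
      exact ⟨V, b, ⟨Fin.elim0, fun i => i.elim0⟩, hV, hxV, hb, fun i => i.elim0⟩⟩
  | h + 1, hn => by
    obtain ⟨τ, hτ⟩ := exists_adapted hE φ hdim h (by omega)
    exact exists_adapted_succ k hE φ hdim (by omega) τ hτ

end Step

/-- The basis of a restriction. -/
theorem isBasisOn_restrict {E : X.Modules} {U : X.Opens} {r : ℕ} {e : Fin r → Γ(E, U)} (he : IsBasisOn E U e) :
    IsBasisOn (E.restrict U.ι) ⊤ (fun i => (rM E (image_ι_top U).le (e i) : Γ(E.restrict U.ι, ⊤))) := by
  intro V hV
  let ee := (U.ι.appIso V).commRingCatIsoToRingEquiv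
  have h1 : U.ι ''ᵁ V ≤ U := ((U.ι.image_mono hV)).trans (image_ι_top U).le
  refine Eq.mp (congrArg Function.Bijective ?_)
    ((he (U.ι ''ᵁ V) h1).comp (Equiv.piCongrRight fun _ : Fin r => ee.symm.toEquiv).bijective)
  funext c
  simp only [lc, Function.comp_apply]
  refine Finset.sum_congr rfl fun i _ => ?_
  show ee.symm (c i) • rM E h1 (e i) = ee.symm (c i) • rM E (U.ι.image_mono hV) (rM E (image_ι_top U).le (e i))
  rw [rM_rM]

theorem isIso_desc_of_basis {r : ℕ} {M : X.Modules} {t : Fin r → Γ(M, ⊤)} (ht : IsBasisOn M ⊤ t) :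
    IsIso (Sigma.desc fun i => Groth.L16.homOfSection M (t i) : FlatMod.freeMod X r ⟶ M) :=
  Groth.L03.ShStab.TrivialGG.isIso_desc t fun x =>
    Groth.L17.PullBasis.bijective_stalk M t (fun V g => ht V g.le) x trivial

theorem hom_ext_one {M : X.Modules} {a b : Coh.structureModule X ⟶ M}
    (h : a.app ⊤ (1 : Γ(X, ⊤)) = b.app ⊤ (1 : Γ(X, ⊤))) : a = b := by
  rw [← Groth.L18.GenLoc.homOfSection_secOf a, ← Groth.L18.GenLoc.homOfSection_secOf b]
  exact congrArg _ h

/-- The cokernel of a map carrying a basis to part of a basis. -/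
theorem nonempty_cokernel_iso {A B : X.Modules} {h n : ℕ} (φ : A ⟶ B) {a : Fin h → Γ(A, ⊤)}
    (ha : IsBasisOn A ⊤ a) {r : ℕ} {b : Fin r → Γ(B, ⊤)} (hb : IsBasisOn B ⊤ b) (g : Fin h ↪ Fin r)
    (hr : r = h + n) (hφ : ∀ i, φ.app ⊤ (a i) = b (g i)) :
    Mono φ ∧ Nonempty (cokernel φ ≅ FlatMod.freeMod X n) := by
  classical
  haveI := isIso_desc_of_basis ha
  haveI := isIso_desc_of_basis hb
  let ψA := (Sigma.desc fun i => Groth.L16.homOfSection A (a i) : FlatMod.freeMod X h ⟶ A)
  let ψB := (Sigma.desc fun i => Groth.L16.homOfSection B (b i) : FlatMod.freeMod X r ⟶ B)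
  let inc : FlatMod.freeMod X h ⟶ FlatMod.freeMod X r :=
    Sigma.desc fun i => Sigma.ι (fun _ : Fin r => Coh.structureModule X) (g i)
  have hsq : ψA ≫ φ = inc ≫ ψB := by
    refine Sigma.hom_ext _ _ fun i => hom_ext_one ?_
    have h1 : (Groth.L16.homOfSection A (a i) ≫ φ).app ⊤ (1 : Γ(X, ⊤)) = b (g i) :=
      (congrArg (φ.app ⊤) (Groth.L21.RR.app_homOfSection_one (a i))).trans (hφ i)
    rw [← Category.assoc, ← Category.assoc, Sigma.ι_desc, Sigma.ι_desc, h1, Sigma.ι_desc]
    exact (Groth.L21.RR.app_homOfSection_one (b (g i))).symm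
  have hcard : Fintype.card {i : Fin r // i ∉ Set.range g} = n := by
    rw [Fintype.card_subtype_compl, Fintype.card_fin,
      (Fintype.card_congr (Equiv.ofInjective _ g.injective).symm).trans (Fintype.card_fin h)]
    omega
  let ρ : Fin n ≃ {i : Fin r // i ∉ Set.range g} := (Fintype.equivFinOfCardEq hcard).symm
  let p : FlatMod.freeMod X r ⟶ FlatMod.freeMod X n := Sigma.desc fun i =>
    if hi : i ∈ Set.range g then 0 else Sigma.ι (fun _ : Fin n => Coh.structureModule X) (ρ.symm ⟨i, hi⟩)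
  let q : FlatMod.freeMod X r ⟶ FlatMod.freeMod X h := Sigma.desc fun i =>
    if hi : i ∈ Set.range g then Sigma.ι (fun _ : Fin h => Coh.structureModule X) hi.choose else 0
  have hq : inc ≫ q = 𝟙 _ := by
    refine Sigma.hom_ext _ _ fun i => ?_
    have hi : g i ∈ Set.range g := ⟨i, rfl⟩
    simp only [inc, q, Sigma.ι_desc_assoc, Sigma.ι_desc, dif_pos hi, Category.comp_id,
      g.injective hi.choose_spec]
  haveI : Mono inc := mono_of_mono_fac hq
  have hp : inc ≫ p = 0 := by
    refine Sigma.hom_ext _ _ fun i => ?_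
    simp only [inc, p, Sigma.ι_desc_assoc, Sigma.ι_desc, dif_pos (Set.mem_range_self i), comp_zero]
  let e : cokernel inc ≅ FlatMod.freeMod X n :=
    { hom := cokernel.desc inc p hp
      inv := Sigma.desc fun j => Sigma.ι (fun _ : Fin r => Coh.structureModule X) (ρ j).1 ≫ cokernel.π inc
      hom_inv_id := by
        refine coequalizer.hom_ext ?_
        rw [cokernel.π_desc_assoc, Category.comp_id]
        refine Sigma.hom_ext _ _ fun i => ?_
        by_cases hi : i ∈ Set.range g
        · obtain ⟨l, rfl⟩ := hi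
          rw [Sigma.ι_desc_assoc, dif_pos (Set.mem_range_self l), zero_comp]
          have : Sigma.ι (fun _ : Fin h => Coh.structureModule X) l ≫ inc ≫ cokernel.π inc = 0 := by
            rw [cokernel.condition, comp_zero]
          rw [Sigma.ι_desc_assoc] at this
          exact this.symm
        · rw [Sigma.ι_desc_assoc, dif_neg hi, Sigma.ι_desc, Equiv.apply_symm_apply]
      inv_hom_id := by
        refine Sigma.hom_ext _ _ fun j => ?_
        rw [Category.comp_id, Sigma.ι_desc_assoc, Category.assoc, cokernel.π_desc, Sigma.ι_desc,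
          dif_neg (ρ j).2]
        simp }
  refine ⟨?_, ⟨(cokernel.mapIso inc φ (asIso ψA) (asIso ψB) hsq.symm).symm ≪≫ e⟩⟩
  haveI : Mono (ψA ≫ φ) := hsq ▸ mono_comp inc ψB
  have : φ = inv ψA ≫ ψA ≫ φ := by rw [IsIso.inv_hom_id_assoc]
  rw [this]
  infer_instance

theorem mono_of_restrict {A B : X.Modules} (φ : A ⟶ B)
    (h : ∀ x : X, Function.Injective (RefHull.stalkMapₗ φ x)) : Mono φ :=
  (Groth.L21.Mod.mono_iff_stalk_injective φ).2 h

/-- Adapted sections span a trivial subbundle with locally free quotient. -/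
theorem exists_subbundle {E : X.Modules} {r h n : ℕ} {τ : Fin h → Γ(E, ⊤)} (hτ : Adapted E r τ) (hr : r = h + n) :
    ∃ φ : FlatMod.freeMod X h ⟶ E, Mono φ ∧ FlatMod.IsFinLocFreeOfRank n (cokernel φ) := by
  classical
  refine ⟨Sigma.desc fun i => Groth.L16.homOfSection E (τ i), mono_of_restrict _ fun x => ?_, fun x => ?_⟩
  · obtain ⟨U, e, g, -, hx, he, heg⟩ := hτ x
    have hb := Groth.L17.PullBasis.bijective_stalk E e (fun V g => he V g.le) x hx
    refine (injective_iff_map_eq_zero _).2 fun v hv => ?_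
    obtain ⟨c, rfl⟩ := (Groth.L03.ShStab.TrivialGG.bijective_unitVec h x).2 v
    have h1 : ∑ i, c i • E.presheaf.germ U x hx (e (g i)) = 0 := by
      rw [← hv, map_sum]
      refine Finset.sum_congr rfl fun i _ => ?_
      rw [map_smul, RefHull.stalkMapₗ_germ, desc_unitVec, heg]
      congr 1
      exact TopCat.Presheaf.germ_res_apply E.presheaf _ x hx _
    let c' : Fin r → X.presheaf.stalk x := Function.extend g c 0
    have h2 : c' = 0 := hb.1 (by
      simp only [Pi.zero_apply, zero_smul, Finset.sum_const_zero]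
      rw [← Finset.sum_subset (Finset.subset_univ (Finset.univ.map g)) (fun i _ hi => by
        rw [Finset.mem_map] at hi
        simp only [c', Function.extend_apply' _ _ _ (fun ⟨l, hl⟩ => hi ⟨l, Finset.mem_univ _, hl⟩),
          Pi.zero_apply, zero_smul]), Finset.sum_map]
      refine (Finset.sum_congr rfl fun i _ => ?_).trans h1
      simp only [c', g.injective.extend_apply]
      rfl)
    have hc : c = 0 := funext fun i => by
      have := congrFun h2 (g i)
      simpa only [c', g.injective.extend_apply, Pi.zero_apply] using this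
    simp [hc]
  · obtain ⟨U, e, g, -, hx, he, heg⟩ := hτ x
    let R := Scheme.Modules.restrictFunctor U.ι
    let φ : FlatMod.freeMod X h ⟶ E := Sigma.desc fun i => Groth.L16.homOfSection E (τ i)
    obtain ⟨-, ⟨i⟩⟩ := nonempty_cokernel_iso (n := n) (R.map φ)
      (isBasisOn_restrict ((isBasisOn_unitVec (X := X) h).mono (le_top : U ≤ ⊤)))
      (isBasisOn_restrict he) g hr fun i => by
        show φ.app (U.ι ''ᵁ ⊤) (rM _ (image_ι_top U).le (rM _ le_top (unitVec h i))) =
          rM E (image_ι_top U).le (e (g i))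
        rw [app_rM, app_rM, heg]
        exact congrArg _ (congrArg _ (desc_unitVec τ i))
    exact ⟨U, hx, ⟨PreservesCokernel.iso R φ ≪≫ i⟩⟩

/-- A globally generated bundle of rank exceeding the dimension has a trivial subbundle. -/
theorem main (k : Type u) [Field k] [Infinite k] [X.Over (Spec (CommRingCat.of k))]
    [LocallyOfFiniteType (X ↘ Spec (CommRingCat.of k))] [CompactSpace X]
    {E : X.Modules} {r N n : ℕ} (hE : FlatMod.IsFinLocFreeOfRank r E)
    (φ : FlatMod.freeMod X N ⟶ E) [Epi φ] (hdim : topologicalKrullDim X ≤ (n : ℕ)) (hrn : n ≤ r) :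
    ∃ ψ : FlatMod.freeMod X (r - n) ⟶ E, Mono ψ ∧ FlatMod.IsFinLocFreeOfRank n (cokernel ψ) := by
  obtain ⟨τ, hτ⟩ := exists_adapted k hE φ hdim (r - n) (by omega)
  exact exists_subbundle hτ (by omega)

end Groth.L03.ShStab.GeneralSections
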