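import Groth.Agent.L03.ShStab.RefPure
import Groth.Agent.L03.RefNormal
import Groth.Agent.L22.SchemeDim
import Groth.Agent.L08.Cube.SmoothStalk

/-!
# Homomorphisms of slope stable reflexive modules
-/

set_option autoImplicit false

universe u

open CategoryTheory CategoryTheory.Limits AlgebraicGeometry TopologicalSpace Opposite Polynomial StabCat
open Groth.L03.Euler

namespace Groth.L03.ShStab.StableHom

open Groth.L03.ShStab.Basic

variable {X : Scheme.{u}}

/-- A monomorphism into a torsion free module from a reflexive one, with cokernel supported in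
codimension two, is an isomorphism. -/
theorem isIso_of_mono [IsIntegral X] [IsLocallyNoetherian X]
    (hreg : ∀ x : X, IsRegularLocalRing (X.presheaf.stalk x)) {F G : X.Modules} (hF : Coh.IsCoh F)
    (hFr : RefHull.IsReflexive F) [Coh.IsQCoh G]
    (hGtf : ∀ x : X, Module.IsTorsionFree (X.presheaf.stalk x) (G.presheaf.stalk x))
    (φ : F ⟶ G) [Mono φ] (hcl : IsClosed (CohB1.support (cokernel φ)))
    (h2 : ∀ x ∈ CohB1.support (cokernel φ), (2 : WithBot ℕ∞) ≤ ringKrullDim (X.presheaf.stalk x)) :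
    IsIso φ := by
  have hinj : ∀ y, Function.Injective (RefHull.stalkMapₗ φ y) :=
    (Groth.L21.Mod.mono_iff_stalk_injective φ).1 inferInstance
  have hS : (ShortComplex.mk φ (cokernel.π φ) (cokernel.condition φ)).ShortExact :=
    { exact := ShortComplex.exact_cokernel φ }
  let Z : X.Opens := ⟨(CohB1.support (cokernel φ))ᶜ, hcl.isOpen_compl⟩
  rw [Groth.L21.Mod.isIso_iff_stalk_bijective]
  intro x
  refine ⟨hinj x, fun t => ?_⟩
  obtain ⟨W, hxW, d, rfl⟩ := TopCat.Presheaf.exists_germ_eq (x := x) G.presheaf t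
  have hc : ∀ y : X, y ∈ W → y ∉ W ⊓ Z → (2 : WithBot ℕ∞) ≤ ringKrullDim (X.presheaf.stalk y) :=
    fun y hy hy' => h2 y (by_contra fun h => hy' ⟨hy, h⟩)
  obtain ⟨m, hm⟩ := RefNormal.exists_lift_of_stalk φ hinj
    (G.presheaf.map (homOfLE (inf_le_left : W ⊓ Z ≤ W)).op d) fun y hy => by
    have hsub : Subsingleton ((cokernel φ).presheaf.stalk y) :=
      by_contra fun h => hy.2 h
    exact (ShortComplex.ab_exact_iff _).1 (hS.map_of_exact (Groth.L21.Mod.stalkF X y)).exact _
      (@Subsingleton.elim _ hsub _ _)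
  obtain ⟨n, hn⟩ := (RefNormal.bijective_res hreg hF hFr inf_le_left hc).2 m
  refine ⟨F.presheaf.germ W x hxW n, ?_⟩
  have h := RefNormal.injective_res hGtf inf_le_left hc (a₁ := φ.app W n) (a₂ := d) ?_
  · rw [← h]
    exact RefHull.stalkMapₗ_germ φ x hxW n
  · refine Groth.L15.Ref.sec_ext fun y hy => ?_
    have e := congrArg (F.presheaf.germ (W ⊓ Z) y hy) hn
    rw [TopCat.Presheaf.germ_res_apply] at e ⊢
    rw [TopCat.Presheaf.germ_res_apply, ← RefHull.stalkMapₗ_germ φ y hy.1 n, e,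
      RefHull.stalkMapₗ_germ, hm, TopCat.Presheaf.germ_res_apply]

variable {k : Type u} [Field k] [X.Over (Spec (CommRingCat.of k))]
  [IsProper (X ↘ Spec (CommRingCat.of k))] {L : X.Modules}

include k in
/-- A point with local ring of dimension at most one has closure of codimension at most one. -/
theorem le_dim_of_mem [IsIntegral X] {n : ℕ} (hX : topologicalKrullDim X = n) {T : Set X} (hT : IsClosed T)
    {x : X} (hx : x ∈ T) :
    (2 : WithBot ℕ∞) ≤ ringKrullDim (X.presheaf.stalk x) ∨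
      ∃ a : ℕ, n ≤ a + 1 ∧ (a : WithBot ℕ∞) ≤ topologicalKrullDim T := by
  obtain ⟨a, b, ha, hb, hab⟩ := Groth.L22.SchemeDim.exists_localDim k X x
  obtain ⟨m, hm, -, hopen⟩ := Groth.L22.SchemeDim.exists_dim_eq_trdeg k X
  have hmn : n = m := by exact_mod_cast hX.symm.trans hm
  have hl : FlatMor.localDim X x = (n : WithBot ℕ∞) := by
    refine le_antisymm ?_ (le_iInf fun U => ?_)
    · refine iInf_le_of_le ⟨⊤, trivial⟩ ?_
      rw [hmn, ← hopen ⊤ ⟨x, trivial⟩]
      exact le_rfl
    · rw [hmn, ← hopen U.1 ⟨x, U.2⟩]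
      exact le_rfl
  rw [hl] at hab
  have hab' : n = a + b := by exact_mod_cast hab
  by_cases hb2 : 2 ≤ b
  · exact .inl (hb ▸ by exact_mod_cast hb2)
  · refine .inr ⟨a, by omega, ?_⟩
    obtain ⟨a', ha', htr⟩ := Groth.L22.SchemeDim.exists_dim_closure_eq_trdeg k X x
    have : a = a' := by exact_mod_cast ha.symm.trans htr
    rw [this, ← ha']
    exact topologicalKrullDim_set_mono (closure_minimal (Set.singleton_subset_iff.2 hx) hT)

/-- A nonzero map of slope stable reflexive modules not decreasing the slope is an isomorphism. -/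
theorem isIso_of_hatSlope_le [IsIntegral X] (hreg : ∀ x : X, IsRegularLocalRing (X.presheaf.stalk x))
    (hL : CohB1.IsAmple L) {n : ℕ} (hn : 1 ≤ n) (hX : topologicalKrullDim X = n)
    {F G : X.Modules} (hFr : RefHull.IsReflexive F) (hGr : RefHull.IsReflexive G)
    (hF : _root_.ShStab.IsMuStable k X L F n) (hG : _root_.ShStab.IsMuStable k X L G n)
    {pF pG : ℚ[X]} (hpF : _root_.ShStab.IsHilbPoly k X L F pF) (hpG : _root_.ShStab.IsHilbPoly k X L G pG)
    (hle : hatSlope n pG ≤ hatSlope n pF) (φ : F ⟶ G) (hφ : φ ≠ 0) : IsIso φ := by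
  haveI : IsLocallyNoetherian X := Basic.locallyNoetherian (k := k)
  have hFp := RefPure.isPure (k := k) hFr hX
  have hGp := RefPure.isPure (k := k) hGr hX
  have hGss : _root_.ShStab.IsMuSemistable k X L G n :=
    ⟨hG.1, hG.2.1, hG.2.2.1, hG.2.2.2.1,
      fun A ι hι hA pA pE hpA hpE h1 h2 => (hG.2.2.2.2 A ι hι hA pA pE hpA hpE h1 h2).le⟩
  have dF := dim_le_of_isPure hF.1 hFp
  have dG := dim_le_of_isPure hG.1 hGp
  obtain ⟨hK, hI, hC⟩ := coh_parts k hF.1 hG.1 φ
  obtain ⟨pK, hpK⟩ := exists_hilb (k := k) hL.1 hK (dim_sub_le (kernel.ι φ) dF)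
  obtain ⟨pI, hpI⟩ := exists_hilb (k := k) hL.1 hI (dim_sub_le (Abelian.image.ι φ) dG)
  have hI0 : ¬ IsZero (Abelian.image φ) := fun h =>
    hφ (by rw [← Abelian.image.fac φ, h.eq_of_tgt (Abelian.factorThruImage φ) 0, Limits.zero_comp])
  have hsum := hilb_kernel_image hL hF.1 hG.1 φ hpF hpK hpI
  have hαI := alpha_pos_sub hL hGp (Abelian.image.ι φ) hI hI0 hpI
  haveI : Mono φ := by
    by_contra hm
    have hK0 : ¬ IsZero (kernel φ) := fun h => hm (Preadditive.mono_of_isZero_kernel φ h)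
    have hαK := alpha_pos_sub hL hFp (kernel.ι φ) hK hK0 hpK
    have h1 := hF.2.2.2.2 _ (kernel.ι φ) inferInstance hK pK pF hpK hpF hαK
      (by rw [hsum, PolyOrd.alpha_add]; linarith)
    have h2 := Mu.hatSlope_le_of_mono hL hn hGp hGss (Abelian.image.ι φ) hI hI0 hpI hpG
    subst hsum
    have h3 := h2.trans hle
    simp only [hatSlope, PolyOrd.alpha_add] at h1 h3
    rw [div_lt_div_iff₀ hαK (by positivity)] at h1
    rw [div_le_div_iff₀ hαI (by positivity)] at h3
    nlinarith
  have dC := dim_quot_le (cokernel.π φ) dG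
  obtain ⟨pC, hpC⟩ := exists_hilb (k := k) hL.1 hC dC
  have hsum' := hilb_cokernel hL hF.1 hG.1 φ hpF hpG hpC
  have hαF := alpha_pos_sub hL hFp (𝟙 F) hF.1 hF.2.1 hpF
  have hαC : alpha n pC = 0 := by
    rcases (alpha_nonneg hL hC dC hpC).eq_or_lt with h | h
    · exact h.symm
    · exact absurd (hG.2.2.2.2 F φ inferInstance hF.1 pF pG hpF hpG hαF
        (by rw [hsum', PolyOrd.alpha_add]; linarith)) (not_lt.2 hle)
  have hαC' : alpha (n - 1) pC = 0 := by
    have h2 := Mu.hatSlope_le_of_mono hL hn hGp hGss φ hF.1 hF.2.1 hpF hpG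
    have h3 := le_antisymm h2 hle
    simp only [hatSlope, hsum', PolyOrd.alpha_add, hαC, add_zero] at h3
    rw [div_left_inj' hαF.ne'] at h3
    linarith
  have hGtf := Groth.L15.Ref.isTorsionFree_stalk hG.1 hGr
  haveI : Coh.IsQCoh G := hG.1.1
  have hcl := Groth.L16.CohSupport.isClosed_support (cokernel φ) hC.2
  refine isIso_of_mono hreg hF.1 hFr hGtf φ hcl fun x hx => ?_
  rcases le_dim_of_mem (k := k) hX hcl hx with h | ⟨a, hna, ha⟩
  · exact h
  · exfalso
    obtain ⟨e, hen, he⟩ := exists_nat_dim (M := cokernel φ)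
      (fun h => by
        rw [(Groth.L21.Mod.isZero_iff_support_eq_empty _).1 h] at hx
        exact hx) dC
    have hae : a ≤ e := by exact_mod_cast ha.trans he.le
    have hpos := (natDegree_eq_and_coeff_pos hL hC he hpC).2
    have hα : alpha e pC = 0 := by
      rcases (show e = n ∨ e = n - 1 by omega) with rfl | rfl
      exacts [hαC, hαC']
    simp [alpha, hpos.ne', Nat.factorial_ne_zero] at hα

end Groth.L03.ShStab.StableHom
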