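import Groth.Agent.L03.ShStab.PicZStable
import Groth.Agent.L03.ShStab.StableHom
import Groth.Agent.L03.ShStab.FreeSub
import Groth.Agent.L03.SurfAdj.Tools
import Groth.Agent.L03.SurfDual.Duality
import Groth.Agent.L18.GlobGen
import Groth.Agent.L21.InvHom
import Groth.Prelude.Def_TorSh

/-!
# Stable sheaves of rank two with minimal determinant on a surface with trivial canonical module and Picard group `ℤ`
-/

set_option autoImplicit false
set_option backward.isDefEq.respectTransparency false
set_option linter.style.haveILetI false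
set_option linter.unusedSectionVars false

universe u

open CategoryTheory CategoryTheory.Limits AlgebraicGeometry TopologicalSpace Polynomial StabCat

noncomputable section

namespace Groth.L03.ShStab.K3Rank2

open Groth.L16 Groth.L03.Euler Groth.L03.ShStab.Basic Groth.L03.ShStab.RankOneSlope
open Groth.L15.Ref (toEta toEta_injective toEta_stalkMapₗ stalkMapₗ_comp)
open Groth.L22.Big (ii)
open Groth.L00.Tensor (tensorRightF tensorIso tensorComm tensorUnitLeft tensorUnitRight tensorAssoc)

variable {X : Scheme.{u}}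

theorem notMem_support_cokernel {A B : X.Modules} (f : A ⟶ B) {x : X}
    (h : Function.Surjective (RefHull.stalkMapₗ f x)) : x ∉ CohB1.support (cokernel f) := by
  intro hx
  refine hx ⟨fun s t => ?_⟩
  suffices ∀ s : (cokernel f).presheaf.stalk x, s = 0 by rw [this s, this t]
  intro s
  obtain ⟨v, rfl⟩ := (Groth.L21.Mod.epi_iff_stalk_surjective (cokernel.π f)).1 inferInstance x s
  obtain ⟨w, rfl⟩ := h v
  refine Eq.trans ?_ (Rank2.stalkMapₗ_zero (A := A) (B := cokernel f) _ w)
  rw [← cokernel.condition f, stalkMapₗ_comp]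
  rfl

theorem isTorsionFree_of_mono {A B : X.Modules} (f : A ⟶ B) [Mono f] [Coh.IsQCoh B]
    (h : ∀ x : X, Module.IsTorsionFree (X.presheaf.stalk x) (B.presheaf.stalk x)) (x : X) :
    Module.IsTorsionFree (X.presheaf.stalk x) (A.presheaf.stalk x) := by
  haveI := h x
  have hi : Function.Injective (RefHull.stalkMapₗ f x) := (Groth.L21.Mod.mono_iff_stalk_injective f).1 inferInstance x
  exact hi.moduleIsTorsionFree _ (fun r v => map_smul _ r v)

theorem slope_le_of_redLT {P Q : ℚ[X]} (hP : P.natDegree ≤ 2) (hQ : Q.natDegree ≤ 2) (hPα : 0 < alpha 2 P)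
    (hQα : 0 < alpha 2 Q) (h : RedLT 2 P Q) : hatSlope 2 P ≤ hatSlope 2 Q := by
  by_contra hlt
  rw [not_le] at hlt
  simp only [hatSlope] at hlt
  rw [div_lt_div_iff₀ hQα hPα] at hlt
  let D : ℚ[X] := alpha 2 P • Q - alpha 2 Q • P
  have hD : 0 < D.leadingCoeff := PolyOrd.polyLT_iff.1 h
  have h2 : D.coeff 2 = 0 := by simp [D, alpha]; ring
  have hd : D.natDegree ≤ 1 := by
    refine natDegree_le_iff_coeff_eq_zero.2 fun j hj => ?_
    rcases (show j = 2 ∨ 2 < j by omega) with rfl | hj'
    · exact h2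
    · simp [D, coeff_eq_zero_of_natDegree_lt (hP.trans_lt hj'), coeff_eq_zero_of_natDegree_lt (hQ.trans_lt hj')]
  have h1 : D.coeff 1 < 0 := by
    simp only [alpha, Nat.factorial_one, Nat.cast_one, one_mul, Nat.reduceSub] at hlt
    simp only [D, coeff_sub, coeff_smul, smul_eq_mul, alpha]
    linarith
  have : D.natDegree = 1 := le_antisymm hd (le_natDegree_of_ne_zero h1.ne)
  rw [leadingCoeff, this] at hD
  linarith

variable {k : Type u} [Field k] [X.Over (Spec (CommRingCat.of k))] [IsProper (X ↘ Spec (CommRingCat.of k))]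
  [IsIntegral X] (hX : topologicalKrullDim X = (2 : ℕ))

include k hX in
/-- A closed set avoiding the generic point and the points of height one is finite. -/
theorem dim_le_zero_of_avoid {T : Set X} (hT : IsClosed T) (hη : genericPoint ↥X ∉ T)
    (h1 : ∀ z : X, Order.coheight z = 1 → z ∉ T) : topologicalKrullDim T ≤ (0 : ℕ) := by
  by_contra hne
  have hge : ((1 : ℕ) : WithBot ℕ∞) ≤ topologicalKrullDim T := by
    revert hne
    generalize topologicalKrullDim T = d
    intro hne
    induction d using WithBot.recBotCoe with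
    | bot => exact absurd bot_le hne
    | coe t =>
      change ((1 : ℕ∞) : WithBot ℕ∞) ≤ _
      rw [WithBot.coe_le_coe, Order.one_le_iff_ne_zero]
      rintro rfl
      exact hne le_rfl
  obtain ⟨y, hy, hyd⟩ := exists_point_dim_closure_ge hT hge
  obtain ⟨a, b, ha, hb, hab⟩ := Groth.L22.SchemeDim.exists_localDim k X y
  obtain ⟨m, hm, -, hopen⟩ := Groth.L22.SchemeDim.exists_dim_eq_trdeg k X
  have hmn : (2 : ℕ) = m := by exact_mod_cast hX.symm.trans hm
  have hl : FlatMor.localDim X y = ((2 : ℕ) : WithBot ℕ∞) := by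
    refine le_antisymm ?_ (le_iInf fun U => ?_)
    · refine iInf_le_of_le ⟨⊤, trivial⟩ ?_
      rw [hmn, ← hopen ⊤ ⟨y, trivial⟩]
      exact le_rfl
    · rw [hmn, ← hopen U.1 ⟨y, U.2⟩]
      exact le_rfl
  rw [hl] at hab
  have hab' : 2 = a + b := by exact_mod_cast hab
  obtain ⟨a', ha', htr⟩ := Groth.L22.SchemeDim.exists_dim_closure_eq_trdeg k X y
  have haa : a = a' := by exact_mod_cast ha.symm.trans htr
  rw [ha', ← haa] at hyd
  have ha1 : 1 ≤ a := by exact_mod_cast hyd
  haveI : IsLocallyNoetherian X := Basic.locallyNoetherian (k := k)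
  rcases (show b = 0 ∨ b = 1 by omega) with rfl | rfl
  · refine hη ?_
    have hsub : closure ({y} : Set X) ⊆ T := closure_minimal (Set.singleton_subset_iff.2 hy) hT
    have hlt : closure ({y} : Set X) = Set.univ := by
      by_contra he
      have := topologicalKrullDim_add_one_le isClosed_closure (IrreducibleSpace.isIrreducible_univ X)
        (Set.subset_univ _) he
      rw [IsHomeomorph.topologicalKrullDim_eq _ (Homeomorph.Set.univ X).isHomeomorph, hX, ha', ← haa] at this
      have h3 : a + 1 ≤ 2 := by exact_mod_cast this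
      omega
    exact hsub (hlt ▸ trivial)
  · exact h1 y ((Groth.L15.Ref.coheight_eq_one_iff y).1 (by simpa using hb)) hy

variable [IsAlgClosed k] [Smooth (X ↘ Spec (CommRingCat.of k))]
  {L : X.Modules} (hL : CohB1.IsAmple L)

include hX in
/-- A nonzero map to a dualizing module gives one to the structure sheaf when the canonical module is trivial. -/
theorem exists_dualizing_to_structure
    (hproj : ∃ (n : ℕ) (ι : X ⟶ CohB1.ProjSpace n k), IsClosedImmersion ι ∧
      ι ≫ CohB1.ProjSpace.toSpec n k = X ↘ Spec (CommRingCat.of k))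
    (hK : Canon.IsTopDiff (X ↘ Spec (CommRingCat.of k)) 2 (Coh.structureModule X)) :
    ∀ F : X.Modules, Coh.IsCoh F → (∀ φ : F ⟶ Coh.structureModule X, φ = 0) →
      Subsingleton (Coh.HH X F 2) := by
  have hd2 : topologicalKrullDim X = 2 := hX.trans Nat.cast_ofNat
  have hreg := fun x => Groth.L03.SurfAdj.reg_of_smooth k (X := X) x
  obtain ⟨-, hflip, -, -⟩ := Groth.L03.SurfAdj.canonical k hd2 hreg hK
  obtain ⟨ω, t, hωc, hωi, hdual⟩ := Groth.L03.SurfDual.exists_dualizing k hd2 hreg hproj
  obtain ⟨ω', hω', ⟨e⟩⟩ := Groth.L08.Cube.exists_inverse hωi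
  haveI := Groth.L21.RR.isNoetherian_of_proper (X := X) k
  haveI : Module.Finite k (Coh.HH X ω 2) := ProperFinite.finite_HH k hωc 2
  haveI : Nontrivial (Coh.HH X ω 2) := by
    by_contra hn
    rw [not_nontrivial_iff_subsingleton] at hn
    obtain ⟨φ, -, hu⟩ := hdual ω hωc 0
    have h1 : (𝟙 ω : ω ⟶ ω) = φ := hu _ fun x => by rw [Subsingleton.elim x 0]; simp
    have h2 : (0 : ω ⟶ ω) = φ := hu _ fun x => by rw [Subsingleton.elim x 0]; simp
    exact not_isZero_invertible hωi ((IsZero.iff_id_eq_zero ω).2 (h1.trans h2.symm))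
  have hh : Module.finrank k (Coh.HH X ω' 0) = Module.finrank k (Coh.HH X ω 2) := by
    rw [← finrank_HH_of_iso (tensorUnitLeft ω')]
    exact hflip ω ω' hωi ⟨e⟩ 0 (by omega)
  haveI : Nontrivial (Coh.HH X ω' 0) := by
    refine Module.nontrivial_of_finrank_pos (R := k) ?_
    rw [hh]; exact Module.finrank_pos
  obtain ⟨σ, hσ⟩ := Groth.L21.RR.exists_hom_ne_zero (L := ω')
  haveI := Groth.L22.PDual.isEquivalence_tensorRightF (L := ω) (L' := ω') e
  haveI : (tensorRightF ω).Additive := Functor.additive_of_preserves_binary_products _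
  let g : ω ⟶ Coh.structureModule X :=
    (tensorUnitLeft ω).inv ≫ (tensorRightF ω).map σ ≫ (tensorComm ω' ω ≪≫ e).hom
  have hg : g ≠ 0 := fun h => hσ ((tensorRightF ω).map_injective (by
    rw [Functor.map_zero, ← cancel_epi (tensorUnitLeft ω).inv, ← cancel_mono (tensorComm ω' ω ≪≫ e).hom,
      Limits.comp_zero, Limits.zero_comp, Category.assoc]
    exact h))
  have hO := Groth.L18.Ample.isInvertible_structureModule X
  haveI : Coh.IsQCoh (Coh.structureModule X) := Groth.L15.Ref.isQCoh_structureModule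
  haveI : Mono g := Rank2.mono_of_ne_zero hωi (torsionFree_of_invertible hO) hg
  intro F hF hzero
  haveI : Module.Finite k (Coh.HH X F 2) := ProperFinite.finite_HH k hF 2
  by_contra hn
  haveI := not_subsingleton_iff_nontrivial.1 hn
  obtain ⟨x, hx⟩ := exists_ne (0 : Coh.HH X F 2)
  obtain ⟨ψ, hψ⟩ : ∃ ψ : Coh.HH X F 2 →ₗ[k] k, ψ x ≠ 0 := by
    by_contra! h
    exact hx ((Module.forall_dual_apply_eq_zero_iff k x).1 h)
  obtain ⟨φ, hφ, -⟩ := hdual F hF ψ
  have h0 : φ = 0 := by
    rw [← cancel_mono g, Limits.zero_comp]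
    exact hzero _
  subst h0
  refine hψ ((hφ x).trans ?_)
  have hm : Sheaf.H.map ((SheafOfModules.toSheaf X.ringCatSheaf).map (0 : F ⟶ ω)) 2 x =
      Groth.L16.CohLinear.hmap (0 : F ⟶ ω) 2 x := (CohLinear.hmap_apply _ 2 x).symm
  rw [hm, show Groth.L16.CohLinear.hmap (0 : F ⟶ ω) 2 x = 0 from ?_, map_zero]
  exact Groth.L21.RR.hmap_zero F ω 2 x

include hX hL in
/-- Symmetry of the Hilbert polynomial of the structure sheaf. -/
theorem coeff_one_structure (hK : Canon.IsTopDiff (X ↘ Spec (CommRingCat.of k)) 2 (Coh.structureModule X))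
    {pO : ℚ[X]} (hpO : _root_.ShStab.IsHilbPoly k X L (Coh.structureModule X) pO) : pO.coeff 1 = 0 := by
  have hd2 : topologicalKrullDim X = 2 := hX.trans Nat.cast_ofNat
  haveI := Groth.L21.RR.isNoetherian_of_proper (X := X) k
  obtain ⟨hO, -, -, hRR⟩ := Groth.L03.SurfAdj.canonical k hd2
    (fun x => Groth.L03.SurfAdj.reg_of_smooth k (X := X) x) hK
  have h0 : ∀ A : X.Modules, PicF.IsInvertible A → ii k A (Coh.structureModule X) = 0 := fun A hA => by
    have h := Groth.L22.Big.ii_pow_right k hX.le hA hA 0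
    simpa [CohB1.tensorPow] using h
  let c := ii k L L / 2
  have : pO = C c * Polynomial.X ^ 2 + C (Curv2.euler k X (Coh.structureModule X) : ℚ) :=
    eq_of_eventually_eval_eq 0 fun m _ => by
      have hm := Groth.L18.Ample.isInvertible_tensorPow hL.1 m
      have h := hRR _ hm
      rw [h0 _ hm, Groth.L22.Big.ii_pow k hX.le hL.1 hm, Groth.L22.Big.ii_pow_right k hX.le hL.1 hL.1] at h
      rw [← hpO m, show Curv2.euler k X (_root_.ShStab.twist X L (Coh.structureModule X) m) =
        Curv2.euler k X (CohB1.tensorPow L m) from euler_iso (tensorUnitLeft _)]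
      simp only [eval_add, eval_mul, eval_C, eval_pow, eval_X, c]
      linear_combination h / 2
  rw [this, coeff_add, coeff_C_mul, coeff_X_pow, coeff_C, if_neg (by norm_num), if_neg (by norm_num)]
  ring

variable [PicGrp.Law X] (hgen : ∀ c : PicLoc.PicSet X, ∃ n : ℤ, c = PicGrp.cls L hL.1 ^ n)

include hX hgen in
/-- The main result. -/
theorem exists_extension
    (hproj : ∃ (n : ℕ) (ι : X ⟶ CohB1.ProjSpace n k), IsClosedImmersion ι ∧
      ι ≫ CohB1.ProjSpace.toSpec n k = X ↘ Spec (CommRingCat.of k))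
    (hK : Canon.IsTopDiff (X ↘ Spec (CommRingCat.of k)) 2 (Coh.structureModule X))
    {V : X.Modules} (hV : Coh.IsCoh V) (hVtf : TorSh.IsTorsionFree V)
    (hst : _root_.ShStab.IsStable k X L V 2) {P pO : ℚ[X]} (hP : _root_.ShStab.IsHilbPoly k X L V P)
    (hpO : _root_.ShStab.IsHilbPoly k X L (Coh.structureModule X) pO)
    (hrk : P.coeff 2 = 2 * pO.coeff 2) (hc1 : P.coeff 1 = P.coeff 2) (hchi : 1 ≤ P.coeff 0) :
    ∃ (N : X.Modules) (ι : N ⟶ L) (_ : Mono ι) (_ : Coh.IsCoh N)
      (_ : topologicalKrullDim (CohB1.support (cokernel ι)) ≤ 0)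
      (a : Coh.structureModule X ⟶ V) (b : V ⟶ N) (w : a ≫ b = 0),
      (ShortComplex.mk a b w).ShortExact ∧
        ∀ r : V ⟶ Coh.structureModule X, a ≫ r ≠ 𝟙 (Coh.structureModule X) := by
  haveI : IsLocallyNoetherian X := Basic.locallyNoetherian (k := k)
  haveI := Groth.L21.RR.isNoetherian_of_proper (X := X) k
  have hreg := fun x => Groth.L03.SurfAdj.reg_of_smooth k (X := X) x
  haveI : Coh.IsQCoh (Coh.structureModule X) := Groth.L15.Ref.isQCoh_structureModule
  haveI : Coh.IsQCoh V := hV.1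
  have hn : (1 : ℕ) ≤ 2 := by omega
  have hO := Groth.L18.Ample.isInvertible_structureModule X
  have hOc := Groth.L18.Ample.isCoh_of_isInvertible hO
  have hOp := isPure_invertible (k := k) (n := 2) hX hO
  have hO0 := not_isZero_invertible hO
  have hαO := alpha_pos_sub hL hOp (𝟙 _) hOc hO0 hpO
  have hO1 := coeff_one_structure hX hL hK hpO
  have hμO : hatSlope 2 pO = 0 := by simp [hatSlope, alpha, hO1]
  have hαP : alpha 2 P = 2 * alpha 2 pO := by simp only [alpha, hrk]; ring
  have hdeg : ∀ {M : X.Modules}, Coh.IsCoh M → ∀ {p : ℚ[X]}, _root_.ShStab.IsHilbPoly k X L M p →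
      p.natDegree ≤ 2 := fun {M} hM {p} hp => natDegree_le hL.1 hM (dim_le hX M) hp
  have hpos2 : 0 < pO.coeff 2 := by
    simp only [alpha, Nat.factorial_two] at hαO; push_cast at hαO; linarith
  have hμP : hatSlope 2 P = 1 / 2 := by
    simp only [hatSlope, alpha, hc1, hrk, Nat.reduceSub, Nat.factorial_one, Nat.factorial_two]
    push_cast
    field_simp
  have hstable : ∀ {F : X.Modules} (ι : F ⟶ V) [Mono ι], Coh.IsCoh F → ¬ IsZero F →
      ∀ {pF : ℚ[X]}, _root_.ShStab.IsHilbPoly k X L F pF → alpha 2 pF ≠ alpha 2 P →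
        hatSlope 2 pF ≤ 1 / 2 := by
    intro F ι _ hF hF0 pF hpF hne
    rw [← hμP]
    refine slope_le_of_redLT (hdeg hF hpF) (hdeg hV hP) (alpha_pos_sub hL hst.2.2.1 ι hF hF0 hpF)
      (by rw [hαP]; positivity) (hst.2.2.2 F ι inferInstance hF hF0 (fun hi => hne ?_) pF P hpF hP)
    haveI := hi
    rw [isHilbPoly_unique hP (isHilbPoly_iso (asIso ι) hpF)]
  -- no maps to the structure sheaf
  have hhom : ∀ φ : V ⟶ Coh.structureModule X, φ = 0 := by
    intro φ
    by_contra hφ
    obtain ⟨hK', hI, -⟩ := coh_parts k hV hOc φ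
    have hI0 : ¬ IsZero (Abelian.image φ) := fun h => hφ (by
      rw [← Abelian.image.fac φ, h.eq_of_src (Abelian.image.ι φ) 0, Limits.comp_zero])
    haveI : Coh.IsQCoh (Abelian.image φ) := hI.1
    obtain ⟨pK, hpK⟩ := exists_hilb (k := k) hL.1 hK' (dim_le hX _)
    obtain ⟨pI, hpI⟩ := exists_hilb (k := k) hL.1 hI (dim_le hX _)
    obtain ⟨hαI, hμI⟩ := slope_le_of_mono hL hn hX hI hOc hOp hI0 (Abelian.image.ι φ)
      (FreeSub.surjective_eta_of_mono (Abelian.image.ι φ) hI0
        (isTorsionFree_of_mono (Abelian.image.ι φ) (torsionFree_of_invertible hO))) hpI hpO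
    have hsum := hilb_kernel_image hL hV hOc φ hP hpK hpI
    have hαK : alpha 2 pK = alpha 2 pO := by
      have := congrArg (alpha 2) hsum
      rw [PolyOrd.alpha_add, hαP, hαI] at this
      linarith
    have hK0 : ¬ IsZero (kernel φ) := fun h => by
      rw [isHilbPoly_unique hpK (isHilbPoly_zero hL.1 h)] at hαK
      simp [alpha] at hαK
      linarith
    have h1 := hstable (kernel.ι φ) hK' hK0 hpK (by rw [hαK, hαP]; linarith)
    have h2 := congrArg (alpha 1) hsum
    rw [PolyOrd.alpha_add] at h2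
    simp only [hatSlope, Nat.reduceSub, hαI, hαK] at h1 hμI
    rw [div_le_div_iff₀ hαO (by norm_num)] at h1
    rw [div_le_div_iff_of_pos_right hαO] at hμI
    simp only [alpha, hO1, hc1, hrk, Nat.factorial_one, Nat.factorial_two] at h1 h2 hμI
    push_cast at h1 h2 hμI
    linarith
  -- a section
  haveI := exists_dualizing_to_structure hX hproj hK V hV hhom
  haveI : Nontrivial (Coh.HH X V 0) := by
    have h0 := hP 0
    rw [euler_twist_zero, euler_eq_sum (k := k) (N := 3)
      (fun q hq => Groth.L22.Inter.subsingleton_HH_of_dim hX.le V (by omega))] at h0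
    simp only [Finset.sum_range_succ, Finset.sum_range_zero] at h0
    rw [Module.finrank_zero_of_subsingleton (M := Coh.HH X V 2)] at h0
    rw [show P.eval ((0 : ℕ) : ℚ) = P.coeff 0 by rw [Nat.cast_zero, coeff_zero_eq_eval_zero]] at h0
    push_cast at h0
    refine Module.nontrivial_of_finrank_pos (R := k) ?_
    by_contra hz
    rw [Nat.le_zero.1 (not_lt.1 hz)] at h0
    have : (0 : ℚ) ≤ (Module.finrank k (Coh.HH X V 1) : ℚ) := Nat.cast_nonneg _
    push_cast at h0
    linarith
  obtain ⟨s, hs⟩ := Groth.L21.RR.exists_hom_ne_zero (L := V)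
  haveI : Mono s := Rank2.mono_of_ne_zero hO hVtf hs
  -- the saturation
  let η := genericPoint ↥X
  let Q := cokernel s
  have hQ : Coh.IsCoh Q := (coh_parts k hOc hV s).2.2
  haveI : Coh.IsQCoh Q := hQ.1
  have hDQ : Coh.IsCoh (RefHull.ddual Q) := Groth.L15.Ref.isCoh_dual (Groth.L15.Ref.isCoh_dual hQ)
  haveI : Coh.IsQCoh (RefHull.ddual Q) := hDQ.1
  let q : V ⟶ RefHull.ddual Q := cokernel.π s ≫ RefHull.bidualMap Q
  let l : Coh.structureModule X ⟶ kernel q := kernel.lift q s (by simp [q])
  have hlι : l ≫ kernel.ι q = s := kernel.lift_ι _ _ _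
  haveI : Mono l := mono_of_mono_fac hlι
  obtain ⟨hM, hN, -⟩ := coh_parts k hV hDQ q
  haveI : Coh.IsQCoh (kernel q) := hM.1
  haveI : Coh.IsQCoh (Abelian.image q) := hN.1
  have hlη : Function.Surjective (RefHull.stalkMapₗ l η) := by
    intro v
    have h1 : RefHull.stalkMapₗ q η (RefHull.stalkMapₗ (kernel.ι q) η v) = 0 := by
      rw [← LinearMap.comp_apply, ← stalkMapₗ_comp, kernel.condition]
      exact Rank2.stalkMapₗ_zero _ v
    replace h1 : RefHull.stalkMapₗ (RefHull.bidualMap Q) η
        (RefHull.stalkMapₗ (cokernel.π s) η (RefHull.stalkMapₗ (kernel.ι q) η v)) = 0 := by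
      refine Eq.trans ?_ h1
      rw [← LinearMap.comp_apply, ← stalkMapₗ_comp]
    have h2 := Groth.L15.Ref.bidual_eta_injective hQ (h1.trans (map_zero _).symm)
    have hS : (ShortComplex.mk s (cokernel.π s) (cokernel.condition s)).ShortExact :=
      { exact := ShortComplex.exact_cokernel s }
    obtain ⟨c, hc⟩ := (ShortComplex.ab_exact_iff _).1 (hS.map_of_exact (Groth.L21.Mod.stalkF X η)).exact _ h2
    refine ⟨c, (Groth.L21.Mod.mono_iff_stalk_injective (kernel.ι q)).1 inferInstance η ?_⟩
    change RefHull.stalkMapₗ (kernel.ι q) η (RefHull.stalkMapₗ l η c) = RefHull.stalkMapₗ (kernel.ι q) η v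
    rw [← LinearMap.comp_apply, ← stalkMapₗ_comp, hlι]
    exact hc
  obtain ⟨pM, hpM⟩ := exists_hilb (k := k) hL.1 hM (dim_le hX _)
  obtain ⟨pN, hpN⟩ := exists_hilb (k := k) hL.1 hN (dim_le hX _)
  have hMp := isPure_sub hst.2.2.1 (kernel.ι q)
  obtain ⟨hαM, hμM0⟩ := slope_le_of_mono hL hn hX hOc hM hMp hO0 l hlη hpO hpM
  have hM0 : ¬ IsZero (kernel q) := fun h => hO0 (IsZero.of_mono l h)
  have hμM := hstable (kernel.ι q) hM hM0 hpM (by rw [← hαM, hαP]; linarith)
  have hsum := hilb_kernel_image hL hV hDQ q hP hpM hpN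
  have hαN : alpha 2 pN = alpha 2 pO := by
    have := congrArg (alpha 2) hsum
    rw [PolyOrd.alpha_add, hαP, ← hαM] at this
    linarith
  have hμN : hatSlope 2 pN = 1 - hatSlope 2 pM := by
    have h2 := congrArg (alpha 1) hsum
    rw [PolyOrd.alpha_add] at h2
    simp only [hatSlope, Nat.reduceSub, hαN, ← hαM]
    have h3 : alpha 1 P = alpha 2 pO := by
      simp only [alpha, hc1, hrk, Nat.factorial_one, Nat.factorial_two]; push_cast; ring
    rw [eq_sub_iff_add_eq, ← add_div, add_comm, ← h2, h3, div_self hαO.ne']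
  -- the quotient has rank one
  have hN0 : ¬ IsZero (Abelian.image q) := fun h => by
    rw [isHilbPoly_unique hpN (isHilbPoly_zero hL.1 h)] at hαN
    simp [alpha] at hαN
    linarith
  have hNtf : ∀ x, Module.IsTorsionFree (X.presheaf.stalk x) ((Abelian.image q).presheaf.stalk x) :=
    isTorsionFree_of_mono (Abelian.image.ι q)
      (Groth.L15.Ref.isTorsionFree_stalk hDQ (Groth.L15.Ref.isReflexive_ddual hQ))
  obtain ⟨m₀, hm₀⟩ := Groth.L18.Ample.exists_forall_isGloballyGenerated hL (Abelian.image q) hN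
  have hLm := Groth.L18.Ample.isInvertible_tensorPow hL.1 m₀
  let N' := CohB1.tensorMod (Abelian.image q) (CohB1.tensorPow L m₀)
  have hN'c : Coh.IsCoh N' := isCoh_tensor hLm hN
  haveI : Coh.IsQCoh N' := hN'c.1
  obtain ⟨σ, hσ⟩ : ∃ σ : Coh.structureModule X ⟶ N', σ ≠ 0 := by
    by_contra! h
    obtain ⟨J, p, hp⟩ := hm₀ m₀ le_rfl
    have hp0 : p = 0 := Sigma.hom_ext _ _ fun j => by rw [Limits.comp_zero]; exact h _
    subst hp0
    refine hN0 ((Groth.L21.Mod.isZero_iff_support_eq_empty _).2 ?_)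
    rw [← support_tensor hLm (Abelian.image q)]
    exact (Groth.L21.Mod.isZero_iff_support_eq_empty _).1 (IsZero.of_epi_zero (SheafOfModules.free J) N')
  obtain ⟨θ⟩ := nonempty_stalk_tensor hLm (Abelian.image q) η
  have hN'tf : ∀ x, Module.IsTorsionFree (X.presheaf.stalk x) (N'.presheaf.stalk x) := fun x => by
    obtain ⟨θx⟩ := nonempty_stalk_tensor hLm (Abelian.image q) x
    exact @Function.Injective.moduleIsTorsionFree _ _ _ _ _ _ _ _ (hNtf x) _ θx.symm.injective fun r v => map_smul _ r v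
  haveI : Mono σ := Rank2.mono_of_ne_zero hO hN'tf hσ
  have hσC : η ∉ CohB1.support (cokernel σ) := by
    intro hmem
    have hC := (coh_parts k hOc hN'c σ).2.2
    obtain ⟨pC, hpC⟩ := exists_hilb (k := k) hL.1 hC (dim_le hX _)
    have hu : CohB1.support (cokernel σ) = Set.univ := Set.eq_univ_of_forall fun x =>
      ((genericPoint_spec X).specializes trivial).mem_closed (CohSupport.isClosed_support _ hC.2) hmem
    have h2 := alpha_pos (d := 2) hL hC (by
      rw [hu, IsHomeomorph.topologicalKrullDim_eq _ (Homeomorph.Set.univ X).isHomeomorph]; exact hX) hpC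
    have h3 := congrArg (alpha 2) (hilb_cokernel hL hOc hN'c σ hpO (isHilbPoly_twist hpN m₀) hpC)
    rw [(alpha_taylor (e := 1) (hdeg hN hpN) _).1, PolyOrd.alpha_add, hαN] at h3
    linarith
  have hση : Function.Surjective (RefHull.stalkMapₗ σ η) := fun v => by
    have hS : (ShortComplex.mk σ (cokernel.π σ) (cokernel.condition σ)).ShortExact :=
      { exact := ShortComplex.exact_cokernel σ }
    exact (ShortComplex.ab_exact_iff _).1 (hS.map_of_exact (Groth.L21.Mod.stalkF X η)).exact v
      (@Subsingleton.elim _ (not_not.1 hσC) _ _)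
  -- the hull
  let b := RefHull.bidualMap (Abelian.image q)
  have hD : Coh.IsCoh (RefHull.ddual (Abelian.image q)) := Groth.L15.Ref.isCoh_dual (Groth.L15.Ref.isCoh_dual hN)
  haveI : Coh.IsQCoh (RefHull.ddual (Abelian.image q)) := hD.1
  have hDr := Groth.L15.Ref.isReflexive_ddual hN
  have hDtf := Groth.L15.Ref.isTorsionFree_stalk hD hDr
  have hbη : Function.Bijective (RefHull.stalkMapₗ b η) := by
    refine ⟨Groth.L15.Ref.bidual_eta_injective hN, ?_⟩
    letI : Field (X.presheaf.stalk η) := (inferInstance : Field X.functionField)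
    haveI := Groth.L15.Ref.finite_stalk hN η
    haveI : Module.IsReflexive (X.presheaf.stalk η) ((Abelian.image q).presheaf.stalk η) := inferInstance
    have hbij := (Groth.L15.Ref.bidualAt_bijective_iff hN η).2 this
    rw [← Groth.L15.Ref.stalkMapₗ_bidual] at hbij
    intro t
    obtain ⟨v, hv⟩ := hbij.2 (RefHull.evalStalk (RefHull.dual (Abelian.image q)) (Coh.structureModule X) η t)
    exact ⟨v, (Groth.L15.Ref.evalStalk_bijective (RefHull.dual (Abelian.image q)) (Coh.structureModule X)
      (Groth.L15.Ref.isCoh_dual hN) η).1 hv⟩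
  haveI : Mono b := (Groth.L21.Mod.mono_iff_stalk_injective b).2 fun x v w h => by
    haveI := hNtf x
    refine toEta_injective x (hbη.1 ?_)
    rw [← toEta_stalkMapₗ, ← toEta_stalkMapₗ]
    exact congrArg _ h
  obtain ⟨e, he⟩ := Groth.L21.RR.exists_frame_stalk hO η
  let u := θ.symm (RefHull.stalkMapₗ σ η e)
  have hu : ∀ v, ∃ c : X.presheaf.stalk η, c • u = v := fun v => by
    obtain ⟨w, hw⟩ := hση (θ v)
    obtain ⟨c, rfl⟩ := he.2 w
    refine ⟨c, ?_⟩
    have := congrArg θ.symm hw
    erw [θ.symm_apply_apply] at this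
    rw [← this]
    show c • θ.symm (RefHull.stalkMapₗ σ η e) = θ.symm (RefHull.stalkMapₗ σ η (c • e))
    rw [map_smul]
    exact (map_smul θ.symm c _).symm
  have hspan : Submodule.span (X.presheaf.stalk η) {RefHull.stalkMapₗ b η u} = ⊤ := eq_top_iff.2 fun z _ => by
    obtain ⟨v, rfl⟩ := hbη.2 z
    obtain ⟨c, rfl⟩ := hu v
    exact Submodule.mem_span_singleton.2 ⟨c, (map_smul _ c u).symm⟩
  have hu0 : RefHull.stalkMapₗ b η u ≠ 0 := fun h => hN0 ((IsZero.iff_id_eq_zero _).2
    (Groth.L15.Ref.hom_ext_eta hNtf (LinearMap.ext fun v => by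
      obtain ⟨c, rfl⟩ := hu v
      rw [hbη.1 (h.trans (map_zero _).symm), smul_zero, map_zero, map_zero])))
  have hH : PicF.IsInvertible (RefHull.ddual (Abelian.image q)) :=
    Groth.L03.RefRegSch.isInvertible_of_rank_one hreg hD hDr (Rank2.genInvertible_of_eta hD hDtf _ hu0 hspan)
  obtain ⟨pH, hpH⟩ := exists_hilb (k := k) hL.1 hD (dim_le hX _)
  have hCb := (coh_parts k hN hD b).2.2
  have hCbdim : topologicalKrullDim (CohB1.support (cokernel b)) ≤ (0 : ℕ) :=
    dim_le_zero_of_avoid (k := k) hX (CohSupport.isClosed_support _ hCb.2) (notMem_support_cokernel b hbη.2)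
      fun z hz => notMem_support_cokernel b (by
        haveI := hreg z
        haveI := isDVR ((Groth.L15.Ref.coheight_eq_one_iff z).2 hz)
        exact Groth.L15.Ref.bidual_surjective_of_dvr hN z)
  obtain ⟨pCb, hpCb⟩ := exists_hilb (k := k) hL.1 hCb (dim_le hX _)
  have hdCb := natDegree_le (k := k) hL.1 hCb hCbdim hpCb
  have hμH : hatSlope 2 pH = hatSlope 2 pN := by
    simp only [hatSlope, hilb_cokernel hL hN hD b hpN hpH hpCb, PolyOrd.alpha_add, Nat.reduceSub,
      alpha_eq_zero_of_natDegree_lt (show pCb.natDegree < 2 by omega),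
      alpha_eq_zero_of_natDegree_lt (show pCb.natDegree < 1 by omega), add_zero]
  rw [hμO] at hμM0
  obtain ⟨eH, hμM1⟩ : ∃ _ : RefHull.ddual (Abelian.image q) ≅ L, hatSlope 2 pM = 0 := by
    rcases PicZStable.exists_pow_iso hL.1 hgen hH with ⟨m, ⟨e'⟩⟩ | ⟨m, ⟨e'⟩⟩
    · have h := hatSlope_twist hL hn hX hH (a := 0) (b := m) (tensorUnitRight _ ≪≫ e') hpH hpO
      rw [hμO, hμH, hμN, Nat.cast_zero, add_zero, zero_add] at h
      have hm : m = 1 := by
        have h1 : (0 : ℚ) < m := by linarith
        have h2 : (m : ℚ) ≤ 1 := by linarith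
        have h1' : 0 < m := by exact_mod_cast h1
        have h2' : m ≤ 1 := by exact_mod_cast h2
        omega
      subst hm
      exact ⟨e' ≪≫ Groth.L00.Tensor.tensorPowOne L, by push_cast at h; linarith⟩
    · have h := hatSlope_twist hL hn hX hH (a := m) (b := 0) e' hpH hpO
      rw [hμO, hμH, hμN, Nat.cast_zero, add_zero] at h
      have : (0 : ℚ) ≤ m := Nat.cast_nonneg m
      linarith
  -- the saturation is trivial
  haveI : IsIso l := by
    have hC := (coh_parts k hOc hM l).2.2
    obtain ⟨pC, hpC⟩ := exists_hilb (k := k) hL.1 hC (dim_le hX _)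
    have hs2 := hilb_cokernel hL hOc hM l hpO hpM hpC
    have hC2 : alpha 2 pC = 0 := by
      have := congrArg (alpha 2) hs2
      rw [PolyOrd.alpha_add, ← hαM] at this
      linarith
    have hC1 : alpha 1 pC = 0 := by
      have h1 := congrArg (alpha 1) hs2
      rw [PolyOrd.alpha_add] at h1
      simp only [hatSlope, Nat.reduceSub, div_eq_zero_iff, ← hαM, hαO.ne', or_false] at hμM1
      rw [hμM1, show alpha 1 pO = 0 by simp [alpha, hO1]] at h1
      linarith
    have hcl := CohSupport.isClosed_support (cokernel l) hC.2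
    refine StableHom.isIso_of_mono hreg hOc Groth.L15.Ref.isReflexive_structureModule
      (isTorsionFree_of_mono (kernel.ι q) hVtf) l hcl fun x hx => ?_
    rcases StableHom.le_dim_of_mem (k := k) hX hcl hx with h | ⟨a, hna, ha⟩
    · exact h
    · exfalso
      obtain ⟨e, hen, he⟩ := exists_nat_dim (M := cokernel l)
        (fun h => by
          rw [(Groth.L21.Mod.isZero_iff_support_eq_empty _).1 h] at hx
          exact hx) (dim_le hX (cokernel l))
      have hae : a ≤ e := by exact_mod_cast ha.trans he.le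
      have hpos := (natDegree_eq_and_coeff_pos hL hC he hpC).2
      have hα : alpha e pC = 0 := by
        rcases (show e = 2 ∨ e = 1 by omega) with rfl | rfl
        exacts [hC2, hC1]
      simp [alpha, hpos.ne', Nat.factorial_ne_zero] at hα
  have w : s ≫ Abelian.factorThruImage q = 0 := by
    rw [← cancel_mono (Abelian.image.ι q), Category.assoc, Abelian.image.fac, Limits.zero_comp, ← hlι,
      Category.assoc, kernel.condition, Limits.comp_zero]
  refine ⟨Abelian.image q, b ≫ eH.hom, mono_comp _ _, hN, ?_, s, Abelian.factorThruImage q, w, ?_, fun r hr => ?_⟩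
  · have := (topologicalKrullDim_set_mono
      (Groth.L21.Mod.support_mono (cokernelCompIsIso b eH.hom).hom)).trans hCbdim
    simpa using this
  · have h0 := Groth.L16.Devissage.shortExact_kernel_image q
    refine ShortComplex.shortExact_of_iso ?_ h0
    refine ShortComplex.isoMk (asIso l).symm (Iso.refl _) (Iso.refl _) ?_ ?_
    · simp [← hlι]
    · simp
  · rw [hhom r, Limits.comp_zero] at hr
    exact hO0 ((IsZero.iff_id_eq_zero _).2 hr.symm)

end Groth.L03.ShStab.K3Rank2
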