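import Groth.Agent.L03.ShStab.K3Rank2
import Mathlib.LinearAlgebra.FiniteDimensional.Basic

/-!
# Saturated line subbundles of stable bundles of rank two on a K3 surface of Picard rank one
-/

set_option autoImplicit false
set_option backward.isDefEq.respectTransparency false
set_option linter.style.haveILetI false
set_option linter.unusedSectionVars false

universe u

open CategoryTheory CategoryTheory.Limits AlgebraicGeometry TopologicalSpace Polynomial StabCat

noncomputable section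

namespace Groth.L03.ShStab.K3Rank2

open Groth.L16 Groth.L03.Euler Groth.L03.ShStab.Basic Groth.L03.ShStab.RankOneSlope
open Groth.L15.Ref (toEta toEta_injective toEta_stalkMapₗ stalkMapₗ_comp)
open Groth.L00.Tensor (tensorRightF tensorIso tensorComm tensorUnitLeft tensorUnitRight tensorAssoc tensorPowIso)

variable {X : Scheme.{u}} {k : Type u} [Field k] [X.Over (Spec (CommRingCat.of k))]
  [IsProper (X ↘ Spec (CommRingCat.of k))] [IsIntegral X] (hX : topologicalKrullDim X = (2 : ℕ))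
  (hreg : ∀ x : X, IsRegularLocalRing (X.presheaf.stalk x)) {L : X.Modules} (hL : CohB1.IsAmple L)

include hX hreg hL in
/-- The hull of a torsion free module of rank one. -/
theorem exists_rank_one_hull {N : X.Modules} (hN : Coh.IsCoh N)
    (hNtf : ∀ x : X, Module.IsTorsionFree (X.presheaf.stalk x) (N.presheaf.stalk x))
    (u : N.presheaf.stalk (genericPoint ↥X)) (hu0 : u ≠ 0)
    (hu : ∀ v, ∃ c : X.presheaf.stalk (genericPoint ↥X), c • u = v) :
    ∃ (H : X.Modules) (b : N ⟶ H), PicF.IsInvertible H ∧ Mono b ∧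
      Function.Surjective (RefHull.stalkMapₗ b (genericPoint ↥X)) ∧
      topologicalKrullDim (CohB1.support (cokernel b)) ≤ (0 : ℕ) ∧
      (∀ {pN pH : ℚ[X]}, _root_.ShStab.IsHilbPoly k X L N pN → _root_.ShStab.IsHilbPoly k X L H pH →
        alpha 2 pN = alpha 2 pH ∧ alpha 1 pN = alpha 1 pH) ∧
      ∀ {G : X.Modules}, Coh.IsCoh G → RefHull.IsReflexive G → ∀ g : N ⟶ G, ∃ g' : H ⟶ G, b ≫ g' = g := by
  haveI : IsLocallyNoetherian X := Basic.locallyNoetherian (k := k)
  haveI : Coh.IsQCoh N := hN.1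
  haveI := Groth.L15.Ref.isQCoh_structureModule (X := X)
  let η := genericPoint ↥X
  let b := RefHull.bidualMap N
  have hD : Coh.IsCoh (RefHull.ddual N) := Groth.L15.Ref.isCoh_dual (Groth.L15.Ref.isCoh_dual hN)
  haveI : Coh.IsQCoh (RefHull.ddual N) := hD.1
  have hDr := Groth.L15.Ref.isReflexive_ddual hN
  have hDtf := Groth.L15.Ref.isTorsionFree_stalk hD hDr
  have hbη : Function.Bijective (RefHull.stalkMapₗ b η) := by
    refine ⟨Groth.L15.Ref.bidual_eta_injective hN, ?_⟩
    letI : Field (X.presheaf.stalk η) := (inferInstance : Field X.functionField)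
    haveI := Groth.L15.Ref.finite_stalk hN η
    haveI : Module.IsReflexive (X.presheaf.stalk η) (N.presheaf.stalk η) := inferInstance
    have hbij := (Groth.L15.Ref.bidualAt_bijective_iff hN η).2 this
    rw [← Groth.L15.Ref.stalkMapₗ_bidual] at hbij
    intro t
    obtain ⟨v, hv⟩ := hbij.2 (RefHull.evalStalk (RefHull.dual N) (Coh.structureModule X) η t)
    exact ⟨v, (Groth.L15.Ref.evalStalk_bijective (RefHull.dual N) (Coh.structureModule X)
      (Groth.L15.Ref.isCoh_dual hN) η).1 hv⟩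
  haveI : Mono b := (Groth.L21.Mod.mono_iff_stalk_injective b).2 fun x v w h => by
    haveI := hNtf x
    refine toEta_injective x (hbη.1 ?_)
    rw [← toEta_stalkMapₗ, ← toEta_stalkMapₗ]
    exact congrArg _ h
  have hspan : Submodule.span (X.presheaf.stalk η) {RefHull.stalkMapₗ b η u} = ⊤ := eq_top_iff.2 fun z _ => by
    obtain ⟨v, rfl⟩ := hbη.2 z
    obtain ⟨c, rfl⟩ := hu v
    exact Submodule.mem_span_singleton.2 ⟨c, (map_smul _ c u).symm⟩
  have hH : PicF.IsInvertible (RefHull.ddual N) :=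
    Groth.L03.RefRegSch.isInvertible_of_rank_one hreg hD hDr
      (Rank2.genInvertible_of_eta hD hDtf _ (fun h => hu0 (hbη.1 (h.trans (map_zero _).symm))) hspan)
  have hC := (coh_parts k hN hD b).2.2
  have hsurj1 : ∀ z : X, Order.coheight z = 1 → Function.Surjective (RefHull.stalkMapₗ b z) := fun z hz => by
    haveI := hreg z
    haveI := isDVR ((Groth.L15.Ref.coheight_eq_one_iff z).2 hz)
    exact Groth.L15.Ref.bidual_surjective_of_dvr hN z
  have hCdim : topologicalKrullDim (CohB1.support (cokernel b)) ≤ (0 : ℕ) :=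
    dim_le_zero_of_avoid (k := k) hX (CohSupport.isClosed_support _ hC.2) (notMem_support_cokernel b hbη.2)
      fun z hz => notMem_support_cokernel b (hsurj1 z hz)
  refine ⟨_, b, hH, inferInstance, hbη.2, hCdim, fun {pN pH} hpN hpH => ?_, fun {G} hG hGr g => ?_⟩
  · obtain ⟨pC, hpC⟩ := exists_hilb (k := k) hL.1 hC (dim_le hX _)
    have hd := natDegree_le (k := k) hL.1 hC hCdim hpC
    rw [hilb_cokernel hL hN hD b hpN hpH hpC, PolyOrd.alpha_add, PolyOrd.alpha_add,
      alpha_eq_zero_of_natDegree_lt (show pC.natDegree < 2 by omega),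
      alpha_eq_zero_of_natDegree_lt (show pC.natDegree < 1 by omega), add_zero, add_zero]
    exact ⟨rfl, rfl⟩
  · haveI : Coh.IsQCoh G := hG.1
    let be := LinearEquiv.ofBijective (RefHull.stalkMapₗ b η) hbη
    obtain ⟨g', hg'⟩ := Groth.L15.Ref.exists_hom (Groth.L03.RefRegSch.isNormalScheme hreg) hG hGr
      ((RefHull.stalkMapₗ g η).comp be.symm.toLinearMap) fun z hz v => by
        obtain ⟨w, rfl⟩ := hsurj1 z hz v
        refine ⟨RefHull.stalkMapₗ g z w, ?_⟩
        rw [toEta_stalkMapₗ, toEta_stalkMapₗ]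
        exact congrArg (RefHull.stalkMapₗ g η) (be.symm_apply_apply (toEta N z w)).symm
    refine ⟨g', Groth.L15.Ref.hom_ext_eta (Groth.L15.Ref.isTorsionFree_stalk hG hGr) ?_⟩
    rw [stalkMapₗ_comp, hg']
    exact LinearMap.ext fun v => congrArg (RefHull.stalkMapₗ g η) (be.symm_apply_apply v)

variable [PicGrp.Law X] (hgen : ∀ c : PicLoc.PicSet X, ∃ n : ℤ, c = PicGrp.cls L hL.1 ^ n)

include hX hgen in
/-- Invertible modules have the multiplicity of the structure sheaf and integral relative slope. -/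
theorem slope_invertible {H : X.Modules} (hH : PicF.IsInvertible H) {pH pO : ℚ[X]}
    (hpH : _root_.ShStab.IsHilbPoly k X L H pH) (hpO : _root_.ShStab.IsHilbPoly k X L (Coh.structureModule X) pO) :
    alpha 2 pH = alpha 2 pO ∧
      ((∃ m : ℕ, Nonempty (H ≅ CohB1.tensorPow L m) ∧ hatSlope 2 pH = hatSlope 2 pO + m) ∨
        ∃ m : ℕ, Nonempty (CohB1.tensorMod H (CohB1.tensorPow L m) ≅ Coh.structureModule X) ∧
          hatSlope 2 pH = hatSlope 2 pO - m) := by
  haveI : IsLocallyNoetherian X := Basic.locallyNoetherian (k := k)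
  have hn : (1 : ℕ) ≤ 2 := by omega
  have hα : ∀ {a b : ℕ}, (CohB1.tensorMod H (CohB1.tensorPow L a) ≅ CohB1.tensorPow L b) →
      alpha 2 pH = alpha 2 pO := fun {a b} e => by
    have h3 := congrArg (alpha 2) (isHilbPoly_unique (isHilbPoly_iso e (isHilbPoly_twist hpH a))
      (isHilbPoly_iso (tensorUnitLeft _) (isHilbPoly_twist hpO b)))
    rwa [(alpha_taylor (e := 1) (natDegree_le hL.1 (Groth.L18.Ample.isCoh_of_isInvertible hH) (dim_le hX _) hpH) _).1,
      (alpha_taylor (e := 1) (natDegree_le hL.1 (Groth.L18.Ample.isCoh_of_isInvertible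
        (Groth.L18.Ample.isInvertible_structureModule X)) (dim_le hX _) hpO) _).1] at h3
  rcases PicZStable.exists_pow_iso hL.1 hgen hH with ⟨m, ⟨e⟩⟩ | ⟨m, ⟨e⟩⟩
  · refine ⟨hα (a := 0) (b := m) (tensorUnitRight _ ≪≫ e), .inl ⟨m, ⟨e⟩, ?_⟩⟩
    have h := hatSlope_twist hL hn hX hH (a := 0) (b := m) (tensorUnitRight _ ≪≫ e) hpH hpO
    rwa [Nat.cast_zero, add_zero] at h
  · refine ⟨hα (a := m) (b := 0) e, .inr ⟨m, ⟨e⟩, ?_⟩⟩
    have h := hatSlope_twist hL hn hX hH (a := m) (b := 0) e hpH hpO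
    rw [Nat.cast_zero, add_zero] at h
    linarith

variable [IsAlgClosed k] [Smooth (X ↘ Spec (CommRingCat.of k))]

include hX hgen in
/-- Stable bundles of rank two are extensions of type `m ≤ n`. -/
theorem exists_type_le
    (hproj : ∃ (n : ℕ) (ι : X ⟶ CohB1.ProjSpace n k), IsClosedImmersion ι ∧
      ι ≫ CohB1.ProjSpace.toSpec n k = X ↘ Spec (CommRingCat.of k))
    (hK : Canon.IsTopDiff (X ↘ Spec (CommRingCat.of k)) 2 (Coh.structureModule X))
    {V : X.Modules} (hV : FlatMod.IsFinLocFreeOfRank 2 V)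
    (hst : _root_.ShStab.IsStable k X L V 2) {P : ℚ[X]} (hP : _root_.ShStab.IsHilbPoly k X L V P)
    (hc1 : P.coeff 1 = P.coeff 2) (n : ℕ) (hn : 1 ≤ P.eval (n : ℚ)) :
    ∃ (m : ℕ) (_ : m ≤ n) (M : X.Modules) (hM : PicF.IsInvertible M)
      (_ : PicGrp.cls M hM * PicGrp.cls L hL.1 ^ m = 1)
      (N : X.Modules) (ι : N ⟶ CohB1.tensorPow L (m + 1)) (_ : Mono ι) (_ : Coh.IsCoh N)
      (_ : topologicalKrullDim (CohB1.support (cokernel ι)) ≤ 0)
      (a : M ⟶ V) (b : V ⟶ N) (w : a ≫ b = 0),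
      (ShortComplex.mk a b w).ShortExact := by
  haveI : IsLocallyNoetherian X := Basic.locallyNoetherian (k := k)
  haveI := Groth.L21.RR.isNoetherian_of_proper (X := X) k
  have hreg := fun x => Groth.L03.SurfAdj.reg_of_smooth k (X := X) x
  have hVc : Coh.IsCoh V := hst.1
  haveI : Coh.IsQCoh V := hVc.1
  haveI : Coh.IsQCoh (Coh.structureModule X) := Groth.L15.Ref.isQCoh_structureModule
  have hVtf := Rank2.torsionFree_of_rank hV
  have h12 : (1 : ℕ) ≤ 2 := by omega
  let η := genericPoint ↥X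
  have hO := Groth.L18.Ample.isInvertible_structureModule X
  have hOc := Groth.L18.Ample.isCoh_of_isInvertible hO
  obtain ⟨pO, hpO⟩ := exists_hilb (k := k) hL.1 hOc (dim_le hX _)
  have hαO := alpha_pos_sub hL (isPure_invertible (k := k) (n := 2) hX hO) (𝟙 _) hOc (not_isZero_invertible hO) hpO
  have hO1 := coeff_one_structure hX hL hK hpO
  have hμO : hatSlope 2 pO = 0 := by simp [hatSlope, alpha, hO1]
  have hdeg : ∀ {M : X.Modules}, Coh.IsCoh M → ∀ {p : ℚ[X]}, _root_.ShStab.IsHilbPoly k X L M p →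
      p.natDegree ≤ 2 := fun {M} hM {p} hp => natDegree_le hL.1 hM (dim_le hX M) hp
  have hαP0 : 0 < alpha 2 P := alpha_pos_sub hL hst.2.2.1 (𝟙 V) hVc hst.2.1 hP
  have hμP : hatSlope 2 P = 1 / 2 := by
    simp only [alpha, Nat.factorial_two] at hαP0; push_cast at hαP0
    have : P.coeff 2 ≠ 0 := by intro h; rw [h] at hαP0; linarith
    simp only [hatSlope, alpha, hc1, Nat.reduceSub, Nat.factorial_one, Nat.factorial_two]
    push_cast
    field_simp
  have hstable : ∀ {F : X.Modules} (ι : F ⟶ V) [Mono ι], Coh.IsCoh F → ¬ IsZero F →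
      ∀ {pF : ℚ[X]}, _root_.ShStab.IsHilbPoly k X L F pF → alpha 2 pF ≠ alpha 2 P →
        hatSlope 2 pF ≤ 1 / 2 := by
    intro F ι _ hF hF0 pF hpF hne
    rw [← hμP]
    refine slope_le_of_redLT (hdeg hF hpF) (hdeg hVc hP) (alpha_pos_sub hL hst.2.2.1 ι hF hF0 hpF)
      hαP0 (hst.2.2.2 F ι inferInstance hF hF0 (fun hi => hne ?_) pF P hpF hP)
    haveI := hi
    rw [isHilbPoly_unique hP (isHilbPoly_iso (asIso ι) hpF)]
  -- maps to invertible modules of slope at most zero
  have hhom : ∀ {H : X.Modules}, PicF.IsInvertible H → ∀ {pH : ℚ[X]}, _root_.ShStab.IsHilbPoly k X L H pH →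
      hatSlope 2 pH ≤ 0 → ∀ φ : V ⟶ H, φ = 0 := by
    intro H hH pH hpH hμH φ
    by_contra hφ
    have hHc := Groth.L18.Ample.isCoh_of_isInvertible hH
    haveI : Coh.IsQCoh H := hHc.1
    obtain ⟨hK', hI, -⟩ := coh_parts k hVc hHc φ
    have hI0 : ¬ IsZero (Abelian.image φ) := fun h => hφ (by
      rw [← Abelian.image.fac φ, h.eq_of_src (Abelian.image.ι φ) 0, Limits.comp_zero])
    haveI : Coh.IsQCoh (Abelian.image φ) := hI.1
    have hIη : Function.Surjective (RefHull.stalkMapₗ (Abelian.image.ι φ) η) := by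
      have htfI := isTorsionFree_of_mono (Abelian.image.ι φ) (torsionFree_of_invertible hH)
      letI : Field (X.presheaf.stalk η) := (inferInstance : Field X.functionField)
      obtain ⟨v, hv⟩ : ∃ v : (Abelian.image φ).presheaf.stalk η, v ≠ 0 := by
        by_contra! h
        refine hI0 ((IsZero.iff_id_eq_zero _).2 (Groth.L15.Ref.hom_ext_eta htfI (LinearMap.ext fun v => ?_)))
        rw [h v, map_zero, map_zero]
      obtain ⟨g, hg⟩ := Groth.L21.RR.exists_frame_stalk hH η
      obtain ⟨c, hc⟩ := hg.2 (RefHull.stalkMapₗ (Abelian.image.ι φ) η v)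
      change c • g = _ at hc
      have hinj : Function.Injective (RefHull.stalkMapₗ (Abelian.image.ι φ) η) :=
        (Groth.L21.Mod.mono_iff_stalk_injective (Abelian.image.ι φ)).1 inferInstance η
      have hc0 : c ≠ 0 := fun h => hv (hinj (by rw [← hc, h, zero_smul, map_zero]))
      intro z
      obtain ⟨d, rfl⟩ := hg.2 z
      refine ⟨(d * c⁻¹) • v, ?_⟩
      rw [map_smul, ← hc, smul_smul, mul_assoc, inv_mul_cancel₀ hc0, mul_one]
    obtain ⟨pK, hpK⟩ := exists_hilb (k := k) hL.1 hK' (dim_le hX _)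
    obtain ⟨pI, hpI⟩ := exists_hilb (k := k) hL.1 hI (dim_le hX _)
    obtain ⟨hαI, hμI⟩ := slope_le_of_mono hL h12 hX hI hHc (isPure_invertible (k := k) hX hH) hI0
      (Abelian.image.ι φ) hIη hpI hpH
    have hαI0 := alpha_pos_sub hL (isPure_invertible (k := k) (n := 2) hX hH) (Abelian.image.ι φ) hI hI0 hpI
    have hsum := hilb_kernel_image hL hVc hHc φ hP hpK hpI
    have h2 := congrArg (alpha 1) hsum
    have h2' := congrArg (alpha 2) hsum
    rw [PolyOrd.alpha_add] at h2 h2'
    simp only [hatSlope, Nat.reduceSub] at hμP hμI hμH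
    have hI1 : alpha 1 pI ≤ 0 := by
      have := hμI.trans hμH
      rwa [div_le_iff₀ hαI0, zero_mul] at this
    rw [div_eq_iff hαP0.ne'] at hμP
    by_cases hK0 : IsZero (kernel φ)
    · rw [isHilbPoly_unique hpK (isHilbPoly_zero hL.1 hK0)] at h2
      have : alpha 1 (0 : ℚ[X]) = 0 := by simp [alpha]
      rw [this] at h2
      linarith
    have hαK := alpha_pos_sub hL hst.2.2.1 (kernel.ι φ) hK' hK0 hpK
    have h1 := hstable (kernel.ι φ) hK' hK0 hpK (by linarith)
    simp only [hatSlope, Nat.reduceSub] at h1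
    rw [div_le_iff₀ hαK] at h1
    linarith
  -- a section of the twist
  have hLn := Groth.L18.Ample.isInvertible_tensorPow hL.1 n
  obtain ⟨L', hL', ⟨eL⟩⟩ := Groth.L08.Cube.exists_inverse hLn
  obtain ⟨pL', hpL'⟩ := exists_hilb (k := k) hL.1 (Groth.L18.Ample.isCoh_of_isInvertible hL') (dim_le hX _)
  have hμL' : hatSlope 2 pL' = -(n : ℚ) := by
    have h := hatSlope_twist hL h12 hX hL' (a := n) (b := 0) (tensorComm L' _ ≪≫ eL) hpL' hpO
    rw [hμO, Nat.cast_zero, add_zero] at h
    linarith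
  haveI := Groth.L22.PDual.isEquivalence_tensorRightF (L := L') (L' := CohB1.tensorPow L n) (tensorComm L' _ ≪≫ eL)
  haveI : (tensorRightF L').Additive := Functor.additive_of_preserves_binary_products _
  let W := _root_.ShStab.twist X L V n
  let back : (tensorRightF L').obj W ≅ V := tensorAssoc _ _ _ ≪≫ tensorIso (Iso.refl V) eL ≪≫ tensorUnitRight V
  have hW2 : Subsingleton (Coh.HH X W 2) := by
    refine exists_dualizing_to_structure hX hproj hK W (isCoh_tensor hLn hVc) fun φ => ?_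
    refine (tensorRightF L').map_injective ?_
    rw [Functor.map_zero, ← cancel_epi back.inv, ← cancel_mono (tensorUnitLeft L').hom, Limits.comp_zero,
      Limits.zero_comp]
    exact hhom hL' hpL' (by rw [hμL']; simp) _
  haveI := hW2
  haveI : Nontrivial (Coh.HH X W 0) := by
    have h0 := hP n
    rw [show _root_.ShStab.twist X L V n = W from rfl, euler_eq_sum (k := k) (N := 3)
      (fun q hq => Groth.L22.Inter.subsingleton_HH_of_dim hX.le W (by omega))] at h0
    simp only [Finset.sum_range_succ, Finset.sum_range_zero] at h0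
    rw [Module.finrank_zero_of_subsingleton (M := Coh.HH X W 2)] at h0
    push_cast at h0
    refine Module.nontrivial_of_finrank_pos (R := k) ?_
    by_contra hz
    rw [Nat.le_zero.1 (not_lt.1 hz)] at h0
    have : (0 : ℚ) ≤ (Module.finrank k (Coh.HH X W 1) : ℚ) := Nat.cast_nonneg _
    push_cast at h0
    linarith
  obtain ⟨σ, hσ⟩ := Groth.L21.RR.exists_hom_ne_zero (L := W)
  let s : L' ⟶ V := (tensorUnitLeft L').inv ≫ (tensorRightF L').map σ ≫ back.hom
  have hs : s ≠ 0 := fun h => hσ ((tensorRightF L').map_injective (by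
    rw [Functor.map_zero, ← cancel_epi (tensorUnitLeft L').inv, ← cancel_mono back.hom, Limits.comp_zero,
      Limits.zero_comp, Category.assoc]
    exact h))
  haveI : Mono s := Rank2.mono_of_ne_zero hL' hVtf hs
  have hL'c := Groth.L18.Ample.isCoh_of_isInvertible hL'
  -- the saturation
  let Q := cokernel s
  have hQ : Coh.IsCoh Q := (coh_parts k hL'c hVc s).2.2
  haveI : Coh.IsQCoh Q := hQ.1
  have hDQ : Coh.IsCoh (RefHull.ddual Q) := Groth.L15.Ref.isCoh_dual (Groth.L15.Ref.isCoh_dual hQ)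
  haveI : Coh.IsQCoh (RefHull.ddual Q) := hDQ.1
  let q : V ⟶ RefHull.ddual Q := cokernel.π s ≫ RefHull.bidualMap Q
  let l : L' ⟶ kernel q := kernel.lift q s (by simp [q])
  have hlι : l ≫ kernel.ι q = s := kernel.lift_ι _ _ _
  haveI : Mono l := mono_of_mono_fac hlι
  obtain ⟨hM, hN, -⟩ := coh_parts k hVc hDQ q
  haveI : Coh.IsQCoh (kernel q) := hM.1
  haveI : Coh.IsQCoh (Abelian.image q) := hN.1
  have hιM : Function.Injective (RefHull.stalkMapₗ (kernel.ι q) η) :=
    (Groth.L21.Mod.mono_iff_stalk_injective (kernel.ι q)).1 inferInstance η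
  have hqker : ∀ v, RefHull.stalkMapₗ q η v = 0 → ∃ c, RefHull.stalkMapₗ s η c = v := fun v h1 => by
    have h1' : RefHull.stalkMapₗ (RefHull.bidualMap Q) η (RefHull.stalkMapₗ (cokernel.π s) η v) = 0 := by
      refine Eq.trans ?_ h1
      rw [← LinearMap.comp_apply, ← stalkMapₗ_comp]
    have h2 := Groth.L15.Ref.bidual_eta_injective hQ (h1'.trans (map_zero _).symm)
    have hS : (ShortComplex.mk s (cokernel.π s) (cokernel.condition s)).ShortExact :=
      { exact := ShortComplex.exact_cokernel s }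
    exact (ShortComplex.ab_exact_iff _).1 (hS.map_of_exact (Groth.L21.Mod.stalkF X η)).exact _ h2
  have hlη : Function.Surjective (RefHull.stalkMapₗ l η) := by
    intro v
    have h1 : RefHull.stalkMapₗ q η (RefHull.stalkMapₗ (kernel.ι q) η v) = 0 := by
      rw [← LinearMap.comp_apply, ← stalkMapₗ_comp, kernel.condition]
      exact Rank2.stalkMapₗ_zero _ v
    obtain ⟨c, hc⟩ := hqker _ h1
    refine ⟨c, hιM ?_⟩
    rw [← LinearMap.comp_apply, ← stalkMapₗ_comp, hlι]
    exact hc
  letI : Field (X.presheaf.stalk η) := (inferInstance : Field X.functionField)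
  obtain ⟨e, he⟩ := Groth.L21.RR.exists_frame_stalk hL' η
  have hMtf := isTorsionFree_of_mono (kernel.ι q) hVtf
  have he0 : RefHull.stalkMapₗ l η e ≠ 0 := fun h => by
    have h1 : e = 0 := (Groth.L21.Mod.mono_iff_stalk_injective l).1 inferInstance η (h.trans (map_zero _).symm)
    exact one_ne_zero (α := X.presheaf.stalk η) (he.1 (by simp [h1]))
  have hMspan : ∀ v, ∃ c : X.presheaf.stalk η, c • RefHull.stalkMapₗ l η e = v := fun v => by
    obtain ⟨w, rfl⟩ := hlη v
    obtain ⟨c, rfl⟩ := he.2 w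
    exact ⟨c, (map_smul _ c e).symm⟩
  obtain ⟨HM, bM, hHM, hbMmono, hbMη, -, hαM', hextM⟩ :=
    exists_rank_one_hull (k := k) hX hreg hL hM hMtf _ he0 hMspan
  -- the quotient has rank one
  have hNtf : ∀ x, Module.IsTorsionFree (X.presheaf.stalk x) ((Abelian.image q).presheaf.stalk x) :=
    isTorsionFree_of_mono (Abelian.image.ι q)
      (Groth.L15.Ref.isTorsionFree_stalk hDQ (Groth.L15.Ref.isReflexive_ddual hQ))
  obtain ⟨bV⟩ := RankOneEndo.exists_basis hV η
  haveI : Module.Finite (X.presheaf.stalk η) (V.presheaf.stalk η) := Module.Finite.of_basis bV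
  let qη := RefHull.stalkMapₗ (Abelian.factorThruImage q) η
  have hqη : Function.Surjective qη :=
    (Groth.L21.Mod.epi_iff_stalk_surjective (Abelian.factorThruImage q)).1 inferInstance η
  have hkerq : LinearMap.ker qη = Submodule.span (X.presheaf.stalk η) {RefHull.stalkMapₗ s η e} := by
    refine le_antisymm (fun v hv => ?_) (Submodule.span_le.2 (Set.singleton_subset_iff.2 (LinearMap.mem_ker.2 ?_)))
    · have h1 : RefHull.stalkMapₗ q η v = 0 := by
        have : RefHull.stalkMapₗ (Abelian.image.ι q) η (qη v) = 0 := by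
          rw [LinearMap.mem_ker.1 hv, map_zero]
        refine Eq.trans ?_ this
        rw [← LinearMap.comp_apply, ← stalkMapₗ_comp, Abelian.image.fac]
      obtain ⟨w, rfl⟩ := hqker v h1
      obtain ⟨c, rfl⟩ := he.2 w
      exact Submodule.mem_span_singleton.2 ⟨c, (map_smul _ c e).symm⟩
    · have : s ≫ Abelian.factorThruImage q = 0 := by
        rw [← cancel_mono (Abelian.image.ι q), Category.assoc, Abelian.image.fac, Limits.zero_comp, ← hlι,
          Category.assoc, kernel.condition, Limits.comp_zero]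
      show RefHull.stalkMapₗ (Abelian.factorThruImage q) η (RefHull.stalkMapₗ s η e) = 0
      rw [← LinearMap.comp_apply, ← stalkMapₗ_comp, this]
      exact Rank2.stalkMapₗ_zero _ e
  have hse : RefHull.stalkMapₗ s η e ≠ 0 := fun h => he0 (hιM (by
    rw [map_zero, ← LinearMap.comp_apply, ← stalkMapₗ_comp, hlι]; exact h))
  have hrankN : Module.finrank (X.presheaf.stalk η) ((Abelian.image q).presheaf.stalk η) = 1 := by
    have h := qη.finrank_range_add_finrank_ker
    rw [LinearMap.range_eq_top.2 hqη, finrank_top, hkerq, finrank_span_singleton hse,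
      Module.finrank_eq_card_basis bV, Fintype.card_fin] at h
    omega
  obtain ⟨uN, huN0, huN⟩ := finrank_eq_one_iff'.1 hrankN
  obtain ⟨HN, bN, hHN, hbNmono, -, hCN, hαN', -⟩ := exists_rank_one_hull (k := k) hX hreg hL hN hNtf uN huN0 huN
  obtain ⟨pM, hpM⟩ := exists_hilb (k := k) hL.1 hM (dim_le hX _)
  obtain ⟨pN, hpN⟩ := exists_hilb (k := k) hL.1 hN (dim_le hX _)
  obtain ⟨pHM, hpHM⟩ := exists_hilb (k := k) hL.1 (Groth.L18.Ample.isCoh_of_isInvertible hHM) (dim_le hX _)
  obtain ⟨pHN, hpHN⟩ := exists_hilb (k := k) hL.1 (Groth.L18.Ample.isCoh_of_isInvertible hHN) (dim_le hX _)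
  obtain ⟨hαM2, hαM1⟩ := hαM' hpM hpHM
  obtain ⟨hαN2, hαN1⟩ := hαN' hpN hpHN
  obtain ⟨hαHM, hcM⟩ := slope_invertible hX hL hgen hHM hpHM hpO
  obtain ⟨hαHN, hcN⟩ := slope_invertible hX hL hgen hHN hpHN hpO
  have hsum := hilb_kernel_image hL hVc hDQ q hP hpM hpN
  have hαP : alpha 2 P = 2 * alpha 2 pO := by
    rw [hsum, PolyOrd.alpha_add, hαM2, hαHM, hαN2, hαHN]; ring
  have hμN : hatSlope 2 pHN = 1 - hatSlope 2 pHM := by
    have h2 := congrArg (alpha 1) hsum
    rw [PolyOrd.alpha_add] at h2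
    simp only [hatSlope, Nat.reduceSub] at hμP
    rw [div_eq_iff hαP0.ne'] at hμP
    simp only [hatSlope, Nat.reduceSub, hαHN, hαHM, ← hαM1, ← hαN1]
    rw [eq_sub_iff_add_eq, ← add_div, div_eq_one_iff_eq hαO.ne']
    linarith
  have hμM : hatSlope 2 pHM ≤ 1 / 2 := by
    have := hstable (kernel.ι q) hM (fun h => not_isZero_invertible hL' (IsZero.of_mono l h)) hpM
      (by rw [hαM2, hαHM, hαP]; linarith)
    simp only [hatSlope, Nat.reduceSub, hαM2, hαM1] at this
    exact this
  have hμMn : -(n : ℚ) ≤ hatSlope 2 pHM := by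
    obtain ⟨-, h⟩ := slope_le_of_mono hL h12 hX hL'c hM (isPure_sub hst.2.2.1 (kernel.ι q))
      (not_isZero_invertible hL') l hlη hpL' hpM
    rw [hμL'] at h
    simp only [hatSlope, Nat.reduceSub, hαM2, hαM1] at h
    exact h
  obtain ⟨m, eM, hμm⟩ : ∃ m : ℕ, Nonempty (CohB1.tensorMod HM (CohB1.tensorPow L m) ≅ Coh.structureModule X) ∧
      hatSlope 2 pHM = -(m : ℚ) := by
    rcases hcM with ⟨m, ⟨e'⟩, h⟩ | ⟨m, e', h⟩
    · rw [hμO, zero_add] at h
      have h1 : (m : ℚ) < 1 := by linarith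
      have h2 : m = 0 := by
        have : m < 1 := by exact_mod_cast h1
        omega
      subst h2
      exact ⟨0, ⟨tensorUnitRight _ ≪≫ e'⟩, by simpa using h⟩
    · exact ⟨m, e', by rw [h, hμO, zero_sub]⟩
  have hmn : m ≤ n := by
    have : (m : ℚ) ≤ n := by linarith
    exact_mod_cast this
  obtain ⟨eN⟩ : Nonempty (HN ≅ CohB1.tensorPow L (m + 1)) := by
    rcases hcN with ⟨j, ⟨e'⟩, h⟩ | ⟨j, e', h⟩
    · rw [hμO, zero_add, hμN, hμm] at h
      have hj : j = m + 1 := by
        have : (j : ℚ) = ((m + 1 : ℕ) : ℚ) := by push_cast; linarith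
        exact_mod_cast this
      subst hj
      exact ⟨e'⟩
    · rw [hμO, hμN, hμm] at h
      have : (0 : ℚ) ≤ j := Nat.cast_nonneg j
      have : (0 : ℚ) ≤ m := Nat.cast_nonneg m
      linarith
  -- the kernel is a line bundle
  haveI := hbMmono
  haveI : Coh.IsQCoh HM := (Groth.L18.Ample.isCoh_of_isInvertible hHM).1
  obtain ⟨g, hg⟩ := hextM hVc (Rank2.isReflexive_of_rank hVc hV) (kernel.ι q)
  have hDQtf := Groth.L15.Ref.isTorsionFree_stalk hDQ (Groth.L15.Ref.isReflexive_ddual hQ)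
  have hgq : g ≫ q = 0 := by
    refine Groth.L15.Ref.hom_ext_eta hDQtf (LinearMap.ext fun v => ?_)
    obtain ⟨w, rfl⟩ := hbMη v
    rw [← LinearMap.comp_apply, ← stalkMapₗ_comp, reassoc_of% hg, kernel.condition]
    exact (Rank2.stalkMapₗ_zero _ w).trans (Rank2.stalkMapₗ_zero _ _).symm
  let r : HM ⟶ kernel q := kernel.lift q g hgq
  have hbr : bM ≫ r = 𝟙 _ := by
    rw [← cancel_mono (kernel.ι q), Category.assoc, kernel.lift_ι, hg, Category.id_comp]
  have hrb : r ≫ bM = 𝟙 _ := by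
    refine Groth.L15.Ref.hom_ext_eta (torsionFree_of_invertible hHM) (LinearMap.ext fun v => ?_)
    obtain ⟨w, rfl⟩ := hbMη v
    rw [← LinearMap.comp_apply, ← stalkMapₗ_comp, reassoc_of% hbr, Groth.L15.Ref.stalkMapₗ_id,
      LinearMap.id_apply]
  let eMM : kernel q ≅ HM := ⟨bM, r, hbr, hrb⟩
  haveI := hbNmono
  have w : g ≫ Abelian.factorThruImage q = 0 := by
    rw [← cancel_mono (Abelian.image.ι q), Category.assoc, Abelian.image.fac, Limits.zero_comp, hgq]
  obtain ⟨eM⟩ := eM
  refine ⟨m, hmn, HM, hHM, ?_, Abelian.image q, bN ≫ eN.hom, mono_comp _ _, hN, ?_, g,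
    Abelian.factorThruImage q, w, ?_⟩
  · refine Subtype.ext ?_
    rw [PicGrp.mul_val, PicGrp.cls_val, PicGrp.cls_pow_val, PicGrp.mulCl_cl, PicGrp.one_val]
    exact (PicGrp.cl_eq_cl_iff _ _).2 ⟨eM⟩
  · have := (topologicalKrullDim_set_mono
      (Groth.L21.Mod.support_mono (cokernelCompIsIso bN eN.hom).hom)).trans hCN
    simpa using this
  · have h0 := Groth.L16.Devissage.shortExact_kernel_image q
    refine ShortComplex.shortExact_of_iso ?_ h0
    refine ShortComplex.isoMk eMM (Iso.refl _) (Iso.refl _) ?_ ?_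
    · simp [eMM, hg]
    · simp

end Groth.L03.ShStab.K3Rank2
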