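import Groth.Agent.L03.ShStab.GeneralSections
import Groth.Agent.L03.Euler.Twist
import Groth.Agent.L16.ProjSpace.TwistMul
import Groth.Agent.L16.ProjSpace.Dim
import Groth.Agent.L16.ProjSpace.QuotTwist
import Groth.Agent.L22.Reg.Mult
import Groth.Agent.L29.LocFree

/-!
# A bundle of large rank on projective space has a twisted trivial subbundle
-/

set_option autoImplicit false
set_option backward.isDefEq.respectTransparency false
set_option linter.style.haveILetI false

universe u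

open CategoryTheory CategoryTheory.Limits AlgebraicGeometry TopologicalSpace MvPolynomial

noncomputable section

namespace Groth.L03.ShStab.TwistSubbundle

open Groth.L00.Tensor (tensorRightF tensorIso tensorRestrict tensorUnitLeft tensorUnitRight tensorComm)

/-- Twisting by an invertible module keeps the rank. -/
theorem isFinLocFreeOfRank_tensor {X : Scheme.{u}} {E L : X.Modules} {r : ℕ} (hE : FlatMod.IsFinLocFreeOfRank r E)
    (hL : PicF.IsInvertible L) : FlatMod.IsFinLocFreeOfRank r (CohB1.tensorMod E L) := fun x => by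
  obtain ⟨U, hxU, ⟨i⟩⟩ := hE x
  obtain ⟨V, hxV, ⟨j⟩⟩ := hL x
  obtain ⟨i'⟩ := Groth.L29.LocFree.restrict_le (inf_le_left : U ⊓ V ≤ U) i
  obtain ⟨j'⟩ := Groth.L29.LocFree.restrict_le (inf_le_right : U ⊓ V ≤ V) (n := 1)
    (j ≪≫ (coproductUniqueIso (fun _ : Fin 1 => Coh.structureModule V.toScheme)).symm)
  exact ⟨U ⊓ V, ⟨hxU, hxV⟩, ⟨(tensorRestrict _ E L).symm ≪≫
    tensorIso i' (j' ≪≫ coproductUniqueIso (fun _ : Fin 1 => Coh.structureModule (U ⊓ V).toScheme)) ≪≫
    tensorUnitRight _⟩⟩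

variable {k : Type u} [Field k] {n : ℕ}

theorem nonempty_twist_inverse (q : ℤ) :
    Nonempty (CohB1.tensorMod (Twist.twistProjSpace n k q) (Twist.twistProjSpace n k (-q)) ≅
      Coh.structureModule (CohB1.ProjSpace n k)) := by
  have cover : ∀ x : Proj (CohB1.polyGrading n k),
      ∃ f : CohB1.polyGrading n k 1, x ∈ Proj.basicOpen (CohB1.polyGrading n k) f.1 := fun x => by
    obtain ⟨i, hi⟩ := Groth.L16.ProjSpace.exists_mem_basicOpen_X n k x
    exact ⟨⟨X i, isHomogeneous_X k i⟩, hi⟩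
  obtain ⟨m⟩ := Groth.L16.ProjTwist.nonempty_tensor_twist_iso_one (CohB1.polyGrading n k) cover q (-q)
  obtain ⟨z⟩ := Groth.L16.ProjTwist.nonempty_twist_zero_iso (CohB1.polyGrading n k)
  exact ⟨m ≪≫ eqToIso (by rw [add_neg_cancel]) ≪≫ z⟩

theorem main [Infinite k] {r : ℕ} (hnr : n ≤ r) {E : (CohB1.ProjSpace n k).Modules}
    (hE : FlatMod.IsFinLocFreeOfRank r E) (hcoh : Coh.IsCoh E) :
    ∃ (a : ℤ) (φ : (∐ fun _ : Fin (r - n) => Twist.twistProjSpace n k a) ⟶ E),
      Mono φ ∧ FlatMod.IsFinLocFreeOfRank n (cokernel φ) := by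
  letI : (CohB1.ProjSpace n k).Over (Spec (CommRingCat.of k)) := ⟨CohB1.ProjSpace.toSpec n k⟩
  haveI : IsProper (CohB1.ProjSpace n k ↘ Spec (CommRingCat.of k)) :=
    (inferInstance : IsProper (CohB1.ProjSpace.toSpec n k))
  haveI : CompactSpace (CohB1.ProjSpace n k) :=
    QuasiCompact.compactSpace_of_compactSpace (CohB1.ProjSpace.toSpec n k)
  obtain ⟨d, hd, ι, hι, f, hf⟩ := Groth.L16.ProjTwist.exists_cover_common_degree (CohB1.polyGrading n k)
  haveI := hι
  obtain ⟨n₀, h⟩ := @Groth.L16.ProjTwist.exists_epi_neg_twists _ _ _ _ _ (CohB1.polyGrading n k) _ d _ f hι hd hf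
    E hcoh.1 hcoh.2
  obtain ⟨N, p, hp⟩ := h n₀ le_rfl
  let q : ℤ := ((n₀ * d : ℕ) : ℤ)
  haveI := hp
  obtain ⟨e₁⟩ := nonempty_twist_inverse (k := k) (n := n) q
  let eI := tensorComm (Twist.twistProjSpace n k (-q)) (Twist.twistProjSpace n k q) ≪≫ e₁
  have hinv : ∀ m : ℤ, PicF.IsInvertible (Twist.twistProjSpace n k m) :=
    fun m => Groth.L16.ProjTwist.isInvertible_twistProjSpace n k m
  let F := tensorRightF (Twist.twistProjSpace n k q)
  let G := tensorRightF (Twist.twistProjSpace n k (-q))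
  haveI : PreservesColimits F := Groth.L00.Tensor.preservesColimits_tensorRightF _
  haveI : PreservesColimits G := Groth.L00.Tensor.preservesColimits_tensorRightF _
  let φ₀ : FlatMod.freeMod (CohB1.ProjSpace n k) N ⟶ F.obj E :=
    (Sigma.mapIso fun _ : Fin N => eI).inv ≫ (PreservesCoproduct.iso F _).inv ≫ F.map p
  haveI : Epi φ₀ := by
    haveI : Epi (F.map p) := inferInstance
    exact epi_comp' inferInstance (epi_comp' inferInstance inferInstance)
  obtain ⟨ψ, hψ, hrk⟩ := Groth.L03.ShStab.GeneralSections.main k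
    (isFinLocFreeOfRank_tensor hE (hinv q)) φ₀
    (Groth.L16.ProjSpace.topologicalKrullDim_eq_of_field (n := n) k).le hnr
  refine ⟨-q, (Sigma.mapIso fun _ : Fin (r - n) => (tensorUnitLeft _).symm).hom ≫
    (PreservesCoproduct.iso G _).inv ≫ G.map ψ ≫ (Groth.L22.Reg.cI e₁ E).hom, ?_, ?_⟩
  · haveI : Mono ψ := hψ
    have hse : (ShortComplex.mk ψ (cokernel.π ψ) (cokernel.condition ψ)).ShortExact :=
      { exact := ShortComplex.exact_cokernel ψ }
    haveI : Mono (G.map ψ) := (Groth.L03.Euler.shortExact_tensor (hinv (-q)) hse).mono_f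
    infer_instance
  · refine fun x => ?_
    obtain ⟨U, hx, ⟨i⟩⟩ := isFinLocFreeOfRank_tensor hrk (hinv (-q)) x
    refine ⟨U, hx, ⟨(Scheme.Modules.restrictFunctor U.ι).mapIso ?_ ≪≫ i⟩⟩
    exact cokernelEpiComp _ _ ≪≫ cokernelEpiComp _ _ ≪≫ cokernelCompIsIso _ _ ≪≫
      (PreservesCokernel.iso G ψ).symm

end Groth.L03.ShStab.TwistSubbundle
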