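import Groth.Agent.L03.ShStab.Rank2Kernel
import Groth.Agent.L22.PDual.Pairing
import Groth.Agent.L22.Reg.PnGen
import Groth.Agent.L20.PnPic.Main
import Groth.Agent.L08.Cube.SmoothStalk
import Groth.Agent.L21.RR.Sections
import Groth.Agent.L03.ShStab.GeneralSections
import Groth.Agent.L03.ShStab.TwistSubbundle

/-!
# Bundles of rank two on projective space: stability and simplicity
-/

set_option autoImplicit false
set_option backward.isDefEq.respectTransparency false
set_option linter.style.haveILetI false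

universe u

open CategoryTheory CategoryTheory.Limits AlgebraicGeometry TopologicalSpace Opposite MvPolynomial

noncomputable section

namespace Groth.L03.ShStab.Rank2

open Groth.L18.Frame (ro)
open Groth.L22.Reg (O' cI cI_natural)
open Groth.L00.Tensor (tensorMap tensorIso tensorComm tensorRightF)
open Groth.L03.ShStab.Scalar (sc)
open Groth.L22

section General

variable {X : Scheme.{u}}

theorem sc_comp (M : X.Modules) (a b : Γ(X, ⊤)) : sc M a ≫ sc M b = sc M (b * a) := by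
  apply Scheme.Modules.hom_ext
  intro U
  ext s
  show (sc M b).app U ((sc M a).app U s) = _
  rw [sc_app, sc_app, sc_app, smul_smul, ← map_mul]

theorem sc_one (M : X.Modules) : sc M 1 = 𝟙 M := by
  apply Scheme.Modules.hom_ext
  intro U
  ext s
  rw [sc_app, show ro (le_top : U ≤ ⊤) (1 : Γ(X, ⊤)) = 1 from map_one (X.presheaf.map (homOfLE (le_top : U ≤ ⊤)).op).hom, one_smul]
  rfl

theorem sc_zero (M : X.Modules) : sc M 0 = 0 := by
  apply Scheme.Modules.hom_ext
  intro U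
  ext s
  rw [sc_app, show ro (le_top : U ≤ ⊤) (0 : Γ(X, ⊤)) = 0 from map_zero (X.presheaf.map (homOfLE (le_top : U ≤ ⊤)).op).hom, zero_smul]
  rfl

theorem isIso_sc (M : X.Modules) {a : Γ(X, ⊤)} (ha : IsUnit a) : IsIso (sc M a) := by
  obtain ⟨b, hb⟩ := ha.exists_left_inv
  exact ⟨sc M b, by rw [sc_comp, hb, sc_one], by rw [sc_comp, mul_comm, hb, sc_one]⟩

theorem toSheaf_map_sc (M : X.Modules) (a : Γ(X, ⊤)) :
    (SheafOfModules.toSheaf X.ringCatSheaf).map (sc M a) = Coh.smulAb M a := rfl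

/-- Tensoring with a module having an inverse is faithful. -/
theorem tensorMap_ne_zero {N L : X.Modules} (e : CohB1.tensorMod N L ≅ Coh.structureModule X) {A B : X.Modules}
    {g : A ⟶ B} (hg : g ≠ 0) : tensorMap g (𝟙 N) ≠ 0 := fun h => hg (by
  haveI : PreservesColimits (tensorRightF L) := Groth.L00.Tensor.preservesColimits_tensorRightF _
  have h1 := cI_natural e g
  rw [h, Functor.map_zero, Limits.zero_comp] at h1
  rw [← cancel_epi (cI e A).hom, ← h1, Limits.comp_zero])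

theorem not_subsingleton_H0 {L : X.Modules} {s : Coh.structureModule X ⟶ L} (hs : s ≠ 0) :
    ¬ Subsingleton (Coh.HH X L 0) := fun h => hs (by
  refine GeneralSections.hom_ext_one ((Groth.L21.RR.e0 L).symm.injective ?_)
  exact Subsingleton.elim (α := Coh.HH X L 0) _ _)

variable [IsIntegral X] [IsLocallyNoetherian X]

/-- An endomorphism through a line bundle is not a scalar. -/
theorem comp_ne_sc (hconst : ∀ a : Γ(X, ⊤), a ≠ 0 → IsUnit a) {E M : X.Modules} {r : ℕ} (hr : 1 < r)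
    (hE : FlatMod.IsFinLocFreeOfRank r E) (hM : PicF.IsInvertible M) {t : E ⟶ M} (ht : t ≠ 0) {s : M ⟶ E}
    (hs : s ≠ 0) (a : Γ(X, ⊤)) : t ≫ s ≠ sc E a := by
  intro h
  haveI := isQCoh_of_rank hE
  haveI := mono_of_ne_zero hM (torsionFree_of_rank hE) hs
  by_cases ha : a = 0
  · refine ht ((cancel_mono s).1 ?_)
    rw [h, ha, sc_zero, Limits.zero_comp]
  haveI := isIso_sc E (hconst a ha)
  haveI : IsIso (t ≫ s) := by rw [h]; infer_instance
  haveI : Mono t := mono_of_mono t s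
  obtain ⟨b⟩ := RankOneEndo.exists_basis hE (genericPoint ↥X)
  obtain ⟨e, he⟩ := Groth.L21.RR.exists_frame_stalk hM (genericPoint ↥X)
  have hinj : Function.Injective (RefHull.stalkMapₗ t (genericPoint ↥X)) :=
    (Groth.L21.Mod.mono_iff_stalk_injective t).1 inferInstance _
  let em := LinearEquiv.ofBijective
    (LinearMap.toSpanSingleton (X.presheaf.stalk (genericPoint ↥X)) (M.presheaf.stalk (genericPoint ↥X)) e) he
  have h1 := LinearMap.finrank_le_finrank_of_injective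
    (f := (em.symm.toLinearMap.comp (RefHull.stalkMapₗ t (genericPoint ↥X))).comp b.equivFun.symm.toLinearMap)
    (em.symm.injective.comp (hinj.comp b.equivFun.symm.injective))
  rw [Module.finrank_fin_fun, Module.finrank_self] at h1
  omega

end General

variable {k : Type u} [Field k] {n : ℕ}

theorem const_unit (a : Γ(CohB1.ProjSpace n k, ⊤)) (ha : a ≠ 0) : IsUnit a := by
  obtain ⟨c, hc⟩ := (Groth.L16.ProjSpace.toGlobal_bijective (n := n) (R := k)).2 a
  have hc0 : IsUnit c := isUnit_iff_ne_zero.2 fun h => ha (by rw [← hc, h]; exact map_zero _)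
  exact hc ▸ hc0.map (Coh.toGlobal (CohB1.ProjSpace.toSpec n k))

theorem regular_stalk (x : CohB1.ProjSpace n k) :
    IsRegularLocalRing ((CohB1.ProjSpace n k).presheaf.stalk x) :=
  Groth.L08.Cube.isRegularLocalRing_of_smooth (CohB1.ProjSpace.toSpec n k) x

theorem exists_mul_ne_zero {a b : ℤ} (h : a ≤ b) : ∃ μ : O' n k a ⟶ O' n k b, μ ≠ 0 := by
  obtain ⟨m, rfl⟩ : ∃ m : ℕ, b = a + m := ⟨(b - a).toNat, by omega⟩
  exact ⟨SyzTilde.mulHom (p := (MvPolynomial.X 0) ^ m) (δ := (m : ℤ))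
    (SyzTilde.mem_G_cast.2 (by simpa using SetLike.pow_mem_graded m (Groth.L16.ProjSpace.X_mem n k 0))) rfl,
    Groth.L22.PDual.mulHom_ne_zero _ _ (pow_ne_zero m (MvPolynomial.X_ne_zero 0))⟩

variable {E : (CohB1.ProjSpace n k).Modules}

theorem exists_hom_of_H0 [IsIntegral (CohB1.ProjSpace n k)] {q : ℤ}
    (h : ¬ Subsingleton (Coh.HH (CohB1.ProjSpace n k) (CohB1.tensorMod E (O' n k q)) 0)) :
    ∃ s : O' n k (-q) ⟶ E, s ≠ 0 := by
  haveI := not_subsingleton_iff_nontrivial.1 h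
  obtain ⟨σ, hσ⟩ := Groth.L21.RR.exists_hom_ne_zero (L := CohB1.tensorMod E (O' n k q))
  obtain ⟨e⟩ := TwistSubbundle.nonempty_twist_inverse (k := k) (n := n) q
  refine ⟨(Groth.L00.Tensor.tensorUnitLeft _).inv ≫ tensorMap σ (𝟙 _) ≫ (cI e E).hom, fun h0 => ?_⟩
  refine tensorMap_ne_zero (tensorComm _ _ ≪≫ e) hσ ?_
  rwa [← cancel_mono (cI e E).hom, ← cancel_epi (Groth.L00.Tensor.tensorUnitLeft (O' n k (-q))).inv,
    Limits.zero_comp, Limits.comp_zero]

theorem not_subsingleton_of_hom [IsIntegral (CohB1.ProjSpace n k)] [IsLocallyNoetherian (CohB1.ProjSpace n k)]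
    (hE : FlatMod.IsFinLocFreeOfRank 2 E) {q b : ℤ} (hb : -q ≤ b) {s : O' n k b ⟶ E} (hs : s ≠ 0) :
    ¬ Subsingleton (Coh.HH (CohB1.ProjSpace n k) (CohB1.tensorMod E (O' n k q)) 0) := by
  haveI := isQCoh_of_rank hE
  haveI := mono_of_ne_zero (Groth.L16.ProjTwist.isInvertible_twistProjSpace n k b) (torsionFree_of_rank hE) hs
  obtain ⟨μ, hμ⟩ := exists_mul_ne_zero (k := k) (n := n) hb
  have hne : μ ≫ s ≠ 0 := fun h => hμ ((cancel_mono s).1 (by rw [h, Limits.zero_comp]))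
  obtain ⟨e⟩ := TwistSubbundle.nonempty_twist_inverse (k := k) (n := n) q
  refine not_subsingleton_H0 (s := (tensorComm _ _ ≪≫ e).inv ≫ tensorMap (μ ≫ s) (𝟙 (O' n k q))) fun h0 => ?_
  refine tensorMap_ne_zero (N := O' n k q) e hne ?_
  rwa [← cancel_epi (tensorComm (O' n k (-q)) (O' n k q) ≪≫ e).inv, Limits.comp_zero]

theorem exists_twist_inverse (a : ℤ) :
    Nonempty (CohB1.tensorMod (O' n k a) (O' n k (-a)) ≅ Coh.structureModule (CohB1.ProjSpace n k)) :=
  TwistSubbundle.nonempty_twist_inverse a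

variable [IsIntegral (CohB1.ProjSpace n k)] [IsLocallyNoetherian (CohB1.ProjSpace n k)]
variable (hE : FlatMod.IsFinLocFreeOfRank 2 E) {L : (CohB1.ProjSpace n k).Modules} {c : ℤ}
  (hL : ExtPow.IsExtPow 2 E L) (ξ : L ≅ O' n k c)

include hE hL ξ in
/-- A section of the normalised twist makes the bundle non-simple. -/
theorem exists_not_sc {k₀ : ℤ} (hk : c + 2 * k₀ ≤ 0) {s : O' n k (-k₀) ⟶ E} (hs : s ≠ 0) :
    ∃ ψ : E ⟶ E, ∀ a : Γ(CohB1.ProjSpace n k, ⊤), ψ ≠ sc E a := by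
  obtain ⟨φ, hφ⟩ := hL
  obtain ⟨u, hu⟩ := exists_pairing φ hφ s
  have hu0 := pairing_ne_zero φ hE hs hu
  obtain ⟨e⟩ := exists_twist_inverse (k := k) (n := n) (-k₀)
  obtain ⟨μ, hμ⟩ := exists_mul_ne_zero (k := k) (n := n) (show c + -(-k₀) ≤ -k₀ by omega)
  obtain ⟨j⟩ := Groth.L22.Reg.nonempty_O_add (n := n) (R := k) (show c + -(-k₀) = c + -(-k₀) from rfl)
  let i := tensorIso ξ (Iso.refl (O' n k (-(-k₀)))) ≪≫ j
  haveI : Coh.IsQCoh (O' n k (-k₀)) := (Groth.L22.PDual.isCoh_O (-k₀)).1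
  have hinvμ : Mono μ := mono_of_ne_zero (Groth.L16.ProjTwist.isInvertible_twistProjSpace n k _)
    (fun x => by
      obtain ⟨b, hb⟩ := Groth.L21.RR.exists_frame_stalk (Groth.L16.ProjTwist.isInvertible_twistProjSpace n k (-k₀)) x
      exact (LinearEquiv.ofBijective (LinearMap.toSpanSingleton _ _ b) hb).symm.injective.moduleIsTorsionFree _
        fun r v => map_smul _ r v) hμ
  let t := (cI e E).inv ≫ tensorMap u (𝟙 _) ≫ i.hom ≫ μ
  have ht : t ≠ 0 := fun h0 => by
    refine tensorMap_ne_zero (tensorComm _ _ ≪≫ e) hu0 ?_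
    have h1 : tensorMap u (𝟙 (O' n k (-(-k₀)))) ≫ i.hom ≫ μ = 0 := by
      rw [← cancel_epi (cI e E).inv, Limits.comp_zero]; exact h0
    rwa [← cancel_mono (i.hom ≫ μ), Limits.zero_comp]
  exact ⟨t ≫ s, comp_ne_sc const_unit one_lt_two hE (Groth.L16.ProjTwist.isInvertible_twistProjSpace n k _) ht hs⟩

include hE hL ξ in
/-- Without sections of the normalised twist every nonzero endomorphism is invertible. -/
theorem isIso_of_ne_zero (hcoh : Coh.IsCoh E) {k₀ : ℤ} (hk : -1 ≤ c + 2 * k₀)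
    (h0 : Subsingleton (Coh.HH (CohB1.ProjSpace n k) (CohB1.tensorMod E (O' n k k₀)) 0))
    (ψ : E ⟶ E) (hψ : ψ ≠ 0) : IsIso ψ := by
  obtain ⟨φ, hφ⟩ := hL
  obtain ⟨a, d, h1, h2⟩ := exists_adjugate φ hφ hE ψ
  by_cases hd : d = 0
  · by_cases hg : sc E a - ψ = 0
    · rw [sub_eq_zero] at hg
      rw [← hg]
      exact isIso_sc E (const_unit a fun ha => hψ (by rw [← hg, ha, sc_zero]))
    exfalso
    rw [hd, sc_zero] at h1
    obtain ⟨K, ι, t, hK, hι, ht⟩ := exists_line regular_stalk hcoh hE hψ hg h1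
    obtain ⟨b, ⟨eK⟩⟩ := Groth.L20.PnPic.exists_iso_twist (n := n) (R := k) K hK
    have hs1 : eK.inv ≫ ι ≠ 0 := fun h => hι (by rw [← cancel_epi eK.inv, h, Limits.comp_zero])
    have ht1 : t ≫ eK.hom ≠ 0 := fun h => ht (by rw [← cancel_mono eK.hom, h, Limits.zero_comp])
    obtain ⟨e⟩ := exists_twist_inverse (k := k) (n := n) b
    obtain ⟨D, hD⟩ := exists_copairing φ hφ (M := O' n k b) (M' := O' n k (-b)) (t ≫ eK.hom) e.hom
    have hD0 := copairing_ne_zero φ hE (Groth.L16.ProjTwist.isInvertible_twistProjSpace n k b)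
      (Groth.L16.ProjTwist.isInvertible_twistProjSpace n k (-b)) ht1 e hD
    obtain ⟨j⟩ := Groth.L22.Reg.nonempty_O_add (n := n) (R := k) (show c + -b = c - b from rfl)
    let i := tensorIso ξ (Iso.refl (O' n k (-b))) ≪≫ j
    have hs2 : i.inv ≫ D ≠ 0 := fun h => hD0 (by rw [← cancel_epi i.inv, h, Limits.comp_zero])
    rcases le_or_gt (-k₀) b with hb | hb
    · exact not_subsingleton_of_hom hE hb hs1 h0
    · exact not_subsingleton_of_hom hE (show -k₀ ≤ c - b by omega) hs2 h0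
  · haveI := isIso_sc E (const_unit d hd)
    exact ⟨(sc E a - ψ) ≫ inv (sc E d), by rw [← Category.assoc, h1, IsIso.hom_inv_id],
      by rw [Category.assoc, show inv (sc E d) ≫ ψ = ψ ≫ inv (sc E d) from by rw [IsIso.inv_comp_eq, ← Category.assoc, ← comp_sc, Category.assoc, IsIso.hom_inv_id, Category.comp_id], ← Category.assoc, h2, IsIso.hom_inv_id]⟩

end Groth.L03.ShStab.Rank2
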