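import Groth.Agent.L03.ShStab.FreeSub
import Groth.Agent.L03.ShStab.FinExtPoly
import Groth.Agent.L03.ShStab.Scalar
import Groth.Agent.L03.ShStab.Rank2Pn
import Groth.Agent.L21.RR.Twist
import Groth.Agent.L19.ConormalAffine
import Groth.Agent.L18.AmplePull
import Groth.Agent.L29.LocFree
import Groth.Agent.L22.Big.Basic
import Groth.Agent.L21.RR.Coh
import Groth.Prelude.Def_TorSh

/-!
# Kernels of evaluation maps onto line bundles on curves in surfaces
-/

set_option autoImplicit false
set_option backward.isDefEq.respectTransparency false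
set_option linter.style.haveILetI false

universe u

open CategoryTheory CategoryTheory.Limits AlgebraicGeometry TopologicalSpace Opposite Polynomial StabCat
open Groth.L03.Euler

noncomputable section

namespace Groth.L03.ShStab.LMBundle

open Groth.L03.ShStab.Basic
open Groth.L03.ShStab.RankOneSlope
open Groth.L15.Ref (toEta toEta_injective toEta_stalkMapₗ stalkMapₗ_comp)
open Groth.L00.Tensor (tensorMap tensorIso tensorUnitLeft tensorUnitRight tensorComm)

variable {k : Type u} [Field k]

section Push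

variable {X C : Scheme.{u}} [X.Over (Spec (CommRingCat.of k))] [C.Over (Spec (CommRingCat.of k))]
  [IsProper (X ↘ Spec (CommRingCat.of k))] [IsProper (C ↘ Spec (CommRingCat.of k))]
  (i : C ⟶ X) [IsClosedImmersion i]

theorem isHilbPoly_push (hi : i ≫ (X ↘ Spec (CommRingCat.of k)) = C ↘ Spec (CommRingCat.of k))
    {L : X.Modules} (hL : PicF.IsInvertible L) {G : C.Modules} (hG : Coh.IsCoh G) {P : ℚ[X]}
    (hP : _root_.ShStab.IsHilbPoly k C ((Scheme.Modules.pullback i).obj L) G P) :
    _root_.ShStab.IsHilbPoly k X L ((Coh.push i).obj G) P := by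
  intro m
  haveI : IsLocallyNoetherian C := Basic.locallyNoetherian (k := k)
  haveI : X.IsSeparated := ⟨by rw [← terminal.comp_from (X ↘ Spec (CommRingCat.of k))]; infer_instance⟩
  have hN := Groth.L18.Ample.isInvertible_tensorPow hL m
  let N := CohB1.tensorPow L m
  let e : CohB1.tensorMod ((Coh.push i).obj G) N ≅
      (Coh.push i).obj (CohB1.tensorMod G (CohB1.tensorPow ((Scheme.Modules.pullback i).obj L) m)) :=
    Groth.L00.Tensor.tensorComm _ N ≪≫
      (Groth.L17.ProjFormula.projIso i N (Groth.L16.Existence.isFinLocFree_of_isInvertible hN)).app G ≪≫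
      (Coh.push i).mapIso (Groth.L00.Tensor.tensorComm _ G ≪≫
        Groth.L00.Tensor.tensorIso (Iso.refl G) (Groth.L18.Ample.pullPow i L m))
  have hq : Coh.IsQCoh (CohB1.tensorMod G (CohB1.tensorPow ((Scheme.Modules.pullback i).obj L) m)) :=
    (Groth.L03.Euler.isCoh_tensor (Groth.L18.Ample.isInvertible_tensorPow
      (Groth.L18.Ample.isInvertible_pullback i hL) m) hG).1
  change (Curv2.euler k X (CohB1.tensorMod _ N) : ℚ) = _
  rw [Groth.L03.Euler.euler_iso (k := k) e, Groth.L03.Euler.euler_push i _ hq hi]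
  exact hP m

omit [IsProper (X ↘ Spec (CommRingCat.of k))] [IsProper (C ↘ Spec (CommRingCat.of k))]
  [X.Over (Spec (CommRingCat.of k))] [C.Over (Spec (CommRingCat.of k))] in
theorem nonempty_push_structure_iso :
    Nonempty ((Coh.push i).obj (Coh.structureModule C) ≅ ClSub.quotMod i.ker) := by
  let e : i.ker.subscheme ≅ C := (asIso i.toImage).symm
  exact ⟨(Scheme.Modules.pushforwardCongr (Scheme.Hom.toImage_imageι i).symm).app _ ≪≫
    ((Scheme.Modules.pushforwardComp i.toImage i.ker.subschemeι).app _).symm ≪≫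
    (Scheme.Modules.pushforward i.ker.subschemeι).mapIso
      (((Groth.L19.Conormal.pullbackIsoPush e).app _).symm ≪≫ Groth.L29.LocFree.pullbackUnitIso e.hom)⟩

end Push

section Curve

variable {C : Scheme.{u}} [C.Over (Spec (CommRingCat.of k))] [IsProper (C ↘ Spec (CommRingCat.of k))]
  [IsIntegral C]

/-- On a curve all invertible modules have the same multiplicity. -/
theorem alpha_eq (hC : topologicalKrullDim C = 1) {M : C.Modules} (hM : CohB1.IsAmple M) {A : C.Modules}
    (hA : PicF.IsInvertible A) {pA pO : ℚ[X]} (hpA : _root_.ShStab.IsHilbPoly k C M A pA)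
    (hpO : _root_.ShStab.IsHilbPoly k C M (Coh.structureModule C) pO) : alpha 1 pA = alpha 1 pO := by
  haveI : IsLocallyNoetherian C := Basic.locallyNoetherian (k := k)
  have hX : topologicalKrullDim C = (1 : ℕ) := hC.trans Nat.cast_one.symm
  have hAc := Groth.L18.Ample.isCoh_of_isInvertible hA
  have hα := alpha_pos_sub hM (isPure_invertible (k := k) hX hA) (𝟙 A) hAc (not_isZero_invertible hA) hpA
  have hdeg := natDegree_le hM.1 hAc (dim_le hX A) hpA
  simp only [alpha, Nat.factorial_one, Nat.cast_one, one_mul] at hα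
  obtain ⟨N, hN⟩ : ∃ N : ℕ, 0 < pA.eval (N : ℚ) := by
    obtain ⟨N, hN⟩ := exists_nat_gt (-pA.coeff 0 / pA.coeff 1)
    refine ⟨N, ?_⟩
    rw [eval_eq_sum_range' (show pA.natDegree < 2 by omega)]
    simp only [Finset.sum_range_succ, Finset.sum_range_zero, zero_add, pow_zero, mul_one, pow_one]
    rw [div_lt_iff₀ hα] at hN
    linarith
  let B := CohB1.tensorMod A (CohB1.tensorPow M N)
  have hB : PicF.IsInvertible B :=
    Groth.L18.GenLoc.isInvertible_tensor hA (Groth.L18.Ample.isInvertible_tensorPow hM.1 N)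
  have hBc := Groth.L18.Ample.isCoh_of_isInvertible hB
  have hpB := isHilbPoly_twist hpA N
  have hpos : 0 < Groth.L22.Big.h0 k B := by
    have h1 : (Curv2.euler k C B : ℚ) = pA.eval (N : ℚ) := hpA N
    rw [Groth.L21.RR.euler_eq k hC.le B] at h1
    push_cast at h1
    have h2 : (0 : ℚ) < (Groth.L21.RR.h k 0 B : ℚ) := by
      have : (0 : ℚ) ≤ (Groth.L21.RR.h k 1 B : ℚ) := Nat.cast_nonneg _
      linarith
    have h3 : 0 < Groth.L21.RR.h k 0 B := by exact_mod_cast h2
    rw [Groth.L22.Big.h0_def]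
    exact h3
  obtain ⟨s, hs⟩ := Groth.L22.Big.exists_nonzero_of_h0 k hpos
  haveI : Coh.IsQCoh B := hBc.1
  have hOi := Groth.L18.Ample.isInvertible_structureModule C
  haveI : Mono s := Rank2.mono_of_ne_zero hOi (torsionFree_of_invertible hB) hs
  obtain ⟨h, -⟩ := slope_le_of_mono hM le_rfl hX (Groth.L18.Ample.isCoh_of_isInvertible hOi) hBc
    (isPure_invertible (k := k) hX hB) (not_isZero_invertible hOi) s
    ((Groth.L22.Big.bijective_stalk_section s (Groth.L22.CurveAmple.genericPoint_mem_genLocus hB hs)).2) hpO hpB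
  rw [h]
  exact ((alpha_taylor (e := 0) hdeg (N : ℚ)).1).symm

end Curve

section Kill

variable {X C : Scheme.{u}} [IsIntegral C] (i : C ⟶ X)

/-- A section of a torsion free module on the curve vanishing at its generic point vanishes. -/
theorem eq_zero_of_germ {A : C.Modules} [Coh.IsQCoh A] (hA : PicF.IsInvertible A)
    {s : Γ((Coh.push i).obj A, ⊤)} (h : ((Coh.push i).obj A).presheaf.germ ⊤ (i (genericPoint ↥C)) trivial s = 0) :
    s = 0 := by
  obtain ⟨W, hW, i₁, i₂, hW'⟩ := TopCat.Presheaf.germ_eq (F := ((Coh.push i).obj A).presheaf) (i (genericPoint ↥C))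
    (U := ⊤) (V := ⊤) trivial trivial s 0 (by rw [h, map_zero])
  rw [map_zero] at hW'
  refine Groth.L15.Ref.sec_ext (N := A) (W := i ⁻¹ᵁ ⊤) fun y hy => ?_
  haveI := torsionFree_of_invertible hA y
  refine toEta_injective y ?_
  rw [map_zero, map_zero]
  have h1 : toEta A y (A.presheaf.germ (i ⁻¹ᵁ ⊤) y hy (show Γ(A, i ⁻¹ᵁ ⊤) from s)) =
      A.presheaf.germ (i ⁻¹ᵁ ⊤) (genericPoint ↥C) trivial (show Γ(A, i ⁻¹ᵁ ⊤) from s) :=
    ConcreteCategory.congr_hom (A.presheaf.germ_stalkSpecializes hy ((genericPoint_spec C).specializes trivial)) _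
  refine h1.trans ?_
  rw [← TopCat.Presheaf.germ_res_apply A.presheaf ((Opens.map i.base).map i₁) (genericPoint ↥C) hW]
  exact (congrArg _ hW').trans (map_zero _)

end Kill

variable {X : Scheme.{u}} [X.Over (Spec (CommRingCat.of k))] [IsProper (X ↘ Spec (CommRingCat.of k))]
  [IsIntegral X]

/-- The Hilbert polynomial of a free module. -/
theorem isHilbPoly_free {L : X.Modules} (hL : PicF.IsInvertible L) {pO : ℚ[X]}
    (hpO : _root_.ShStab.IsHilbPoly k X L (Coh.structureModule X) pO) :
    ∀ e : ℕ, _root_.ShStab.IsHilbPoly k X L (FlatMod.freeMod X e) ((e : ℚ) • pO) := by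
  haveI : IsLocallyNoetherian X := Basic.locallyNoetherian (k := k)
  have hOc : Coh.IsCoh (Coh.structureModule X) :=
    Groth.L18.Ample.isCoh_of_isInvertible (Groth.L18.Ample.isInvertible_structureModule X)
  intro e
  induction e with
  | zero =>
    rw [Nat.cast_zero, zero_smul]
    exact isHilbPoly_zero hL ((IsZero.iff_id_eq_zero _).2 (Sigma.hom_ext _ _ fun i => i.elim0))
  | succ e ih =>
    let O := Coh.structureModule X
    let inj : FlatMod.freeMod X e ⟶ FlatMod.freeMod X (e + 1) :=
      Sigma.desc fun i => Sigma.ι (fun _ : Fin (e + 1) => O) i.castSucc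
    let ret : FlatMod.freeMod X (e + 1) ⟶ FlatMod.freeMod X e :=
      Sigma.desc (Fin.lastCases 0 fun i => Sigma.ι (fun _ : Fin e => O) i)
    let π : FlatMod.freeMod X (e + 1) ⟶ O := Sigma.desc (Fin.lastCases (𝟙 O) fun _ => 0)
    have w : inj ≫ π = 0 := Sigma.hom_ext _ _ fun i => by simp [inj, π, O]
    let sp : (ShortComplex.mk inj π w).Splitting :=
      { r := ret
        s := Sigma.ι (fun _ : Fin (e + 1) => O) (Fin.last e)
        f_r := Sigma.hom_ext _ _ fun i => by simp [inj, ret, O]
        s_g := by simp [π, O]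
        id := Sigma.hom_ext _ _ fun i => by
          induction i using Fin.lastCases with
          | last => simp [ret, π, O]
          | cast i => simp [ret, π, inj, O] }
    have h := isHilbPoly_add hL sp.shortExact (Groth.L16.Existence.isCoh_sigma _ fun _ => hOc)
      (Groth.L16.Existence.isCoh_sigma _ fun _ => hOc) hOc ih hpO
    rwa [Nat.cast_succ, add_smul, one_smul]

variable {C : Scheme.{u}} [C.Over (Spec (CommRingCat.of k))] [IsIntegral C]

/-- The kernel of an evaluation map onto a line bundle on a curve is slope stable. -/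
theorem isMuStable_kernel (hreg : ∀ x : X, IsRegularLocalRing (X.presheaf.stalk x))
    (hdim : topologicalKrullDim X = 2) (hC : topologicalKrullDim C = 1) (i : C ⟶ X) [IsClosedImmersion i]
    (hi : i ≫ (X ↘ Spec (CommRingCat.of k)) = C ↘ Spec (CommRingCat.of k))
    [PicGrp.Law X] (hI : PicF.IsInvertible (ClSub.idealMod i.ker))
    (hgen : ∀ c : PicLoc.PicSet X, ∃ n : ℤ, c = PicGrp.cls (ClSub.idealMod i.ker) hI ^ n)
    {L : X.Modules} (hL : CohB1.IsAmple L) (hLI : ClSub.IsInverseOf L (ClSub.idealMod i.ker))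
    {A : C.Modules} (hA : PicF.IsInvertible A) {e : ℕ} (lam : FlatMod.freeMod X e ⟶ (Coh.push i).obj A) [Epi lam]
    (hlam : Function.Injective (lam.app ⊤)) :
    Coh.IsCoh (kernel lam) ∧ TorSh.IsTorsionFree (kernel lam) ∧ _root_.ShStab.IsPure X (kernel lam) 2 ∧
      _root_.ShStab.IsMuStable k X L (kernel lam) 2 := by
  haveI : IsLocallyNoetherian X := Basic.locallyNoetherian (k := k)
  haveI : IsProper (C ↘ Spec (CommRingCat.of k)) := hi ▸ inferInstance
  haveI : IsLocallyNoetherian C := Basic.locallyNoetherian (k := k)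
  have hX : topologicalKrullDim X = (2 : ℕ) := hdim.trans Nat.cast_ofNat.symm
  have hAc := Groth.L18.Ample.isCoh_of_isInvertible hA
  haveI : Coh.IsQCoh A := hAc.1
  have hOi := Groth.L18.Ample.isInvertible_structureModule X
  have hOc := Groth.L18.Ample.isCoh_of_isInvertible hOi
  have hfc : Coh.IsCoh (FlatMod.freeMod X e) := Groth.L16.Existence.isCoh_sigma _ fun _ => hOc
  haveI : Coh.IsQCoh (FlatMod.freeMod X e) := hfc.1
  have hQc : Coh.IsCoh ((Coh.push i).obj A) := Groth.L16.CohClosedPush.isCoh_push (i := i) hAc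
  obtain ⟨hK, hIm, -⟩ := coh_parts k hfc hQc lam
  have hfr := FreeSub.isReflexive_free e hfc
  have hKp := isPure_sub (RefPure.isPure (k := k) hfr hX) (kernel.ι lam)
  have htf : TorSh.IsTorsionFree (kernel lam) := fun x => by
    haveI := Groth.L15.Ref.isTorsionFree_stalk hfc hfr x
    have hinj : Function.Injective (RefHull.stalkMapₗ (kernel.ι lam) x) :=
      (Groth.L21.Mod.mono_iff_stalk_injective (kernel.ι lam)).1 inferInstance x
    exact hinj.moduleIsTorsionFree _ (fun r v => map_smul _ r v)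
  refine ⟨hK, htf, hKp, ?_⟩
  -- generator
  have hgenL : ∀ c : PicLoc.PicSet X, ∃ n : ℤ, c = PicGrp.cls L hL.1 ^ n := fun c => by
    obtain ⟨n, rfl⟩ := hgen c
    refine ⟨-n, ?_⟩
    rw [← PicGrp.cls_inv_eq_cls hL.1 hI hLI, inv_zpow']
  -- polynomials
  obtain ⟨pO, hpO⟩ := exists_hilb (k := k) hL.1 hOc (dim_le hX _)
  have hαO := alpha_pos_sub hL (isPure_invertible (k := k) hX hOi) (𝟙 _) hOc (not_isZero_invertible hOi) hpO
  have hIc := Groth.L18.Ample.isCoh_of_isInvertible hI
  haveI : Coh.IsQCoh (Coh.structureModule X) := hOc.1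
  haveI : Coh.IsQCoh (ClSub.idealMod i.ker) := hIc.1
  obtain ⟨pI, hpI⟩ := exists_hilb (k := k) hL.1 hIc (dim_le hX _)
  haveI : Mono (ClSub.idealModι i.ker) := inferInstanceAs (Mono (kernel.ι _))
  obtain ⟨hαI, -⟩ := slope_le_of_mono hL (show 1 ≤ 2 by omega) hX hIc hOc (isPure_invertible (k := k) hX hOi)
    (not_isZero_invertible hI) (ClSub.idealModι i.ker)
    (FreeSub.surjective_eta_of_mono _ (not_isZero_invertible hI) (torsionFree_of_invertible hI)) hpI hpO
  have hslope := hatSlope_twist hL (show 1 ≤ 2 by omega) hX hI (a := 1) (b := 0)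
    (tensorIso (Iso.refl _) (Groth.L00.Tensor.tensorPowOne L) ≪≫ tensorComm _ _ ≪≫ hLI.some) hpI hpO
  -- the curve
  let LC := (Scheme.Modules.pullback i).obj L
  have hLC : CohB1.IsAmple LC := Groth.L18.Ample.isAmple_pullback_of_isAffineHom (u := i) hL
  have hCO := Groth.L18.Ample.isInvertible_structureModule C
  have hC' : topologicalKrullDim C = (1 : ℕ) := hC.trans Nat.cast_one.symm
  obtain ⟨pA, hpA⟩ := exists_hilb (k := k) hLC.1 hAc (dim_le hC' _)
  obtain ⟨pC, hpC⟩ := exists_hilb (k := k) hLC.1 (Groth.L18.Ample.isCoh_of_isInvertible hCO) (dim_le hC' _)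
  have hAC := alpha_eq hC hLC hA hpA hpC
  have hQ := isHilbPoly_push i hi hL.1 hAc hpA
  have hQO := isHilbPoly_iso (nonempty_push_structure_iso i).some
    (isHilbPoly_push i hi hL.1 (Groth.L18.Ample.isCoh_of_isInvertible hCO) hpC)
  have hIO : pO = pI + pC := isHilbPoly_unique hpO
    (isHilbPoly_add hL.1 (Groth.L21.RR.shortExact_idealSeq i.ker) hIc hOc (Groth.L21.RR.isCoh_quotMod _) hpI hQO)
  have hdA := natDegree_le hLC.1 hAc (dim_le hC' _) hpA
  have hA2 : alpha 2 pA = 0 := alpha_eq_zero_of_natDegree_lt (by omega)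
  have hA1 : alpha 1 pA = alpha 2 pO := by
    rw [hAC]
    simp only [hatSlope, hαI, Nat.cast_one, Nat.cast_zero, add_zero, show (2 : ℕ) - 1 = 1 from rfl] at hslope
    rw [div_add_one hαO.ne', div_left_inj' hαO.ne'] at hslope
    have h5 := congrArg (alpha 1) hIO
    rw [PolyOrd.alpha_add] at h5
    linarith
  -- the kernel
  obtain ⟨pK, hpK⟩ := exists_hilb (k := k) hL.1 hK (dim_le hX _)
  have hsum : (e : ℚ) • pO = pK + pA := by
    refine isHilbPoly_unique (isHilbPoly_free hL.1 hpO e) ?_
    exact isHilbPoly_add hL.1 (S := ShortComplex.mk (kernel.ι lam) lam (kernel.condition lam))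
      { exact := ShortComplex.exact_kernel lam } hK hfc hQc hpK hQ
  have hK2 : alpha 2 pK = (e : ℚ) * alpha 2 pO := by
    have := congrArg (alpha 2) hsum
    rw [PolyOrd.alpha_add, hA2, add_zero] at this
    rw [← this]
    simp [alpha]
    ring
  have hK1 : alpha 1 pK = (e : ℚ) * alpha 1 pO - alpha 2 pO := by
    have := congrArg (alpha 1) hsum
    rw [PolyOrd.alpha_add, hA1] at this
    simp only [alpha, coeff_smul, smul_eq_mul] at this ⊢
    linarith
  have hK0 : ¬ IsZero (kernel lam) := fun h0 => by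
    have hp0 : pK = 0 := isHilbPoly_unique hpK (isHilbPoly_zero hL.1 h0)
    subst hp0
    simp only [alpha, coeff_zero, mul_zero] at hK1 hK2
    simp only [alpha] at hαO
    rcases mul_eq_zero.1 hK2.symm with he | he
    · rw [he, zero_mul] at hK1; linarith
    · linarith
  have hdK : topologicalKrullDim (CohB1.support (kernel lam)) = (2 : ℕ) := hKp _ (𝟙 _) inferInstance hK hK0
  refine ⟨hK, hK0, hdK, fun F ι hι hF hd => ?_, ?_⟩
  · by_cases hF0 : IsZero F
    · haveI : IsEmpty ↥(CohB1.support F) := Set.isEmpty_coe_sort.2 ((Groth.L21.Mod.isZero_iff_support_eq_empty F).1 hF0)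
      rw [show topologicalKrullDim ↥(CohB1.support F) = ⊥ from
        Order.krullDim_eq_bot_iff.mpr ⟨fun Z => IsEmpty.false Z.isIrreducible.nonempty.some⟩] at hd
      simp at hd
    · rw [hKp F ι hι hF hF0] at hd
      exact absurd hd (by norm_cast)
  -- the slope inequality
  intro F ι hι hF pF pE hpF hpE h0 h1
  haveI := hι
  obtain rfl : pE = pK := isHilbPoly_unique hpE hpK
  have hF0 : ¬ IsZero F := fun h => by
    rw [isHilbPoly_unique hpF (isHilbPoly_zero hL.1 h)] at h0
    simp [alpha] at h0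
  rcases FreeSub.gap_or_witness hreg hL hgenL (show 1 ≤ 2 by omega) hX hpO e (ι ≫ kernel.ι lam) hF hF0 hpF with
    ⟨r, hr, h2, h3⟩ | ⟨F', t, b, g, hb, hg, hbg⟩
  · simp only [hatSlope, show (2 : ℕ) - 1 = 1 from rfl] at h3 ⊢
    rw [h2, hK2] at h1
    have hre : (r : ℚ) < e := lt_of_mul_lt_mul_right h1 hαO.le
    have hr' : (0 : ℚ) < r := by exact_mod_cast hr
    have he : (0 : ℚ) < e := hr'.trans hre
    rw [h2, hK1, hK2, div_lt_div_iff₀ (by positivity) (by positivity)]
    calc alpha 1 pF * ((e : ℚ) * alpha 2 pO)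
        ≤ ((r : ℚ) * alpha 1 pO - alpha 2 pO) * ((e : ℚ) * alpha 2 pO) :=
          mul_le_mul_of_nonneg_right h3 (by positivity)
      _ < _ := by nlinarith [mul_pos (sub_pos.2 hre) (mul_pos hαO hαO)]
  · exfalso
    apply hg
    -- the constant vector is killed
    have hz1 : Order.coheight (i (genericPoint ↥C)) = 1 := by
      refine (Groth.L15.Ref.coheight_eq_one_iff _).1 ?_
      obtain ⟨a, b', ha, hb', hab⟩ := Groth.L22.SchemeDim.exists_localDim k X (i (genericPoint ↥C))
      obtain ⟨a', ha', htr⟩ := Groth.L22.SchemeDim.exists_dim_closure_eq_trdeg k X (i (genericPoint ↥C))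
      obtain ⟨m, hm, -, hopen⟩ := Groth.L22.SchemeDim.exists_dim_eq_trdeg k X
      have hm2 : 2 = m := by exact_mod_cast hX.symm.trans hm
      have hl : FlatMor.localDim X (i (genericPoint ↥C)) = ((2 : ℕ) : WithBot ℕ∞) := by
        refine le_antisymm ?_ (le_iInf fun U => ?_)
        · refine iInf_le_of_le ⟨⊤, trivial⟩ ?_
          rw [hm2, ← hopen ⊤ ⟨i (genericPoint ↥C), trivial⟩]
          exact le_rfl
        · rw [hm2, ← hopen U.1 ⟨i (genericPoint ↥C), U.2⟩]
          exact le_rfl
      have hcl : closure ({i (genericPoint ↥C)} : Set X) = Set.range i := by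
        have hce := i.isClosedEmbedding
        rw [← Set.image_singleton, hce.closure_image_eq, genericPoint_closure, Set.image_univ]
      rw [hcl, ← (IsHomeomorph.topologicalKrullDim_eq _ i.isClosedEmbedding.isEmbedding.toHomeomorph.isHomeomorph),
        hC] at ha'
      have ha1 : a' = 1 := by exact_mod_cast ha'.symm
      have haa : a = a' := by exact_mod_cast ha.symm.trans htr
      rw [hl] at hab
      have : 2 = a + b' := by exact_mod_cast hab
      rw [hb', show b' = 1 by omega, Nat.cast_one]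
    let z := i (genericPoint ↥C)
    have h0' : b ≫ g ≫ lam = 0 := by
      rw [← Category.assoc, hbg, Category.assoc, Category.assoc, kernel.condition, Limits.comp_zero, Limits.comp_zero]
    obtain ⟨w, hw⟩ := hb z hz1 ((Coh.structureModule X).presheaf.germ ⊤ z trivial (1 : Γ(X, ⊤)))
    have hs : (g ≫ lam).app ⊤ (1 : Γ(X, ⊤)) = 0 := eq_zero_of_germ i hA (by
      rw [← RefHull.stalkMapₗ_germ, ← hw, ← LinearMap.comp_apply, ← stalkMapₗ_comp, h0']
      exact Rank2.stalkMapₗ_zero z w)
    refine GeneralSections.hom_ext_one (hlam ?_)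
    exact hs.trans (map_zero (lam.app ⊤).hom).symm

include k in
/-- A generator of the Picard group with a nonzero section is ample if anything is. -/
theorem isAmple_generator [PicGrp.Law X] (hreg : ∀ x : X, IsRegularLocalRing (X.presheaf.stalk x))
    {n : ℕ} (hn : 1 ≤ n) (hX : topologicalKrullDim X = n) {L : X.Modules} (hL : PicF.IsInvertible L)
    (hgen : ∀ c : PicLoc.PicSet X, ∃ m : ℤ, c = PicGrp.cls L hL ^ m)
    {σ : Coh.structureModule X ⟶ L} (hσ : σ ≠ 0) {H : X.Modules} (hH : CohB1.IsAmple H) : CohB1.IsAmple L := by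
  haveI : IsLocallyNoetherian X := Basic.locallyNoetherian (k := k)
  have hOi := Groth.L18.Ample.isInvertible_structureModule X
  have neg : ∀ m : ℕ, ¬ Nonempty (CohB1.tensorMod H (CohB1.tensorPow L m) ≅ Coh.structureModule X) := fun m ⟨ε⟩ => by
    have hP : ∀ j : ℕ, ∃ τ : Coh.structureModule X ⟶ CohB1.tensorPow L j, Mono τ := fun j => by
      induction j with
      | zero => exact ⟨𝟙 _, inferInstance⟩
      | succ j ih =>
        obtain ⟨τ, hτ⟩ := ih
        haveI : Coh.IsQCoh L := (Groth.L18.Ample.isCoh_of_isInvertible hL).1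
        have hPj := Groth.L18.Ample.isInvertible_tensorPow hL (j + 1)
        haveI : Coh.IsQCoh (CohB1.tensorPow L (j + 1)) := (Groth.L18.Ample.isCoh_of_isInvertible hPj).1
        haveI : Mono σ := Rank2.mono_of_ne_zero hOi (torsionFree_of_invertible hL) hσ
        haveI : Mono (tensorMap τ (𝟙 L)) :=
          (Groth.L03.Euler.shortExact_tensor hL
            (S := ShortComplex.mk τ (cokernel.π τ) (cokernel.condition τ))
            { exact := ShortComplex.exact_cokernel τ }).mono_f
        exact ⟨σ ≫ (tensorUnitLeft L).inv ≫ tensorMap τ (𝟙 L), mono_comp _ _⟩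
    obtain ⟨τ, hτ⟩ := hP m
    have hHc := Groth.L18.Ample.isCoh_of_isInvertible hH.1
    haveI : Coh.IsQCoh H := hHc.1
    let f : H ⟶ Coh.structureModule X :=
      (tensorUnitLeft H).inv ≫ tensorMap τ (𝟙 H) ≫ (tensorComm _ _ ≪≫ ε).hom
    haveI : Mono (tensorMap τ (𝟙 H)) :=
      (Groth.L03.Euler.shortExact_tensor hH.1
        (S := ShortComplex.mk τ (cokernel.π τ) (cokernel.condition τ))
        { exact := ShortComplex.exact_cokernel τ }).mono_f
    haveI : Mono f := mono_comp _ _
    have hOc := Groth.L18.Ample.isCoh_of_isInvertible hOi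
    haveI : Coh.IsQCoh (Coh.structureModule X) := hOc.1
    obtain ⟨pH, hpH⟩ := exists_hilb (k := k) hH.1 hHc (dim_le hX _)
    obtain ⟨pO, hpO⟩ := exists_hilb (k := k) hH.1 hOc (dim_le hX _)
    obtain ⟨-, h1⟩ := slope_le_of_mono hH hn hX hHc hOc (isPure_invertible (k := k) hX hOi)
      (not_isZero_invertible hH.1) f
      (FreeSub.surjective_eta_of_mono f (not_isZero_invertible hH.1) (torsionFree_of_invertible hH.1)) hpH hpO
    have h2 := hatSlope_twist hH hn hX hH.1 (a := 0) (b := 1)
      (tensorUnitRight H ≪≫ (Groth.L00.Tensor.tensorPowOne H).symm) hpH hpO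
    simp only [Nat.cast_zero, add_zero, Nat.cast_one] at h2
    linarith
  rcases PicZStable.exists_pow_iso hL hgen hH.1 with ⟨m, ⟨e⟩⟩ | ⟨m, he⟩
  · rcases Nat.eq_zero_or_pos m with rfl | hm
    · exact (neg 0 ⟨tensorUnitRight H ≪≫ e⟩).elim
    · exact (Groth.L18.Ample.isAmple_pow_iff hL hm).2 (Groth.L18.Ample.isAmple_of_iso e hH)
  · exact (neg m he).elim

/-- Dual of the inclusion of an invertible ideal. -/
theorem exists_dual_section {Z : X.IdealSheafData} (hI : PicF.IsInvertible (ClSub.idealMod Z)) {L : X.Modules}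
    (hLI : ClSub.IsInverseOf L (ClSub.idealMod Z)) : ∃ σ : Coh.structureModule X ⟶ L, σ ≠ 0 := by
  obtain ⟨e⟩ := hLI
  have h0 : ClSub.idealModι Z ≠ 0 := fun h => by
    haveI : Mono (ClSub.idealModι Z) := inferInstanceAs (Mono (kernel.ι _))
    exact not_isZero_invertible hI (IsZero.of_mono_eq_zero _ h)
  refine ⟨(tensorComm _ _ ≪≫ e).inv ≫ tensorMap (ClSub.idealModι Z) (𝟙 L) ≫ (tensorUnitLeft L).hom, fun h => ?_⟩
  refine Rank2.tensorMap_ne_zero (N := L) e h0 ?_
  rwa [← cancel_epi (tensorComm (ClSub.idealMod Z) L ≪≫ e).inv, ← cancel_mono (tensorUnitLeft L).hom,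
    Category.assoc, Limits.comp_zero, Limits.zero_comp]

end Groth.L03.ShStab.LMBundle
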