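import Groth.Agent.L16.AffineBC.OverBase
import Groth.Agent.L17.BC.PullSec

/-!
# The transition maps between base changes to algebras over the ground ring
-/

set_option autoImplicit false
set_option linter.style.haveILetI false

universe u

open CategoryTheory CategoryTheory.Limits AlgebraicGeometry TopologicalSpace Opposite

noncomputable section

namespace Groth.L03.ShStab.Lift

open Groth.L16.AffineBC
open Groth.L18.Frame (rs ro pull pull_smul rs_self)

theorem specMap_comp (A B C : Type u) [CommRing A] [CommRing B] [CommRing C] [Algebra A B] [Algebra A C]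
    [Algebra B C] [IsScalarTower A B C] :
    Spec.map (CommRingCat.ofHom (algebraMap B C)) ≫ Spec.map (CommRingCat.ofHom (algebraMap A B)) =
      Spec.map (CommRingCat.ofHom (algebraMap A C)) := by
  rw [← Spec.map_comp, ← CommRingCat.ofHom_comp, ← IsScalarTower.algebraMap_eq]

variable (A : Type u) [CommRing A] (X : Scheme.{u}) [X.Over (Spec (CommRingCat.of A))]

theorem exists_lift (B C : Type u) [CommRing B] [CommRing C] [Algebra A B] [Algebra A C] [Algebra B C]
    [IsScalarTower A B C] :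
    ∃ h : Xb A C X ⟶ Xb A B X, h ≫ gb A B X = gb A C X ∧
      IsPullback h (Xb A C X ↘ Spec (CommRingCat.of C)) (Xb A B X ↘ Spec (CommRingCat.of B))
        (Spec.map (CommRingCat.ofHom (algebraMap B C))) := by
  have t : IsPullback (gb A B X) (Xb A B X ↘ Spec (CommRingCat.of B)) (X ↘ Spec (CommRingCat.of A))
      (Spec.map (CommRingCat.ofHom (algebraMap A B))) := IsPullback.of_hasPullback _ _
  have s : IsPullback (gb A C X) (Xb A C X ↘ Spec (CommRingCat.of C)) (X ↘ Spec (CommRingCat.of A))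
      (Spec.map (CommRingCat.ofHom (algebraMap B C)) ≫ Spec.map (CommRingCat.ofHom (algebraMap A B))) :=
    (specMap_comp A B C).symm ▸ IsPullback.of_hasPullback _ _
  exact ⟨_, t.lift_fst _ _ _, IsPullback.of_right' s t⟩

variable {A X}

/-- Scalars along a morphism over a map of rings. -/
theorem app_scal {B C : Type u} [CommRing B] [CommRing C] [Algebra B C] {S T : Scheme.{u}}
    [S.Over (Spec (CommRingCat.of B))] [T.Over (Spec (CommRingCat.of C))] (h : T ⟶ S)
    (w : h ≫ (S ↘ Spec (CommRingCat.of B)) =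
      (T ↘ Spec (CommRingCat.of C)) ≫ Spec.map (CommRingCat.ofHom (algebraMap B C)))
    (U : S.Opens) (b : B) :
    h.app U (scal B S U b) = scal C T (h ⁻¹ᵁ U) (algebraMap B C b) := by
  have h1 := ConcreteCategory.congr_hom
    (h.naturality (homOfLE (le_top : U ≤ ⊤)).op) ((S ↘ Spec (CommRingCat.of B)).appTop ((Scheme.ΓSpecIso (CommRingCat.of B)).inv b))
  refine h1.trans ?_
  have h2 := ConcreteCategory.congr_hom (Scheme.ΓSpecIso_inv_naturality (CommRingCat.ofHom (algebraMap B C))) b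
  have h3 : h.appTop ((S ↘ Spec (CommRingCat.of B)).appTop ((Scheme.ΓSpecIso (CommRingCat.of B)).inv b)) =
      (T ↘ Spec (CommRingCat.of C)).appTop ((Scheme.ΓSpecIso (CommRingCat.of C)).inv (algebraMap B C b)) := by
    refine (congrArg (fun g : T ⟶ Spec (CommRingCat.of B) =>
      g.appTop ((Scheme.ΓSpecIso (CommRingCat.of B)).inv b)) w).trans ?_
    exact congrArg (T ↘ Spec (CommRingCat.of C)).appTop h2.symm
  exact congrArg (T.presheaf.map (homOfLE (le_top : h ⁻¹ᵁ U ≤ ⊤)).op) h3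

/-- The comparison of pullbacks along a factorisation. -/
def θ {T S : Scheme.{u}} (h : T ⟶ S) (g : S ⟶ X) {gc : T ⟶ X} (hh : h ≫ g = gc) (E : X.Modules) :
    (Scheme.Modules.pullback h).obj ((Scheme.Modules.pullback g).obj E) ≅
      (Scheme.Modules.pullback gc).obj E :=
  (Scheme.Modules.pullbackComp h g).app E ≪≫ (Scheme.Modules.pullbackCongr hh).app E

theorem θ_pull_aux {T S Z : Scheme.{u}} (h : T ⟶ S) (g : S ⟶ Z) {gc : T ⟶ Z} (hh : h ≫ g = gc)
    (E : Z.Modules) (U : Z.Opens) (e : h ⁻¹ᵁ (g ⁻¹ᵁ U) ≤ gc ⁻¹ᵁ U) (m : Γ(E, U)) :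
    ((Scheme.Modules.pullbackComp h g).app E ≪≫ (Scheme.Modules.pullbackCongr hh).app E).hom.app
        (h ⁻¹ᵁ (g ⁻¹ᵁ U)) (pull h _ (g ⁻¹ᵁ U) (pull g E U m)) =
      rs _ e (pull gc E U m) := by
  subst hh
  exact (Groth.L17.BC.PullSec.comp_pull h g E U m).trans (rs_self _ _ _).symm

/-- The comparison on multiples of pulled back sections. -/
theorem θ_pull {B C : Type u} [CommRing B] [CommRing C] [Algebra B C] {T S : Scheme.{u}}
    [S.Over (Spec (CommRingCat.of B))] [T.Over (Spec (CommRingCat.of C))] (h : T ⟶ S) (g : S ⟶ X)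
    {gc : T ⟶ X} (hh : h ≫ g = gc)
    (w : h ≫ (S ↘ Spec (CommRingCat.of B)) =
      (T ↘ Spec (CommRingCat.of C)) ≫ Spec.map (CommRingCat.ofHom (algebraMap B C)))
    (E : X.Modules) (U : X.Opens) (e : h ⁻¹ᵁ (g ⁻¹ᵁ U) ≤ gc ⁻¹ᵁ U) (b : B) (m : Γ(E, U)) :
    (θ h g hh E).hom.app (h ⁻¹ᵁ (g ⁻¹ᵁ U))
        (pull h _ (g ⁻¹ᵁ U) (scal B S (g ⁻¹ᵁ U) b • pull g E U m)) =
      scal C T (h ⁻¹ᵁ (g ⁻¹ᵁ U)) (algebraMap B C b) • rs _ e (pull gc E U m) := by
  rw [pull_smul, Scheme.Modules.Hom.app_smul, app_scal h w]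
  exact congrArg (fun z : Γ((Scheme.Modules.pullback gc).obj E, h ⁻¹ᵁ (g ⁻¹ᵁ U)) =>
    scal C T (h ⁻¹ᵁ (g ⁻¹ᵁ U)) (algebraMap B C b) • z) (θ_pull_aux h g hh E U e m)

end Groth.L03.ShStab.Lift
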