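import Groth.Agent.L03.ShStab.RankOneSlope
import Groth.Agent.L15.Ref.Divisor
import Groth.Prelude.Def_PicGrp

/-!
# Non-split extensions on varieties with cyclic Picard group are slope stable
-/

set_option autoImplicit false
set_option backward.isDefEq.respectTransparency false
set_option linter.style.haveILetI false

universe u

open CategoryTheory CategoryTheory.Limits AlgebraicGeometry TopologicalSpace Opposite Polynomial StabCat
open Groth.L03.Euler

noncomputable section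

namespace Groth.L03.ShStab.PicZStable

open Groth.L03.ShStab.Basic
open Groth.L03.ShStab.RankOneSlope
open Groth.L15.Ref (toEta toEta_injective toEta_stalkMapₗ stalkMapₗ_comp)

variable {X : Scheme.{u}} {L : X.Modules}

theorem exists_pow_iso [PicGrp.Law X] (hLi : PicF.IsInvertible L)
    (hgen : ∀ c : PicLoc.PicSet X, ∃ n : ℤ, c = PicGrp.cls L hLi ^ n) {H : X.Modules} (hH : PicF.IsInvertible H) :
    (∃ m : ℕ, Nonempty (H ≅ CohB1.tensorPow L m)) ∨
      ∃ m : ℕ, Nonempty (CohB1.tensorMod H (CohB1.tensorPow L m) ≅ Coh.structureModule X) := by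
  obtain ⟨z, hz⟩ := hgen (PicGrp.cls H hH)
  cases z with
  | ofNat m =>
    refine .inl ⟨m, (PicGrp.cl_eq_cl_iff _ _).1 ?_⟩
    rw [← PicGrp.cls_pow_val hLi m, ← PicGrp.cls_val H hH, hz, Int.ofNat_eq_natCast, zpow_natCast]
  | negSucc m =>
    refine .inr ⟨m + 1, (PicGrp.cl_eq_cl_iff _ _).1 ?_⟩
    have h1 : PicGrp.cls H hH * PicGrp.cls L hLi ^ (m + 1) = 1 := by
      rw [hz, zpow_negSucc, inv_mul_cancel]
    have h2 := congrArg Subtype.val h1
    rw [PicGrp.mul_val, PicGrp.cls_val, PicGrp.cls_pow_val, PicGrp.mulCl_cl, PicGrp.one_val] at h2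
    exact h2

variable {k : Type u} [Field k] [X.Over (Spec (CommRingCat.of k))]
  [IsProper (X ↘ Spec (CommRingCat.of k))] [IsIntegral X]

include k in
/-- A rank one submodule mapping isomorphically in codimension one splits the extension. -/
theorem exists_retraction (hreg : ∀ x : X, IsRegularLocalRing (X.presheaf.stalk x)) {S : ShortComplex X.Modules}
    (hS : S.ShortExact) (e₁ : S.X₁ ≅ Coh.structureModule X) (h2 : Coh.IsCoh S.X₂) {F M : X.Modules}
    (j : S.X₃ ⟶ M) [Mono j] (ι : F ⟶ S.X₂)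
    (hη : Function.Bijective (RefHull.stalkMapₗ ((ι ≫ S.g) ≫ j) (genericPoint ↥X)))
    (hz : ∀ z : X, Order.coheight z = 1 → Function.Surjective (RefHull.stalkMapₗ ((ι ≫ S.g) ≫ j) z)) :
    ∃ r : S.X₂ ⟶ Coh.structureModule X, S.f ≫ r = e₁.hom := by
  haveI : IsLocallyNoetherian X := Basic.locallyNoetherian (k := k)
  haveI := hS.mono_f
  haveI : Coh.IsQCoh (Coh.structureModule X) := Groth.L15.Ref.isQCoh_structureModule
  let η := genericPoint ↥X
  let q : S.X₂ ⟶ M := S.g ≫ j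
  let a := e₁.inv ≫ S.f
  have ha : ∀ x, Function.Injective (RefHull.stalkMapₗ a x) := (Groth.L21.Mod.mono_iff_stalk_injective a).1 inferInstance
  have hker : ∀ (x : X) (v : S.X₂.presheaf.stalk x), RefHull.stalkMapₗ q x v = 0 →
      ∃ c, RefHull.stalkMapₗ a x c = v := by
    intro x v hv
    rw [stalkMapₗ_comp, LinearMap.comp_apply] at hv
    have h1 : RefHull.stalkMapₗ S.g x v = 0 :=
      (Groth.L21.Mod.mono_iff_stalk_injective j).1 inferInstance x (hv.trans (map_zero (RefHull.stalkMapₗ j x)).symm)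
    obtain ⟨c₁, hc₁⟩ := (ShortComplex.ab_exact_iff _).1
      (hS.map_of_exact (Groth.L21.Mod.stalkF X x)).exact v h1
    refine ⟨RefHull.stalkMapₗ e₁.hom x c₁, ?_⟩
    rw [← LinearMap.comp_apply, ← stalkMapₗ_comp, Iso.hom_inv_id_assoc]
    exact hc₁
  let fe := LinearEquiv.ofBijective _ hη
  let s : S.X₂.presheaf.stalk η →ₗ[X.presheaf.stalk η] S.X₂.presheaf.stalk η :=
    LinearMap.id - (RefHull.stalkMapₗ ι η).comp (fe.symm.toLinearMap.comp (RefHull.stalkMapₗ q η))
  have hs : ∀ v, s v ∈ LinearMap.range (RefHull.stalkMapₗ a η) := fun v => by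
    refine hker η (s v) ?_
    show RefHull.stalkMapₗ q η (v - RefHull.stalkMapₗ ι η (fe.symm (RefHull.stalkMapₗ q η v))) = 0
    rw [map_sub, sub_eq_zero]
    refine (Eq.trans ?_ (fe.apply_symm_apply (RefHull.stalkMapₗ q η v))).symm
    rw [← LinearMap.comp_apply, ← stalkMapₗ_comp]
    show RefHull.stalkMapₗ (ι ≫ S.g ≫ j) η _ = RefHull.stalkMapₗ ((ι ≫ S.g) ≫ j) η _
    rw [Category.assoc]
  let T := (LinearEquiv.ofInjective (RefHull.stalkMapₗ a η) (ha η)).symm.toLinearMap.comp (s.codRestrict _ hs)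
  have hT : ∀ v, RefHull.stalkMapₗ a η (T v) = s v := fun v =>
    congrArg Subtype.val ((LinearEquiv.ofInjective (RefHull.stalkMapₗ a η) (ha η)).apply_symm_apply (s.codRestrict _ hs v))
  obtain ⟨r, hr⟩ := Groth.L15.Ref.exists_hom (Groth.L03.RefRegSch.isNormalScheme hreg)
    (Groth.L18.Ample.isCoh_of_isInvertible (Groth.L18.Ample.isInvertible_structureModule X))
    Groth.L15.Ref.isReflexive_structureModule T fun z hzc u => by
      obtain ⟨w, hw⟩ := hz z hzc (RefHull.stalkMapₗ q z u)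
      obtain ⟨c, hc⟩ := hker z (u - RefHull.stalkMapₗ ι z w) (by
        rw [map_sub, sub_eq_zero, ← LinearMap.comp_apply (RefHull.stalkMapₗ q z), ← stalkMapₗ_comp, ← hw, Category.assoc])
      refine ⟨c, ha η ?_⟩
      rw [hT, ← toEta_stalkMapₗ, hc]
      show _ = toEta S.X₂ z u - RefHull.stalkMapₗ ι η (fe.symm (RefHull.stalkMapₗ q η (toEta S.X₂ z u)))
      rw [map_sub, toEta_stalkMapₗ]
      congr 1
      refine congrArg _ ((LinearEquiv.eq_symm_apply fe).2 ?_)
      show RefHull.stalkMapₗ ((ι ≫ S.g) ≫ j) η _ = _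
      rw [← toEta_stalkMapₗ, hw, toEta_stalkMapₗ]
  refine ⟨r, ?_⟩
  rw [← cancel_epi e₁.inv, ← Category.assoc, Iso.inv_hom_id]
  refine Groth.L15.Ref.hom_ext_eta (torsionFree_of_invertible (Groth.L18.Ample.isInvertible_structureModule X))
    (LinearMap.ext fun c => ha η ?_)
  have h1 : RefHull.stalkMapₗ (a ≫ r) η c = T (RefHull.stalkMapₗ a η c) := by
    rw [stalkMapₗ_comp, hr]; rfl
  refine (congrArg (RefHull.stalkMapₗ a η) h1).trans ((hT _).trans ?_)
  rw [Groth.L15.Ref.stalkMapₗ_id, LinearMap.id_apply]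
  show RefHull.stalkMapₗ a η c - RefHull.stalkMapₗ ι η (fe.symm (RefHull.stalkMapₗ q η (RefHull.stalkMapₗ a η c))) = _
  have h0 : RefHull.stalkMapₗ q η (RefHull.stalkMapₗ a η c) = 0 := by
    rw [← LinearMap.comp_apply, ← stalkMapₗ_comp]
    show RefHull.stalkMapₗ ((e₁.inv ≫ S.f) ≫ S.g ≫ j) η c = 0
    rw [Category.assoc, S.zero_assoc, Limits.zero_comp, Limits.comp_zero]
    exact Rank2.stalkMapₗ_zero _ c
  rw [h0, map_zero, map_zero, sub_zero]

/-- A non-split extension of a colength-small submodule of the generator by the structure sheaf is slope stable. -/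
theorem isMuStable (hreg : ∀ x : X, IsRegularLocalRing (X.presheaf.stalk x)) (hL : CohB1.IsAmple L)
    [PicGrp.Law X] (hgen : ∀ c : PicLoc.PicSet X, ∃ n : ℤ, c = PicGrp.cls L hL.1 ^ n)
    {n : ℕ} (hn : 1 ≤ n) (hX : topologicalKrullDim X = n)
    {S : ShortComplex X.Modules} (hS : S.ShortExact) (e₁ : S.X₁ ≅ Coh.structureModule X) (h2 : Coh.IsCoh S.X₂)
    (j : S.X₃ ⟶ L) [Mono j] (hj : topologicalKrullDim (CohB1.support (cokernel j)) + 2 ≤ n)
    (hns : ∀ r : S.X₂ ⟶ Coh.structureModule X, S.f ≫ r ≠ e₁.hom) :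
    _root_.ShStab.IsMuStable k X L S.X₂ n := by
  haveI : IsLocallyNoetherian X := Basic.locallyNoetherian (k := k)
  have hLc := Groth.L18.Ample.isCoh_of_isInvertible hL.1
  haveI : Coh.IsQCoh L := hLc.1
  have hOi := Groth.L18.Ample.isInvertible_structureModule X
  let eL : CohB1.tensorMod L (CohB1.tensorPow L 0) ≅ CohB1.tensorPow L 1 :=
    Groth.L00.Tensor.tensorUnitRight L ≪≫ (Groth.L00.Tensor.tensorPowOne L).symm
  refine isMuStable_of_ext hL hn hX hS e₁ h2 hL.1 j hj eL zero_lt_one ?_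
  intro F ι _ _ hF hF0 pF pO hpF hpO
  haveI : Mono ((ι ≫ S.g) ≫ j) := mono_comp _ _
  obtain ⟨H, b, hH, hb, hbη, hbz, hext⟩ := exists_hull (k := k) hreg hF hF0 hL.1 ((ι ≫ S.g) ≫ j)
  have hHc := Groth.L18.Ample.isCoh_of_isInvertible hH
  obtain ⟨pH, hpH⟩ := exists_hilb (k := k) hL.1 hHc (dim_le hX H)
  haveI := hb
  obtain ⟨-, hμ⟩ := slope_le_of_mono hL hn hX hF hHc (isPure_invertible (k := k) hX hH) hF0 b hbη hpF hpH
  rcases exists_pow_iso hL.1 hgen hH with ⟨m, ⟨e⟩⟩ | ⟨m, ⟨e⟩⟩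
  swap
  · have := hatSlope_twist hL hn hX hH (b := 0) e hpH hpO
    simp only [Nat.cast_zero, add_zero] at this
    have : (0 : ℚ) ≤ (m : ℚ) := m.cast_nonneg
    linarith
  let eH : CohB1.tensorMod H (CohB1.tensorPow L 0) ≅ CohB1.tensorPow L m := Groth.L00.Tensor.tensorUnitRight H ≪≫ e
  have hH' := hatSlope_twist hL hn hX hH eH hpH hpO
  simp only [Nat.cast_zero, add_zero] at hH'
  rcases Nat.eq_zero_or_pos m with rfl | hm
  · simp only [Nat.cast_zero, add_zero] at hH'; linarith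
  exfalso
  obtain ⟨g', hg'⟩ := hext hLc (Rank2.isReflexive_of_rank hLc (rank_one_of_invertible hL.1)) ((ι ≫ S.g) ≫ j)
  have hg0 : g' ≠ 0 := fun h => hF0 (by
    rw [h, Limits.comp_zero] at hg'
    exact IsZero.of_mono_eq_zero _ hg'.symm)
  haveI : Mono g' := Rank2.mono_of_ne_zero hH (torsionFree_of_invertible hL.1) hg0
  obtain ⟨pL, hpL⟩ := exists_hilb (k := k) hL.1 hLc (dim_le hX L)
  have hg'η : Function.Surjective (RefHull.stalkMapₗ g' (genericPoint ↥X)) := by
    intro z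
    letI : Field (X.presheaf.stalk (genericPoint ↥X)) := (inferInstance : Field X.functionField)
    obtain ⟨e', he'⟩ := Groth.L21.RR.exists_frame_stalk hH (genericPoint ↥X)
    obtain ⟨g, hg⟩ := Groth.L21.RR.exists_frame_stalk hL.1 (genericPoint ↥X)
    obtain ⟨c, hc⟩ := hg.2 (RefHull.stalkMapₗ g' _ e')
    obtain ⟨d, rfl⟩ := hg.2 z
    change c • g = _ at hc
    have hinj : Function.Injective (RefHull.stalkMapₗ g' (genericPoint ↥X)) :=
      (Groth.L21.Mod.mono_iff_stalk_injective g').1 inferInstance _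
    have hc0 : c ≠ 0 := fun h => one_ne_zero (α := X.presheaf.stalk (genericPoint ↥X)) (he'.1 (hinj (by
      show RefHull.stalkMapₗ g' _ ((1 : X.presheaf.stalk (genericPoint ↥X)) • e') =
        RefHull.stalkMapₗ g' _ ((0 : X.presheaf.stalk (genericPoint ↥X)) • e')
      rw [one_smul, zero_smul, map_zero, ← hc, h, zero_smul])))
    refine ⟨(d * c⁻¹) • e', ?_⟩
    rw [map_smul, ← hc, smul_smul, mul_assoc, inv_mul_cancel₀ hc0, mul_one]
  obtain ⟨-, hμL⟩ := slope_le_of_mono hL hn hX hHc hLc (isPure_invertible (k := k) hX hL.1)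
    (not_isZero_invertible hH) g' hg'η hpH hpL
  have hL' := hatSlope_twist hL hn hX hL.1 eL hpL hpO
  simp only [Nat.cast_zero, add_zero, Nat.cast_one] at hL'
  have hm1 : m = 1 := by
    have : (m : ℚ) ≤ (1 : ℕ) := by push_cast; linarith
    have := Nat.cast_le.1 this
    omega
  subst hm1
  have hHL : H ≅ L := e ≪≫ Groth.L00.Tensor.tensorPowOne L
  have hp : pL = pH := isHilbPoly_unique hpL (isHilbPoly_iso hHL hpH)
  obtain ⟨pC, hpC⟩ := exists_hilb (k := k) hL.1 (coh_parts k hHc hLc g').2.2 (dim_le hX _)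
  have hsum := hilb_cokernel hL hHc hLc g' hpH hpL hpC
  have hpC0 : pC = 0 := by rw [hp] at hsum; simpa using hsum
  subst hpC0
  haveI : Epi g' := Preadditive.epi_of_isZero_cokernel g'
    (isZero_of_hilb_eq_zero hL (coh_parts k hHc hLc g').2.2 (dim_le hX _) hpC)
  have hgs : ∀ x, Function.Surjective (RefHull.stalkMapₗ g' x) :=
    (Groth.L21.Mod.epi_iff_stalk_surjective g').1 inferInstance
  have hf : ∀ x, Function.Surjective (RefHull.stalkMapₗ b x) →
      Function.Surjective (RefHull.stalkMapₗ ((ι ≫ S.g) ≫ j) x) := fun x hx => by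
    rw [← hg', stalkMapₗ_comp]
    exact (hgs x).comp hx
  have hfinj : Function.Injective (RefHull.stalkMapₗ ((ι ≫ S.g) ≫ j) (genericPoint ↥X)) :=
    (Groth.L21.Mod.mono_iff_stalk_injective _).1 inferInstance _
  obtain ⟨r, hr⟩ := exists_retraction (k := k) hreg hS e₁ h2 j ι ⟨hfinj, hf _ hbη⟩ fun z hz => hf z (hbz z hz)
  exact hns r hr

end Groth.L03.ShStab.PicZStable
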