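import Groth.Agent.L18.GenLocus
import Groth.Agent.L16.HomSh.Basic
import Groth.Agent.L20.ResDescent
import Groth.Agent.L22.CurveDeg.Det.ExtPow

/-!
# Morphisms out of a sheafified presheaf of modules from compatible data on affine opens
-/

set_option autoImplicit false
set_option backward.isDefEq.respectTransparency false

universe u

open CategoryTheory MonoidalCategory AlgebraicGeometry TopologicalSpace Opposite TensorProduct

noncomputable section

namespace Groth.L03.ShStab.PreHom

open Groth.L18.Frame (rs ro rs_rs rs_smul ro_ro)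
open Groth.L00.Tensor (PX pre shf preF counitIso)

variable {X : Scheme.{u}}

theorem affine_cover (V : X.Opens) :
    V ≤ ⨆ W : {W : X.affineOpens // W.1 ≤ V}, W.1.1 := fun x hx => by
  obtain ⟨W, hW, hxW, hWV⟩ := exists_isAffineOpen_mem_and_subset (x := x) (U := V) hx
  exact Opens.mem_iSup.2 ⟨⟨⟨W, hW⟩, hWV⟩, hxW⟩

theorem ext_affine (N : X.Modules) {V : X.Opens} {s t : Γ(N, V)}
    (h : ∀ (W : X.affineOpens) (hW : W.1 ≤ V), rs N hW s = rs N hW t) : s = t :=
  Groth.L16.HomSh.ext_cover N (fun W : {W : X.affineOpens // W.1 ≤ V} => W.1.1) (fun W => W.2)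
    (affine_cover V) fun W => h W.1 W.2

/-- Compatible linear data on the affine opens of a presheaf of modules give a map from its sheafification. -/
theorem exists_hom_pre (P : PX X) (N : X.Modules) (f : ∀ U : X.affineOpens, P.obj (op U.1) → Γ(N, U.1))
    (hadd : ∀ (U : X.affineOpens) (p q : P.obj (op U.1)), f U (p + q) = f U p + f U q)
    (hsmul : ∀ (U : X.affineOpens) (r : X.sheaf.obj.obj (op U.1)) (p : P.obj (op U.1)),
      f U (r • p) = (show Γ(X, U.1) from r) • f U p)
    (hres : ∀ (U V : X.affineOpens) (h : V.1 ≤ U.1) (p : P.obj (op U.1)),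
      rs N h (f U p) = f V (Groth.L00.Tensor.rs P (homOfLE h).op p)) :
    ∃ φ : (shf X).obj P ⟶ N, ∀ (U : X.affineOpens) (p : P.obj (op U.1)),
      φ.app U.1 ((Groth.L00.Tensor.unit P).app (op U.1) p) = f U p := by
  have key : ∀ (V : X.Opens) (p : P.obj (op V)), ∃ y : Γ(N, V), ∀ (W : X.affineOpens) (hW : W.1 ≤ V),
      rs N hW y = f W (Groth.L00.Tensor.rs P (homOfLE hW).op p) := by
    intro V p
    let s : ∀ W : {W : X.affineOpens // W.1 ≤ V}, Γ(N, W.1.1) := fun W =>
      f W.1 (Groth.L00.Tensor.rs P (homOfLE W.2).op p)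
    obtain ⟨y, hy⟩ := Groth.L16.HomSh.exists_glue N (fun W : {W : X.affineOpens // W.1 ≤ V} => W.1.1)
      (fun W => W.2) (affine_cover V) s (fun W W' => ext_affine N fun T hT => by
        rw [rs_rs, rs_rs, hres W.1 T (hT.trans inf_le_left), hres W'.1 T (hT.trans inf_le_right),
          Groth.L00.Tensor.rs_comp, Groth.L00.Tensor.rs_comp]
        rfl)
    exact ⟨y, fun W hW => hy ⟨W, hW⟩⟩
  choose g hg using key
  have hgadd : ∀ (V : X.Opens) (p q : P.obj (op V)), g V (p + q) = g V p + g V q := fun V p q =>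
    ext_affine N fun W hW => by
      rw [hg, Groth.L00.Tensor.rs_add, hadd]
      exact ((map_add (N.presheaf.map (homOfLE hW).op).hom _ _).trans (congrArg₂ (· + ·) (hg V p W hW) (hg V q W hW))).symm
  have hgsmul : ∀ (V : X.Opens) (r : X.sheaf.obj.obj (op V)) (p : P.obj (op V)),
      g V (r • p) = (show Γ(X, V) from r) • g V p := fun V r p =>
    ext_affine N fun W hW => by
      rw [hg, Groth.L00.Tensor.rs_smul, hsmul, rs_smul, hg]
      rfl
  have hgnat : ∀ (V V' : X.Opens) (h : V' ≤ V) (p : P.obj (op V)),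
      g V' (Groth.L00.Tensor.rs P (homOfLE h).op p) = rs N h (g V p) := fun V V' h p =>
    ext_affine N fun W hW => by
      rw [hg, rs_rs, hg, Groth.L00.Tensor.rs_comp]
      rfl
  let φ : P ⟶ pre N := PresheafOfModules.homMk
    { app := fun V => AddCommGrpCat.ofHom (AddMonoidHom.mk' (fun p : P.obj (op V.unop) => g V.unop p) (hgadd V.unop))
      naturality := fun {V V'} i => by
        ext p
        exact hgnat V.unop V'.unop i.unop.le p }
    (fun V r p => hgsmul V.unop r p)
  refine ⟨(shf X).map φ ≫ (counitIso N).hom, fun U p => ?_⟩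
  refine (congrArg (fun k : P ⟶ pre N => k.app (op U.1) p) (Groth.L00.Tensor.unit_lift φ)).trans ?_
  show g U.1 p = f U p
  have h1 := hg U.1 p U le_rfl
  rw [Groth.L18.Frame.rs_self] at h1
  rw [h1]
  exact congrArg (f U) (congrArg (fun k => (ConcreteCategory.hom k) p) (P.presheaf.map_id (op U.1)))

/-- Compatible bilinear data on affine opens give a map from the tensor product. -/
theorem exists_hom_tensor (A B N : X.Modules) (β : ∀ U : X.affineOpens, Γ(A, U.1) →ₗ[Γ(X, U.1)] Γ(B, U.1) →ₗ[Γ(X, U.1)] Γ(N, U.1))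
    (hres : ∀ (U V : X.affineOpens) (h : V.1 ≤ U.1) (a : Γ(A, U.1)) (b : Γ(B, U.1)),
      rs N h (β U a b) = β V (rs A h a) (rs B h b)) :
    ∃ φ : CohB1.tensorMod A B ⟶ N, ∀ (U : X.affineOpens) (a : Γ(A, U.1)) (b : Γ(B, U.1)),
      φ.app U.1 (Groth.L18.GenLoc.tens A B U.1 a b) = β U a b := by
  let L : ∀ U : X.affineOpens, (Γ(A, U.1) ⊗[Γ(X, U.1)] Γ(B, U.1)) →ₗ[Γ(X, U.1)] Γ(N, U.1) := fun U =>
    TensorProduct.lift (β U)
  obtain ⟨φ, hφ⟩ := exists_hom_pre (pre A ⊗ pre B) N (fun U z => L U z) (fun U => map_add (L U))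
    (fun U r z => (L U).map_smul (show Γ(X, U.1) from r) z) (fun U V h z => by
      show rs N h (L U z) = L V _
      induction z using TensorProduct.induction_on with
      | zero =>
        rw [map_zero]
        refine (map_zero (N.presheaf.map (homOfLE h).op).hom).trans ?_
        exact ((congrArg (L V) (map_zero ((pre A ⊗ pre B).presheaf.map (homOfLE h).op).hom)).trans (map_zero _)).symm
      | tmul a b => exact hres U V h a b
      | add p q hp hq =>
        rw [map_add]
        refine (map_add (N.presheaf.map (homOfLE h).op).hom _ _).trans ?_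
        refine (congrArg₂ (· + ·) hp hq).trans ?_
        exact (map_add (L V) _ _).symm.trans (congrArg (L V) (map_add ((pre A ⊗ pre B).presheaf.map (homOfLE h).op).hom _ _).symm))
  exact ⟨φ, fun U a b => hφ U _⟩

end Groth.L03.ShStab.PreHom
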