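import Groth.Agent.L03.ShStab.Filtrations

/-!
# Quotients and saturated submodules
-/

universe u

open CategoryTheory CategoryTheory.Limits AlgebraicGeometry Polynomial StabCat
open Groth.L03.Euler
open Groth.L00.SubobjLattice (qt qπ)

namespace Groth.L03.ShStab

open PolyOrd

theorem StabData.r_lt_of_av_eq {Λ : Type u} [Lattice Λ] [BoundedOrder Λ] {d : ℕ} {D : StabData Λ d}
    {a b c : Λ} (hbc : b < c) (h : 0 < D.av a b) (he : D.av a b = D.av a c) (hne : D.p b ≠ D.p c) :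
    PolyLT (D.r a b) (D.r a c) := by
  refine not_polyLE_iff.1 fun hle => hne ?_
  have e := polyLE_antisymm (D.r_le_of_av_eq hbc.le h he) hle
  have h1 := congrArg (fun R => D.av a b • R) e
  try simp only at h1
  rw [D.smul_r h.ne', he, D.smul_r (he ▸ h).ne'] at h1
  simpa [StabData.q] using h1

namespace Filt

open Bridge Basic

variable {k : Type u} [Field k] {X : Scheme.{u}} [X.Over (Spec (CommRingCat.of k))]
  [IsProper (X ↘ Spec (CommRingCat.of k))] {L : X.Modules} {d : ℕ} {E : X.Modules}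

/-- The kernel of a proper quotient of positive multiplicity. -/
theorem exists_kernel_poly (hL : CohB1.IsAmple L) (hE : Coh.IsCoh E) (hp : _root_.ShStab.IsPure X E d)
    {G : X.Modules} (π : E ⟶ G) [Epi π] (hG : Coh.IsCoh G) (hi : ¬ IsIso π) {pE pG : ℚ[X]}
    (hpE : _root_.ShStab.IsHilbPoly k X L E pE) (hpG : _root_.ShStab.IsHilbPoly k X L G pG)
    (hα : 0 < alpha d pG) :
    ∃ pK, _root_.ShStab.IsHilbPoly k X L (kernel π) pK ∧ Coh.IsCoh (kernel π) ∧ ¬ IsZero (kernel π) ∧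
      ¬ IsIso (kernel.ι π) ∧ pE = pK + pG ∧ 0 < alpha d pK := by
  obtain ⟨hK, -, -⟩ := coh_parts k hE hG π
  obtain ⟨pK, hpK⟩ := exists_hilb (k := k) hL.1 hK (dim_sub_le (kernel.ι π) (dim_le_of_isPure hE hp))
  have h0 : ¬ IsZero (kernel π) := fun h => hi (by
    haveI := Preadditive.mono_of_isZero_kernel π h
    exact isIso_of_mono_of_epi π)
  refine ⟨pK, hpK, hK, h0, fun h => ?_, ?_, alpha_pos_sub hL hp (kernel.ι π) hK h0 hpK⟩
  · have hπ : π = 0 := by
      rw [← IsIso.inv_hom_id_assoc (kernel.ι π) π, kernel.condition, Limits.comp_zero]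
    rw [isHilbPoly_unique hpG (isHilbPoly_zero (k := k) hL.1 (IsZero.of_epi_eq_zero π hπ))] at hα
    simp [alpha] at hα
  · exact isHilbPoly_unique hpE (isHilbPoly_add hL.1
      (ShortComplex.ShortExact.mk (ShortComplex.exact_kernel π) :
        (ShortComplex.mk (kernel.ι π) π (kernel.condition _)).ShortExact) hK hE hG hpK hpG)

/-- A saturated submodule and its cokernel. -/
theorem exists_coker_poly (hL : CohB1.IsAmple L) (hE : Coh.IsCoh E) (hp : _root_.ShStab.IsPure X E d)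
    {F : X.Modules} (ι : F ⟶ E) [Mono ι] (hF : Coh.IsCoh F) (h0 : ¬ IsZero F) (hi : ¬ IsIso ι)
    (hq : _root_.ShStab.IsPure X (cokernel ι) d) {pF pE : ℚ[X]}
    (hpF : _root_.ShStab.IsHilbPoly k X L F pF) (hpE : _root_.ShStab.IsHilbPoly k X L E pE) :
    ∃ pG, _root_.ShStab.IsHilbPoly k X L (cokernel ι) pG ∧ Coh.IsCoh (cokernel ι) ∧ ¬ IsZero (cokernel ι) ∧
      ¬ IsIso (cokernel.π ι) ∧ pE = pF + pG ∧ 0 < alpha d pF ∧ 0 < alpha d pG := by
  obtain ⟨-, -, hG⟩ := coh_parts k hF hE ι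
  obtain ⟨pG, hpG⟩ := exists_hilb (k := k) hL.1 hG (dim_le_of_isPure hG hq)
  have hG0 : ¬ IsZero (cokernel ι) := fun h => hi (by
    haveI := Preadditive.epi_of_isZero_cokernel ι h
    exact isIso_of_mono_of_epi ι)
  refine ⟨pG, hpG, hG, hG0, fun h => h0 ?_, hilb_cokernel hL hF hE ι hpF hpE hpG,
    alpha_pos_sub hL hp ι hF h0 hpF, alpha_pos_sub hL hq (𝟙 _) hG hG0 hpG⟩
  refine IsZero.of_mono_eq_zero ι ?_
  rw [← cancel_mono (cokernel.π ι), cokernel.condition, Limits.zero_comp]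

/-- Saturating a proper submodule. -/
theorem exists_saturated (hL : CohB1.IsAmple L) (hE : Coh.IsCoh E) (hp : _root_.ShStab.IsPure X E d)
    {F : X.Modules} (ι : F ⟶ E) [Mono ι] (hF : Coh.IsCoh F) (h0 : ¬ IsZero F) (hi : ¬ IsIso ι)
    {pF pE : ℚ[X]} (hpF : _root_.ShStab.IsHilbPoly k X L F pF) (hpE : _root_.ShStab.IsHilbPoly k X L E pE) :
    0 < alpha d pF ∧ 0 < alpha d pE ∧
    (PolyLT (red d pF) (red d pE) ∨
      ∃ (F' : X.Modules) (ι' : F' ⟶ E) (_ : Mono ι') (pF' : ℚ[X]), Coh.IsCoh F' ∧ ¬ IsZero F' ∧ ¬ IsIso ι' ∧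
        _root_.ShStab.IsPure X (cokernel ι') d ∧ _root_.ShStab.IsHilbPoly k X L F' pF' ∧
        0 < alpha d pF' ∧ PolyLE (red d pF) (red d pF')) := by
  haveI : IsLocallyNoetherian X := Basic.locallyNoetherian (k := k)
  haveI : CompactSpace X := QuasiCompact.compactSpace_of_compactSpace (X ↘ Spec (CommRingCat.of k))
  haveI : AlgebraicGeometry.IsNoetherian X := {}
  have hd := dim_le_of_isPure hE hp
  obtain ⟨a, -, hqa, hb, ht⟩ := exists_mem (k := k) hL hE hd F ι hF hpF
  have hqe : (stabData (k := k) hL hE hd).q ⊥ ⊤ = pE := q_bot_top hL hE hd hpE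
  obtain ⟨c, hac, hc0, hcp⟩ := (stabData (k := k) hL hE hd).exists_saturation a
  have hva : 0 < (stabData (k := k) hL hE hd).av ⊥ a := iPure_bot_top hL hE hd hp a (hb h0) le_top
  have hvt : 0 < (stabData (k := k) hL hE hd).av ⊥ ⊤ :=
    iPure_bot_top hL hE hd hp ⊤ ((hb h0).trans (ht hi)) le_rfl
  have heq : (stabData (k := k) hL hE hd).av ⊥ a = (stabData (k := k) hL hE hd).av ⊥ c := by
    rw [← (stabData (k := k) hL hE hd).av_add ⊥ a c, hc0, add_zero]
  refine ⟨by simpa only [StabData.av, hqa] using hva, by simpa only [StabData.av, hqe] using hvt, ?_⟩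
  by_cases hct : c = ⊤
  · left
    subst hct
    have := StabData.r_lt_of_av_eq (ht hi) hva heq (p_ne_of_lt (k := k) hL hE hd a ⊤ (ht hi))
    simpa only [StabData.r, hqa, hqe] using this
  · right
    refine ⟨_, c.1.arrow, inferInstance, Bridge.hp (k := k) hL hE hd c, c.2, fun hz => ?_, fun h => hct (Subtype.ext ?_), ?_,
      hp_spec hL hE hd c, ?_, ?_⟩
    · have h1 := heq ▸ hva
      simp only [StabData.av, q_bot] at h1
      rw [isHilbPoly_unique (hp_spec (k := k) hL hE hd c) (isHilbPoly_zero (k := k) hL.1 hz)] at h1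
      simp [alpha] at h1
    · exact Subobject.eq_top_of_isIso_arrow c.1
    · obtain ⟨e⟩ := nonempty_qt_top (E := E) c.1
      exact isPure_sub ((isPure_qt_iff (k := k) hL hE hd (a := c) (b := ⊤) le_top).2 hcp) e.inv
    · have h1 := heq ▸ hva
      simpa only [StabData.av, q_bot] using h1
    · have h2 := (stabData (k := k) hL hE hd).r_le_of_av_eq hac hva heq
      simpa only [StabData.r, hqa, q_bot] using h2

end Filt

end Groth.L03.ShStab
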