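import Groth.Agent.L03.ShStab.PreHom
import Mathlib.LinearAlgebra.ExteriorPower.Basic

/-!
# Second exterior powers of modules: the pairing and maps out of it
-/

set_option autoImplicit false
set_option backward.isDefEq.respectTransparency false

universe u

open CategoryTheory MonoidalCategory AlgebraicGeometry TopologicalSpace Opposite

noncomputable section

namespace Groth.L03.ShStab.Rank2

open Groth.L18.Frame (rs ro rs_rs rs_smul rs_self IsFrame)
open Groth.L22.CurveDeg.Det (wedge IsBasisS rs_wedge bijective_smul_wedge')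
open Groth.L00.Tensor (pre counitIso)

section Alg

variable {A M Q : Type*} [CommRing A] [AddCommGroup M] [Module A M] [AddCommGroup Q] [Module A Q]

/-- The alternating map of an alternating bilinear map. -/
def alt2 (b : M →ₗ[A] M →ₗ[A] Q) (hb : ∀ v, b v v = 0) : M [⋀^Fin 2]→ₗ[A] Q where
  toFun v := b (v 0) (v 1)
  map_update_add' := by
    intro _ v i x y
    fin_cases i <;> simp
  map_update_smul' := by
    intro _ v i a x
    fin_cases i <;> simp
  map_eq_zero_of_eq' := fun v i j h hij => by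
    fin_cases i <;> fin_cases j <;> first | exact absurd rfl hij | simp_all

theorem alt2_apply (b : M →ₗ[A] M →ₗ[A] Q) (hb : ∀ v, b v v = 0) (x y : M) : alt2 b hb ![x, y] = b x y := rfl

theorem update_zero (x y z : M) : Function.update ![x, y] 0 z = ![z, y] := by
  funext j; fin_cases j <;> rfl

theorem update_one (x y z : M) : Function.update ![x, y] 1 z = ![x, z] := by
  funext j; fin_cases j <;> rfl

/-- The bilinear map of an alternating map in two variables. -/
def bil (a : M [⋀^Fin 2]→ₗ[A] Q) : M →ₗ[A] M →ₗ[A] Q :=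
  LinearMap.mk₂ A (fun x y => a ![x, y])
    (fun x x' y => by
      have := a.map_update_add ![x, y] 0 x x'
      simpa only [update_zero] using this)
    (fun c x y => by
      have := a.map_update_smul ![x, y] 0 c x
      simpa only [update_zero] using this)
    (fun x y y' => by
      have := a.map_update_add ![x, y] 1 y y'
      simpa only [update_one] using this)
    (fun c x y => by
      have := a.map_update_smul ![x, y] 1 c y
      simpa only [update_one] using this)

theorem bil_self (a : M [⋀^Fin 2]→ₗ[A] Q) (x : M) : bil a x x = 0 :=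
  a.map_eq_zero_of_eq ![x, x] (i := 0) (j := 1) rfl (by decide)

theorem bil_swap (a : M [⋀^Fin 2]→ₗ[A] Q) (x y : M) : bil a y x = -bil a x y := by
  refine eq_neg_of_add_eq_zero_left ?_
  have h := bil_self a (x + y)
  simp only [map_add, LinearMap.add_apply, bil_self, zero_add, add_zero] at h
  first | exact h | (rw [add_comm]; exact h)

end Alg

variable {X : Scheme.{u}} {E L : X.Modules}
variable (φ : ∀ U : X.affineOpens,
  (L.val.obj (op U.1)) ≃ₗ[Γ(X, U.1)] ↥(⋀[Γ(X, U.1)]^2 (E.val.obj (op U.1))))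

/-- The wedge of two sections. -/
def wb (U : X.affineOpens) : Γ(E, U.1) →ₗ[Γ(X, U.1)] Γ(E, U.1) →ₗ[Γ(X, U.1)] Γ(L, U.1) :=
  bil (A := Γ(X, U.1)) (M := Γ(E, U.1)) (Q := Γ(L, U.1))
    ((φ U).symm.toLinearMap.compAlternatingMap (exteriorPower.ιMulti Γ(X, U.1) 2 (M := E.val.obj (op U.1))))

theorem wb_eq (U : X.affineOpens) (v w : Γ(E, U.1)) : wb φ U v w = wedge φ U ![v, w] := rfl

/-- Wedges span. -/
theorem mem_span_wedge (U : X.affineOpens) (z : Γ(L, U.1)) :
    z ∈ Submodule.span Γ(X, U.1) (Set.range fun e : Fin 2 → Γ(E, U.1) => wedge φ U e) := by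
  have h := (Submodule.map_span (φ U).symm.toLinearMap
    (Set.range (exteriorPower.ιMulti Γ(X, U.1) 2 (M := E.val.obj (op U.1)))))
  rw [exteriorPower.ιMulti_span, Submodule.map_top, LinearMap.range_eq_top.2 (φ U).symm.surjective] at h
  have hz : (show L.val.obj (op U.1) from z) ∈ (⊤ : Submodule Γ(X, U.1) (L.val.obj (op U.1))) := trivial
  rw [h, ← Set.range_comp] at hz
  exact hz

/-- Linear maps on the second exterior power from alternating bilinear maps. -/
theorem exists_lift (U : X.affineOpens) {Q : Type u} [AddCommGroup Q] [Module Γ(X, U.1) Q]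
    (b : Γ(E, U.1) →ₗ[Γ(X, U.1)] Γ(E, U.1) →ₗ[Γ(X, U.1)] Q) (hb : ∀ v, b v v = 0) :
    ∃ f : Γ(L, U.1) →ₗ[Γ(X, U.1)] Q, ∀ v w, f (wb φ U v w) = b v w := by
  let a : (E.val.obj (op U.1)) [⋀^Fin 2]→ₗ[Γ(X, U.1)] Q := alt2 (M := Γ(E, U.1)) b hb
  refine ⟨(exteriorPower.alternatingMapLinearEquiv a).comp (φ U).toLinearMap, fun v w => ?_⟩
  show exteriorPower.alternatingMapLinearEquiv a ((φ U) ((φ U).symm _)) = _
  rw [LinearEquiv.apply_symm_apply]
  exact exteriorPower.alternatingMapLinearEquiv_apply_ιMulti a _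

variable (hφ : ∀ (U V : X.affineOpens) (h : V.1 ≤ U.1) (e : Fin 2 → E.val.obj (op U.1)),
      L.val.map (homOfLE h).op ((φ U).symm (exteriorPower.ιMulti _ 2 e)) =
        (φ V).symm (exteriorPower.ιMulti _ 2 (fun j => E.val.map (homOfLE h).op (e j))))

include hφ in
theorem rs_wb (U V : X.affineOpens) (h : V.1 ≤ U.1) (v w : Γ(E, U.1)) :
    rs L h (wb φ U v w) = wb φ V (rs E h v) (rs E h w) := by
  rw [wb_eq, wb_eq, rs_wedge φ hφ U V h]
  refine congrArg _ (funext fun j => ?_)
  fin_cases j <;> rfl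

include hφ in
/-- Compatible alternating bilinear maps give a morphism out of the second exterior power. -/
theorem exists_hom (N : X.Modules) (b : ∀ U : X.affineOpens, Γ(E, U.1) →ₗ[Γ(X, U.1)] Γ(E, U.1) →ₗ[Γ(X, U.1)] Γ(N, U.1))
    (hb : ∀ U v, b U v v = 0)
    (hres : ∀ (U V : X.affineOpens) (h : V.1 ≤ U.1) (v w : Γ(E, U.1)),
      rs N h (b U v w) = b V (rs E h v) (rs E h w)) :
    ∃ g : L ⟶ N, ∀ (U : X.affineOpens) (v w : Γ(E, U.1)), g.app U.1 (wb φ U v w) = b U v w := by
  choose f hf using fun U => exists_lift φ U (b U) (hb U)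
  obtain ⟨g, hg⟩ := PreHom.exists_hom_pre (pre L) N (fun U z => f U z) (fun U => map_add (f U))
    (fun U r z => (f U).map_smul (show Γ(X, U.1) from r) z) (fun U V h z => by
      show rs N h (f U z) = f V (rs L h z)
      refine Submodule.span_induction (p := fun z _ => rs N h (f U z) = f V (rs L h z)) ?_ ?_ ?_ ?_
        (mem_span_wedge φ U z)
      · rintro _ ⟨e, rfl⟩
        have he : wedge φ U e = wb φ U (e 0) (e 1) := congrArg _ (funext fun j => by fin_cases j <;> rfl)
        show rs N h (f U (wedge φ U e)) = f V (rs L h (wedge φ U e))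
        rw [he, hf, hres, rs_wb φ hφ U V h, hf]
      · simp [rs]
      · intro p q _ _ hp hq
        simp only [rs, map_add] at hp hq ⊢
        rw [hp, hq]
      · intro r p _ hp
        rw [map_smul, rs_smul, rs_smul, map_smul, hp])
  refine ⟨(counitIso L).inv ≫ g, fun U v w => ?_⟩
  rw [← hf, ← hg U (wb φ U v w)]
  show g.app U.1 ((counitIso L).inv.app U.1 (wb φ U v w)) = _
  refine congrArg (g.app U.1) ?_
  refine Function.LeftInverse.injective (f := (counitIso L).hom.app U.1) (g := (counitIso L).inv.app U.1)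
    (fun z => congrArg (fun k => k.app U.1 z) (counitIso L).hom_inv_id) ?_
  rw [Groth.L20.ResDescent.counit_app_unit L U.1]
  exact congrArg (fun k => k.app U.1 (wb φ U v w)) (counitIso L).inv_hom_id

include hφ in
/-- The pairing with a map into the module. -/
theorem exists_pairing {M : X.Modules} (s : M ⟶ E) :
    ∃ u : CohB1.tensorMod E M ⟶ L, ∀ (U : X.affineOpens) (v : Γ(E, U.1)) (m : Γ(M, U.1)),
      u.app U.1 (Groth.L18.GenLoc.tens E M U.1 v m) = wb φ U v (s.app U.1 m) :=
  PreHom.exists_hom_tensor E M L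
    (fun U => LinearMap.mk₂ Γ(X, U.1) (fun v m => wb φ U v (s.app U.1 m))
      (fun v v' m => by rw [map_add, LinearMap.add_apply])
      (fun c v m => by rw [map_smul, LinearMap.smul_apply])
      (fun v m m' => by rw [map_add, map_add])
      (fun c v m => by rw [s.app_smul, map_smul]))
    (fun U V h v m => by
      simp only [LinearMap.mk₂_apply]
      rw [rs_wb φ hφ U V h, Groth.L16.EpiFrames.app_rs])

include hφ in
/-- A map to an invertible module, paired against a second one, gives a map to the module. -/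
theorem exists_copairing {M M' : X.Modules} (t : E ⟶ M) (ζ : CohB1.tensorMod M M' ⟶ Coh.structureModule X) :
    ∃ D : CohB1.tensorMod L M' ⟶ E, ∀ (U : X.affineOpens) (v w : Γ(E, U.1)) (m : Γ(M', U.1)),
      D.app U.1 (Groth.L18.GenLoc.tens L M' U.1 (wb φ U v w) m) =
        (show Γ(X, U.1) from ζ.app U.1 (Groth.L18.GenLoc.tens M M' U.1 (t.app U.1 w) m)) • v -
          (show Γ(X, U.1) from ζ.app U.1 (Groth.L18.GenLoc.tens M M' U.1 (t.app U.1 v) m)) • w := by
  have hadd₁ : ∀ (U : X.Opens) (a a' : Γ(M, U)) (m : Γ(M', U)),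
      Groth.L18.GenLoc.tens M M' U (a + a') m =
        Groth.L18.GenLoc.tens M M' U a m + Groth.L18.GenLoc.tens M M' U a' m :=
    fun U a a' m => Groth.L00.Tensor.ev_add₁ _ _ a a' m
  have hadd₂ : ∀ (U : X.Opens) (a : Γ(M, U)) (m m' : Γ(M', U)),
      Groth.L18.GenLoc.tens M M' U a (m + m') =
        Groth.L18.GenLoc.tens M M' U a m + Groth.L18.GenLoc.tens M M' U a m' :=
    fun U a m m' => Groth.L00.Tensor.ev_add₂ _ _ a m m'
  let β : ∀ U : X.affineOpens, Γ(E, U.1) →ₗ[Γ(X, U.1)] Γ(M', U.1) →ₗ[Γ(X, U.1)] Γ(X, U.1) := fun U =>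
    LinearMap.mk₂ Γ(X, U.1)
      (fun v m => (show Γ(X, U.1) from ζ.app U.1 (Groth.L18.GenLoc.tens M M' U.1 (t.app U.1 v) m)))
      (fun v v' m => by
        refine (congrArg (ζ.app U.1) ((congrArg (fun a => Groth.L18.GenLoc.tens M M' U.1 a m)
          (map_add (t.app U.1).hom v v')).trans (hadd₁ _ _ _ _))).trans ?_
        exact map_add (ζ.app U.1).hom _ _)
      (fun c v m => by
        refine (congrArg (ζ.app U.1) ((congrArg (fun a => Groth.L18.GenLoc.tens M M' U.1 a m)
          (t.app_smul c v)).trans (Groth.L18.GenLoc.tens_smul_left c _ m))).trans ?_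
        exact ζ.app_smul c _)
      (fun v m m' => by
        refine (congrArg (ζ.app U.1) (hadd₂ _ _ _ _)).trans ?_
        exact map_add (ζ.app U.1).hom _ _)
      (fun c v m => by
        refine (congrArg (ζ.app U.1) (Groth.L18.GenLoc.tens_smul_right c _ m)).trans ?_
        exact ζ.app_smul c _)
  let b : ∀ U : X.affineOpens,
      Γ(E, U.1) →ₗ[Γ(X, U.1)] Γ(E, U.1) →ₗ[Γ(X, U.1)] Γ(M', U.1) →ₗ[Γ(X, U.1)] Γ(E, U.1) := fun U =>
    LinearMap.mk₂ Γ(X, U.1) (fun v w => (β U w).smulRight v - (β U v).smulRight w)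
      (fun v v' w => by ext m; simp [add_smul]; abel)
      (fun c v w => by ext m; simp [smul_sub, smul_smul, mul_comm])
      (fun v w w' => by ext m; simp [add_smul]; abel)
      (fun c v w => by ext m; simp [smul_sub, smul_smul, mul_comm])
  choose f hf using fun U => exists_lift φ U (b U) (fun v => by ext m; simp [b])
  have hβ : ∀ (U V : X.affineOpens) (h : V.1 ≤ U.1) (v : Γ(E, U.1)) (m : Γ(M', U.1)),
      ro h (β U v m) = β V (rs E h v) (rs M' h m) := fun U V h v m => by
    simp only [β, LinearMap.mk₂_apply]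
    rw [Groth.L16.EpiFrames.app_rs t, ← Groth.L18.GenLoc.tens_rs, Groth.L16.EpiFrames.app_rs ζ]
    rfl
  obtain ⟨D, hD⟩ := PreHom.exists_hom_tensor L M' E f (fun U V h l m => by
    refine Submodule.span_induction (p := fun l _ => rs E h (f U l m) = f V (rs L h l) (rs M' h m)) ?_ ?_ ?_ ?_
      (mem_span_wedge φ U l)
    · rintro _ ⟨e, rfl⟩
      have he : wedge φ U e = wb φ U (e 0) (e 1) := congrArg _ (funext fun j => by fin_cases j <;> rfl)
      show rs E h (f U (wedge φ U e) m) = f V (rs L h (wedge φ U e)) (rs M' h m)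
      rw [he, rs_wb φ hφ U V h, hf, hf]
      simp only [b, LinearMap.mk₂_apply, LinearMap.sub_apply, LinearMap.smulRight_apply]
      rw [show rs E h ((β U (e 1)) m • e 0 - (β U (e 0)) m • e 1) = _ from map_sub (E.presheaf.map (homOfLE h).op).hom _ _]
      rw [← hβ U V h, ← hβ U V h]
      exact congrArg₂ (· - ·) (rs_smul E h _ _) (rs_smul E h _ _)
    · simp [rs]
    · intro p q _ _ hp hq
      simp only [rs, map_add, LinearMap.add_apply] at hp hq ⊢
      rw [hp, hq]
    · intro r p _ hp
      rw [map_smul, LinearMap.smul_apply, rs_smul, rs_smul, map_smul, LinearMap.smul_apply, hp])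
  refine ⟨D, fun U v w m => ?_⟩
  rw [hD, hf]
  rfl

end Groth.L03.ShStab.Rank2
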