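import Groth.Agent.L03.ShStab.Rank2
import Groth.Agent.L03.ShStab.Scalar

/-!
# Bundles of rank two: nondegeneracy of the wedge, the adjugate of an endomorphism
-/

set_option autoImplicit false
set_option backward.isDefEq.respectTransparency false

universe u

open CategoryTheory CategoryTheory.Limits AlgebraicGeometry TopologicalSpace Opposite

noncomputable section

namespace Groth.L03.ShStab.Rank2

open Groth.L18.Frame (rs ro rs_rs rs_smul rs_self ro_ro IsFrame)
open Groth.L22.CurveDeg.Det (wedge IsBasisS exists_affine_basis bijective_smul_wedge')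
open Groth.L18.GenLoc (tens)
open Groth.L03.ShStab.Scalar (sc)

variable {X : Scheme.{u}} {E L : X.Modules}

theorem sc_app (M : X.Modules) (r : Γ(X, ⊤)) (U : X.Opens) (s : Γ(M, U)) :
    (sc M r).app U s = ro (le_top : U ≤ ⊤) r • s := rfl

theorem comp_sc {M N : X.Modules} (g : M ⟶ N) (r : Γ(X, ⊤)) : g ≫ sc N r = sc M r ≫ g := by
    apply Scheme.Modules.hom_ext
    intro U
    ext s
    show (sc N r).app U (g.app U s) = g.app U ((sc M r).app U s)
    rw [sc_app, sc_app, g.app_smul]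

/-- An endomorphism of an invertible module is a global function. -/
theorem exists_eq_sc_invertible (hL : PicF.IsInvertible L) (g : L ⟶ L) : ∃ a : Γ(X, ⊤), g = sc L a := by
  choose W e hxW he using fun x => Groth.L18.Frame.exists_frame hL x
  choose a ha using fun x => (he x).exists_coeff le_rfl (g.app (W x) (e x))
  have ha' : ∀ x, a x • e x = g.app (W x) (e x) := fun x => by simpa only [rs_self] using ha x
  have hloc : ∀ (x : X) (V : X.Opens) (h : V ≤ W x) (t : Γ(L, V)), g.app V t = ro h (a x) • t := fun x V h t => by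
    obtain ⟨c, rfl⟩ := (he x).exists_coeff h t
    rw [g.app_smul, Groth.L16.EpiFrames.app_rs, ← ha' x, rs_smul, smul_smul, smul_smul, mul_comm]
  obtain ⟨A, hA, -⟩ := TopCat.Sheaf.existsUnique_gluing' X.sheaf W ⊤ (fun x => homOfLE le_top)
    (fun x _ => Opens.mem_iSup.2 ⟨x, hxW x⟩) a (fun p q => by
      show ro (inf_le_left : W p ⊓ W q ≤ W p) (a p) = ro inf_le_right (a q)
      refine (he p).inj (inf_le_left : W p ⊓ W q ≤ W p) ?_
      rw [← hloc p, ← hloc q])
  refine ⟨A, ?_⟩
  apply Scheme.Modules.hom_ext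
  intro V
  ext t
  refine Groth.L16.HomSh.ext_cover L (fun x => V ⊓ W x) (fun x => inf_le_left)
    (fun y hy => Opens.mem_iSup.2 ⟨y, hy, hxW y⟩) fun x => ?_
  rw [← Groth.L16.EpiFrames.app_rs g, sc_app, rs_smul, ro_ro, hloc x _ inf_le_right]
  congr 1
  have h1 : ro (le_top : W x ≤ ⊤) (A : Γ(X, ⊤)) = a x := hA x
  rw [← h1, ro_ro]

variable (φ : ∀ U : X.affineOpens,
  (L.val.obj (op U.1)) ≃ₗ[Γ(X, U.1)] ↥(⋀[Γ(X, U.1)]^2 (E.val.obj (op U.1))))

theorem bijective_smul_wb {U : X.affineOpens} {e : Fin 2 → Γ(E, U.1)} (he : IsBasisS E e) :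
    Function.Bijective fun a : Γ(X, U.1) => a • wb φ U (e 0) (e 1) := by
  have h : wb φ U (e 0) (e 1) = wedge φ U e := by
    rw [wb_eq]
    exact congrArg _ (funext fun j => by fin_cases j <;> rfl)
  rw [h]
  exact bijective_smul_wedge' φ U e he

/-- The wedge is nondegenerate. -/
theorem eq_zero_of_wb {U : X.affineOpens} {e : Fin 2 → Γ(E, U.1)} (he : IsBasisS E e) {v : Γ(E, U.1)}
    (h : ∀ w, wb φ U v w = 0) : v = 0 := by
  obtain ⟨r, hr⟩ := (he U.1 le_rfl).2 v
  simp only [rs_self, Fin.sum_univ_two] at hr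
  have h1 := h (e 1)
  have h0 := h (e 0)
  rw [← hr] at h0 h1
  simp only [map_add, LinearMap.add_apply, map_smul, LinearMap.smul_apply, wb, bil_self, smul_zero, add_zero,
    zero_add] at h0 h1
  rw [bil_swap, smul_neg, neg_eq_zero] at h0
  have hb := (bijective_smul_wb φ he).1
  have r0 : r 0 = 0 := hb (h1.trans (zero_smul _ _).symm)
  have r1 : r 1 = 0 := hb (h0.trans (zero_smul _ _).symm)
  rw [← hr, r0, r1, zero_smul, zero_smul, add_zero]

/-- Sections and maps are detected by opens carrying a basis. -/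
theorem ext_basis (hE : FlatMod.IsFinLocFreeOfRank 2 E) (N : X.Modules) {V : X.Opens} {s t : Γ(N, V)}
    (h : ∀ (U : X.affineOpens) (hU : U.1 ≤ V) (e : Fin 2 → Γ(E, U.1)), IsBasisS E e → rs N hU s = rs N hU t) :
    s = t := by
  choose U e hxU hUV he using fun x : V => exists_affine_basis hE x.1 V x.2
  exact Groth.L16.HomSh.ext_cover N (fun x => (U x).1) hUV
    (fun x hx => Opens.mem_iSup.2 ⟨⟨x, hx⟩, hxU _⟩) fun x => h _ _ _ (he x)

theorem hom_ext_basis (hE : FlatMod.IsFinLocFreeOfRank 2 E) {M N : X.Modules} {f g : M ⟶ N}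
    (h : ∀ (U : X.affineOpens) (e : Fin 2 → Γ(E, U.1)), IsBasisS E e → ∀ s : Γ(M, U.1), f.app U.1 s = g.app U.1 s) :
    f = g := by
  apply Scheme.Modules.hom_ext
  intro V
  ext s
  refine ext_basis hE N fun U hU e he => ?_
  rw [← Groth.L16.EpiFrames.app_rs, ← Groth.L16.EpiFrames.app_rs, h U e he]

variable (hφ : ∀ (U V : X.affineOpens) (h : V.1 ≤ U.1) (e : Fin 2 → E.val.obj (op U.1)),
      L.val.map (homOfLE h).op ((φ U).symm (exteriorPower.ιMulti _ 2 e)) =
        (φ V).symm (exteriorPower.ιMulti _ 2 (fun j => E.val.map (homOfLE h).op (e j))))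

include hφ

/-- The action of an endomorphism on the top exterior power. -/
theorem exists_det (hE : FlatMod.IsFinLocFreeOfRank 2 E) (ψ : E ⟶ E) :
    ∃ d : Γ(X, ⊤), ∀ (U : X.affineOpens) (v w : Γ(E, U.1)),
      wb φ U (ψ.app U.1 v) (ψ.app U.1 w) = ro (le_top : U.1 ≤ ⊤) d • wb φ U v w := by
  obtain ⟨g, hg⟩ := exists_hom φ hφ L
    (fun U => LinearMap.mk₂ Γ(X, U.1) (fun v w => wb φ U (ψ.app U.1 v) (ψ.app U.1 w))
      (fun v v' w => by rw [map_add, map_add, LinearMap.add_apply])
      (fun c v w => by rw [ψ.app_smul, map_smul, LinearMap.smul_apply])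
      (fun v w w' => by rw [map_add, map_add])
      (fun c v w => by rw [ψ.app_smul, map_smul]))
    (fun U v => by rw [LinearMap.mk₂_apply]; exact bil_self _ (ψ.app U.1 v))
    (fun U V h v w => by
      rw [LinearMap.mk₂_apply, LinearMap.mk₂_apply, rs_wb φ hφ U V h, Groth.L16.EpiFrames.app_rs,
        Groth.L16.EpiFrames.app_rs])
  obtain ⟨d, rfl⟩ := exists_eq_sc_invertible (Groth.L22.CurveDeg.Det.isInvertible_of_extPow φ hφ hE) g
  exact ⟨d, fun U v w => (hg U v w).symm.trans (sc_app L d U.1 _)⟩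

/-- The derivation induced by an endomorphism on the top exterior power. -/
theorem exists_tr (hE : FlatMod.IsFinLocFreeOfRank 2 E) (ψ : E ⟶ E) :
    ∃ a : Γ(X, ⊤), ∀ (U : X.affineOpens) (v w : Γ(E, U.1)),
      wb φ U (ψ.app U.1 v) w + wb φ U v (ψ.app U.1 w) = ro (le_top : U.1 ≤ ⊤) a • wb φ U v w := by
  obtain ⟨g, hg⟩ := exists_hom φ hφ L
    (fun U => LinearMap.mk₂ Γ(X, U.1) (fun v w => wb φ U (ψ.app U.1 v) w + wb φ U v (ψ.app U.1 w))
      (fun v v' w => by
        rw [map_add, map_add, LinearMap.add_apply, map_add, LinearMap.add_apply]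
        exact add_add_add_comm _ _ _ _)
      (fun c v w => by
        rw [ψ.app_smul, map_smul, map_smul, LinearMap.smul_apply, LinearMap.smul_apply, smul_add])
      (fun v w w' => by
        rw [map_add, map_add, map_add]
        exact add_add_add_comm _ _ _ _)
      (fun c v w => by rw [ψ.app_smul, map_smul, map_smul, smul_add]))
    (fun U v => by
      rw [LinearMap.mk₂_apply]
      exact (congrArg (fun z => wb φ U (ψ.app U.1 v) v + z) (bil_swap _ (ψ.app U.1 v) v)).trans
        (add_neg_cancel _))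
    (fun U V h v w => by
      rw [LinearMap.mk₂_apply, LinearMap.mk₂_apply]
      refine (map_add (L.presheaf.map (homOfLE h).op).hom _ _).trans ?_
      refine congrArg₂ (· + ·) ?_ ?_
      · exact (rs_wb φ hφ U V h _ _).trans (by rw [Groth.L16.EpiFrames.app_rs])
      · exact (rs_wb φ hφ U V h _ _).trans (by rw [Groth.L16.EpiFrames.app_rs]))
  obtain ⟨a, rfl⟩ := exists_eq_sc_invertible (Groth.L22.CurveDeg.Det.isInvertible_of_extPow φ hφ hE) g
  exact ⟨a, fun U v w => (hg U v w).symm.trans (sc_app L a U.1 _)⟩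

/-- The trace, the determinant and the adjugate of an endomorphism. -/
theorem exists_adjugate (hE : FlatMod.IsFinLocFreeOfRank 2 E) (ψ : E ⟶ E) :
    ∃ a d : Γ(X, ⊤), ψ ≫ (sc E a - ψ) = sc E d ∧ (sc E a - ψ) ≫ ψ = sc E d := by
  obtain ⟨d, hd⟩ := exists_det φ hφ hE ψ
  obtain ⟨a, ha⟩ := exists_tr φ hφ hE ψ
  have key : ψ ≫ (sc E a - ψ) = sc E d := hom_ext_basis hE fun U e he v => by
    refine sub_eq_zero.1 (eq_zero_of_wb φ he fun w => ?_)
    have h1 := ha U (ψ.app U.1 v) w
    rw [hd U v w] at h1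
    have e1 : (ψ ≫ (sc E a - ψ)).app U.1 v = ro (le_top : U.1 ≤ ⊤) a • ψ.app U.1 v - ψ.app U.1 (ψ.app U.1 v) := by
      show (sc E a - ψ).app U.1 (ψ.app U.1 v) = _
      rw [Scheme.Modules.Hom.sub_app]
      rfl
    rw [e1, sc_app, map_sub, map_sub, LinearMap.sub_apply, LinearMap.sub_apply, map_smul, map_smul,
      LinearMap.smul_apply, LinearMap.smul_apply, ← h1, add_sub_cancel_left, sub_self]
  refine ⟨a, d, key, ?_⟩
  rw [← key, Preadditive.sub_comp, Preadditive.comp_sub, comp_sc]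

omit hφ in
/-- The pairing with a nonzero map is nonzero. -/
theorem pairing_ne_zero (hE : FlatMod.IsFinLocFreeOfRank 2 E) {M : X.Modules} {s : M ⟶ E} (hs : s ≠ 0)
    {u : CohB1.tensorMod E M ⟶ L}
    (hu : ∀ (U : X.affineOpens) (v : Γ(E, U.1)) (m : Γ(M, U.1)), u.app U.1 (tens E M U.1 v m) = wb φ U v (s.app U.1 m)) :
    u ≠ 0 := fun h0 => hs (hom_ext_basis hE fun U e he m => by
      show s.app U.1 m = 0
      refine eq_zero_of_wb φ he fun w => ?_
      rw [wb, bil_swap, neg_eq_zero]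
      refine (hu U w m).symm.trans ?_
      rw [h0]
      rfl)

omit hφ in
/-- The copairing with a nonzero map is nonzero. -/
theorem copairing_ne_zero (hE : FlatMod.IsFinLocFreeOfRank 2 E) {M M' : X.Modules} (hM : PicF.IsInvertible M)
    (hM' : PicF.IsInvertible M') {t : E ⟶ M} (ht : t ≠ 0)
    (ζ : CohB1.tensorMod M M' ≅ Coh.structureModule X) {D : CohB1.tensorMod L M' ⟶ E}
    (hD : ∀ (U : X.affineOpens) (v w : Γ(E, U.1)) (m : Γ(M', U.1)),
      D.app U.1 (tens L M' U.1 (wb φ U v w) m) =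
        (show Γ(X, U.1) from ζ.hom.app U.1 (tens M M' U.1 (t.app U.1 w) m)) • v -
          (show Γ(X, U.1) from ζ.hom.app U.1 (tens M M' U.1 (t.app U.1 v) m)) • w) :
    D ≠ 0 := by
  intro h0
  refine ht ?_
  apply Scheme.Modules.hom_ext
  intro V
  ext v
  show t.app V v = 0
  choose W ε hxW hε using fun x => Groth.L18.Frame.exists_frame hM x
  choose W' ε' hxW' hε' using fun x => Groth.L18.Frame.exists_frame hM' x
  choose U e hxU hUle he using fun x : V =>
    exists_affine_basis hE x.1 (V ⊓ (W x.1 ⊓ W' x.1)) ⟨x.2, hxW _, hxW' _⟩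
  refine Groth.L16.HomSh.ext_cover M (fun x : V => (U x).1) (fun x => (hUle x).trans inf_le_left)
    (fun x hx => Opens.mem_iSup.2 ⟨⟨x, hx⟩, hxU _⟩) fun x => ?_
  have hW : (U x).1 ≤ W x.1 := (hUle x).trans (inf_le_right.trans inf_le_left)
  have hW' : (U x).1 ≤ W' x.1 := (hUle x).trans (inf_le_right.trans inf_le_right)
  let η := rs M hW (ε x.1)
  let η' := rs M' hW' (ε' x.1)
  have hη := (hε x.1).mono hW
  have hη' := (hε' x.1).mono hW'
  have hf := Groth.L18.GenLoc.isFrame_tens hη hη'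
  have hz : ∀ j, (show Γ(X, (U x).1) from ζ.hom.app (U x).1 (tens M M' (U x).1 (t.app (U x).1 (e x j)) η')) = 0 := by
    have h1 := hD (U x) (e x 0) (e x 1) η'
    rw [h0] at h1
    have h2 : (0 : Γ(E, (U x).1)) = _ := h1
    obtain ⟨f, hf⟩ : ∃ f : Fin 2 → Γ(X, (U x).1),
        f = fun j => (show Γ(X, (U x).1) from ζ.hom.app (U x).1 (tens M M' (U x).1 (t.app (U x).1 (e x j)) η')) := ⟨_, rfl⟩
    have hc : (fun j : Fin 2 => if j = 0 then f 1 else -f 0) = 0 := (he x (U x).1 le_rfl).1 (by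
      simp only [rs_self, Fin.sum_univ_two, Pi.zero_apply, zero_smul, add_zero]
      rw [if_pos trivial, if_neg (by decide), neg_smul, ← sub_eq_add_neg, hf]
      exact h2.symm)
    intro j
    have c0 : f 1 = 0 := by simpa using congrFun hc 0
    have c1 : f 0 = 0 := by simpa using congrFun hc 1
    fin_cases j
    · exact (congrFun hf 0).symm.trans c1
    · exact (congrFun hf 1).symm.trans c0
  have hte : ∀ j, t.app (U x).1 (e x j) = 0 := by
    intro j
    obtain ⟨c, hc⟩ := hη.exists_coeff le_rfl (t.app (U x).1 (e x j))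
    rw [rs_self] at hc
    have hinj : Function.Injective (ζ.hom.app (U x).1) :=
      Function.LeftInverse.injective (g := ζ.inv.app (U x).1)
        fun z => congrArg (fun k => k.app (U x).1 z) ζ.hom_inv_id
    have h3 : tens M M' (U x).1 (t.app (U x).1 (e x j)) η' = 0 := hinj ((hz j).trans (map_zero _).symm)
    rw [← hc, Groth.L18.GenLoc.tens_smul_left] at h3
    have h4 : c = 0 := hf.inj le_rfl (by rw [rs_self, h3, zero_smul])
    rw [← hc, h4, zero_smul]
  obtain ⟨r, hr⟩ := (he x (U x).1 le_rfl).2 (rs E ((hUle x).trans inf_le_left) v)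
  simp only [rs_self] at hr
  rw [← Groth.L16.EpiFrames.app_rs, ← hr, map_sum]
  refine (Finset.sum_eq_zero fun j _ => ?_).trans (map_zero _).symm
  rw [t.app_smul, hte, smul_zero]

end Groth.L03.ShStab.Rank2
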