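import Groth.Agent.L03.ShStab.Mu
import Groth.Prelude.Def_RefHull
import Groth.Agent.L21.Mod.Stalks

/-!
# Reflexive modules on integral schemes are pure; slope stable ones are simple
-/

universe u

open CategoryTheory CategoryTheory.Limits AlgebraicGeometry TopologicalSpace Opposite

namespace Groth.L03.ShStab.RefPure

variable {X : Scheme.{u}}

theorem germ_str_injective [IsIntegral X] {W : X.Opens} [Nonempty W] (η : X) (hη : η ∈ W) :
    Function.Injective ((Coh.structureModule X).presheaf.germ W η hη) := by
  intro a b h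
  obtain ⟨V, hV, i₁, i₂, e⟩ := TopCat.Presheaf.germ_eq (Coh.structureModule X).presheaf η hη hη a b h
  haveI : Nonempty V := ⟨⟨η, hV⟩⟩
  apply map_injective_of_isIntegral X i₁ (a₁ := (a : Γ(X, W))) (a₂ := (b : Γ(X, W)))
  rwa [Subsingleton.elim i₂ i₁] at e

/-- Sections of a reflexive module on an integral scheme vanishing at a point of every open vanish. -/
theorem section_eq_zero [IsIntegral X] {F : X.Modules} (hF : RefHull.IsReflexive F) {U : X.Opens}
    (s : Γ(F, U)) (η : X) (hη : ∀ V : X.Opens, (V : Set X).Nonempty → η ∈ V)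
    (h : ∀ hηU : η ∈ U, F.presheaf.germ U η hηU s = 0) : s = 0 := by
  haveI : IsIso (RefHull.bidualMap F) := hF
  have key : (RefHull.bidualMap F).app U s = 0 := by
    refine Subtype.ext (funext fun x => LinearMap.ext fun θ => ?_)
    rw [RefHull.bidualMap_app_apply]
    change RefHull.evalStalk F (Coh.structureModule X) x.1 θ (F.presheaf.germ U x.1 x.2 s) = 0
    obtain ⟨W, hxW, g, rfl⟩ := TopCat.Presheaf.exists_germ_eq (RefHull.dual F).presheaf θ
    rw [RefHull.evalStalk_germ]
    obtain ⟨W', hxW', j, n, hn⟩ := RefHull.isLocSect_of_mem g (W ⊓ U) (homOfLE inf_le_left)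
      (F.presheaf.map (homOfLE inf_le_right).op s) ⟨x.1, hxW, x.2⟩
    have hηW' : η ∈ W' := hη W' ⟨x.1, hxW'⟩
    have h1 := hn ⟨x.1, hxW'⟩
    have h2 := hn ⟨η, hηW'⟩
    rw [TopCat.Presheaf.germ_res_apply] at h1 h2
    replace h2 := (map_zero ((g : Γ(RefHull.dual F, W)).1 ⟨η, (j.le hηW').1⟩)).symm.trans ((congrArg _ (h (j.le hηW').2).symm).trans h2)
    haveI : Nonempty W' := ⟨⟨x.1, hxW'⟩⟩
    have hn0 : n = 0 := by
      apply Groth.L03.ShStab.RefPure.germ_str_injective η hηW'
      exact h2.symm.trans (map_zero ((Coh.structureModule X).presheaf.germ W' η hηW').hom).symm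
    rw [hn0, map_zero] at h1
    exact h1
  have := congrArg (fun m => (inv (RefHull.bidualMap F)).app U m) key
  simp only [map_zero] at this
  rw [← this]
  change s = ((RefHull.bidualMap F) ≫ inv (RefHull.bidualMap F)).app U s
  rw [IsIso.hom_inv_id]
  rfl

variable {k : Type u} [Field k] [X.Over (Spec (CommRingCat.of k))]
  [IsProper (X ↘ Spec (CommRingCat.of k))]

include k in
/-- A reflexive module on an integral scheme of dimension `n` is pure of dimension `n`. -/
theorem isPure [IsIntegral X] {F : X.Modules} (hF : RefHull.IsReflexive F) {n : ℕ}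
    (hX : topologicalKrullDim X = n) : _root_.ShStab.IsPure X F n := by
  intro K ι hι hK h0
  haveI := hι
  by_cases hη : genericPoint X ∈ CohB1.support K
  · haveI : IsLocallyNoetherian X := Basic.locallyNoetherian (k := k)
    have hu : CohB1.support K = Set.univ := by
      refine Set.eq_univ_of_forall fun x => ?_
      exact (genericPoint_spec X).specializes trivial |>.mem_closed
        (Groth.L16.CohSupport.isClosed_support K hK.2) hη
    rw [hu, ← hX]
    exact IsHomeomorph.topologicalKrullDim_eq _ (Homeomorph.Set.univ X).isHomeomorph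
  · exfalso
    refine h0 ((Groth.L21.Mod.isZero_iff_stalk_subsingleton K).2 fun x => ⟨fun a b => ?_⟩)
    obtain ⟨U, hxU, t, ht⟩ := TopCat.Presheaf.exists_germ_eq (x := x) K.presheaf (a - b)
    have hs : Subsingleton (K.presheaf.stalk (genericPoint X)) := by_contra fun h => hη h
    have h0' : ι.app U t = 0 := section_eq_zero hF _ (genericPoint X)
      (fun V hV => (genericPoint_spec X).mem_open_set_iff V.2 |>.2 (by simpa using hV))
      fun hηU => by
        rw [← RefHull.stalkMapₗ_germ ι (genericPoint X) hηU t, Subsingleton.elim (K.presheaf.germ U _ hηU t) 0,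
          map_zero]
    rw [← sub_eq_zero, ← ht,
      show t = 0 from CohSub.app_injective ι U (h0'.trans (map_zero (ι.app U).hom).symm), map_zero]

end Groth.L03.ShStab.RefPure
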