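import Groth.Agent.L03.ShStab.Basic

/-!
# Maps between semistable and stable modules
-/

universe u

open CategoryTheory CategoryTheory.Limits AlgebraicGeometry Polynomial StabCat
open Groth.L03.Euler

namespace Groth.L03.ShStab.Schur

open Groth.L03.ShStab.Basic

variable {k : Type u} [Field k] {X : Scheme.{u}} [X.Over (Spec (CommRingCat.of k))]
  [IsProper (X ↘ Spec (CommRingCat.of k))] {L : X.Modules} {d : ℕ}

omit [IsProper (X ↘ Spec (CommRingCat.of k))] in
theorem isSemistable_of_isStable {E : X.Modules} (h : _root_.ShStab.IsStable k X L E d) :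
    _root_.ShStab.IsSemistable k X L E d :=
  ⟨h.1, h.2.1, h.2.2.1, fun F ι hι hF h0 hi pF pE hpF hpE =>
    PolyOrd.polyLE_of_lt (h.2.2.2 F ι hι hF h0 hi pF pE hpF hpE)⟩

theorem alpha_pos_of_isSemistable (hL : CohB1.IsAmple L) {E : X.Modules}
    (h : _root_.ShStab.IsSemistable k X L E d) {P : ℚ[X]} (hP : _root_.ShStab.IsHilbPoly k X L E P) :
    0 < alpha d P :=
  alpha_pos_sub hL h.2.2.1 (𝟙 E) h.1 h.2.1 hP

/-- A nonzero submodule of a semistable module has smaller reduced polynomial. -/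
theorem red_le_of_mono (hL : CohB1.IsAmple L) {E F : X.Modules} (hE : _root_.ShStab.IsSemistable k X L E d)
    (ι : F ⟶ E) [Mono ι] (hF : Coh.IsCoh F) (h0 : ¬ IsZero F) {pF pE : ℚ[X]}
    (hpF : _root_.ShStab.IsHilbPoly k X L F pF) (hpE : _root_.ShStab.IsHilbPoly k X L E pE) :
    PolyLE (red d pF) (red d pE) := by
  by_cases hi : IsIso ι
  · rw [isHilbPoly_unique (isHilbPoly_iso (asIso ι) hpF) hpE]
    exact PolyOrd.polyLE_refl _
  · exact (PolyOrd.redLE_iff (alpha_pos_sub hL hE.2.2.1 ι hF h0 hpF)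
      (alpha_pos_of_isSemistable hL hE hpE)).1 (hE.2.2.2 F ι inferInstance hF h0 hi pF pE hpF hpE)

theorem red_lt_of_mono (hL : CohB1.IsAmple L) {E F : X.Modules} (hE : _root_.ShStab.IsStable k X L E d)
    (ι : F ⟶ E) [Mono ι] (hi : ¬ IsIso ι) (hF : Coh.IsCoh F) (h0 : ¬ IsZero F) {pF pE : ℚ[X]}
    (hpF : _root_.ShStab.IsHilbPoly k X L F pF) (hpE : _root_.ShStab.IsHilbPoly k X L E pE) :
    PolyLT (red d pF) (red d pE) :=
  (PolyOrd.redLT_iff (alpha_pos_sub hL hE.2.2.1 ι hF h0 hpF)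
    (alpha_pos_of_isSemistable hL (isSemistable_of_isStable hE) hpE)).1
      (hE.2.2.2 F ι inferInstance hF h0 hi pF pE hpF hpE)

/-- What a nonzero map between semistable modules gives. -/
theorem image_facts (hL : CohB1.IsAmple L) {F G : X.Modules}
    (hF : _root_.ShStab.IsSemistable k X L F d) (hG : _root_.ShStab.IsSemistable k X L G d)
    {pF pG : ℚ[X]} (hpF : _root_.ShStab.IsHilbPoly k X L F pF) (hpG : _root_.ShStab.IsHilbPoly k X L G pG)
    {φ : F ⟶ G} (hφ : φ ≠ 0) :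
    ∃ pI : ℚ[X], _root_.ShStab.IsHilbPoly k X L (Abelian.image φ) pI ∧
      ¬ IsZero (Abelian.image φ) ∧ PolyLE (red d pF) (red d pI) ∧ PolyLE (red d pI) (red d pG) ∧
      (_root_.ShStab.IsStable k X L F d → ¬ Mono φ → PolyLT (red d pF) (red d pI)) ∧
      (_root_.ShStab.IsStable k X L G d → ¬ Epi φ → PolyLT (red d pI) (red d pG)) := by
  obtain ⟨hK, hI, -⟩ := coh_parts k hF.1 hG.1 φ
  have dF := dim_le_of_isPure hF.1 hF.2.2.1
  have dG := dim_le_of_isPure hG.1 hG.2.2.1
  obtain ⟨pI, hpI⟩ := exists_hilb (k := k) hL.1 hI (dim_sub_le (Abelian.image.ι φ) dG)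
  obtain ⟨pK, hpK⟩ := exists_hilb (k := k) hL.1 hK (dim_sub_le (kernel.ι φ) dF)
  have hI0 : ¬ IsZero (Abelian.image φ) := fun h =>
    hφ (by rw [← Abelian.image.fac φ, h.eq_of_tgt (Abelian.factorThruImage φ) 0, Limits.zero_comp])
  have hsum := hilb_kernel_image hL hF.1 hG.1 φ hpF hpK hpI
  have hαI := alpha_pos_sub hL hG.2.2.1 (Abelian.image.ι φ) hI hI0 hpI
  have hKiso : ¬ IsIso (kernel.ι φ) := fun h => hφ (by
    rw [← IsIso.inv_hom_id_assoc (kernel.ι φ) φ, kernel.condition, Limits.comp_zero])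
  refine ⟨pI, hpI, hI0, ?_, red_le_of_mono hL hG (Abelian.image.ι φ) hI hI0 hpI hpG, ?_, ?_⟩
  · by_cases hK0 : IsZero (kernel φ)
    · rw [isHilbPoly_unique hpK (isHilbPoly_zero hL.1 hK0), zero_add] at hsum
      rw [hsum]
      exact PolyOrd.polyLE_refl _
    · have h := red_le_of_mono hL hF (kernel.ι φ) hK hK0 hpK hpF
      subst hsum
      exact PolyOrd.red_le_rest (alpha_pos_sub hL hF.2.2.1 (kernel.ι φ) hK hK0 hpK) hαI h
  · intro hst hm
    have hK0 : ¬ IsZero (kernel φ) := fun h => hm (Preadditive.mono_of_isZero_kernel φ h)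
    have h := red_lt_of_mono hL hst (kernel.ι φ) hKiso hK hK0 hpK hpF
    subst hsum
    exact PolyOrd.red_lt_rest (alpha_pos_sub hL hF.2.2.1 (kernel.ι φ) hK hK0 hpK) hαI h
  · intro hst he
    refine red_lt_of_mono hL hst (Abelian.image.ι φ) (fun h => he ?_) hI hI0 hpI hpG
    rw [← Abelian.image.fac φ]
    exact epi_comp _ _

theorem hom_eq_zero (hL : CohB1.IsAmple L) {F G : X.Modules}
    (hF : _root_.ShStab.IsSemistable k X L F d) (hG : _root_.ShStab.IsSemistable k X L G d)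
    {pF pG : ℚ[X]} (hpF : _root_.ShStab.IsHilbPoly k X L F pF) (hpG : _root_.ShStab.IsHilbPoly k X L G pG)
    (hlt : RedLT d pG pF) (φ : F ⟶ G) : φ = 0 := by
  by_contra hφ
  obtain ⟨pI, -, -, h1, h2, -, -⟩ := image_facts hL hF hG hpF hpG hφ
  exact PolyOrd.not_polyLE_iff.2 ((PolyOrd.redLT_iff (alpha_pos_of_isSemistable hL hG hpG)
    (alpha_pos_of_isSemistable hL hF hpF)).1 hlt) (PolyOrd.polyLE_trans h1 h2)

theorem mono_of_redEq (hL : CohB1.IsAmple L) {F G : X.Modules}
    (hF : _root_.ShStab.IsStable k X L F d) (hG : _root_.ShStab.IsSemistable k X L G d)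
    {pF pG : ℚ[X]} (hpF : _root_.ShStab.IsHilbPoly k X L F pF) (hpG : _root_.ShStab.IsHilbPoly k X L G pG)
    (heq : RedEq d pF pG) {φ : F ⟶ G} (hφ : φ ≠ 0) : Mono φ := by
  by_contra hm
  obtain ⟨pI, -, -, -, h2, h3, -⟩ := image_facts hL (isSemistable_of_isStable hF) hG hpF hpG hφ
  exact PolyOrd.ne_of_polyLT (PolyOrd.polyLT_of_lt_of_le (h3 hF hm) h2)
    ((PolyOrd.redEq_iff (alpha_pos_of_isSemistable hL (isSemistable_of_isStable hF) hpF)
      (alpha_pos_of_isSemistable hL hG hpG)).1 heq)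

theorem epi_of_redEq (hL : CohB1.IsAmple L) {F G : X.Modules}
    (hF : _root_.ShStab.IsSemistable k X L F d) (hG : _root_.ShStab.IsStable k X L G d)
    {pF pG : ℚ[X]} (hpF : _root_.ShStab.IsHilbPoly k X L F pF) (hpG : _root_.ShStab.IsHilbPoly k X L G pG)
    (heq : RedEq d pF pG) {φ : F ⟶ G} (hφ : φ ≠ 0) : Epi φ := by
  by_contra he
  obtain ⟨pI, -, -, h1, -, -, h4⟩ := image_facts hL hF (isSemistable_of_isStable hG) hpF hpG hφ
  exact PolyOrd.ne_of_polyLT (PolyOrd.polyLT_of_le_of_lt h1 (h4 hG he))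
    ((PolyOrd.redEq_iff (alpha_pos_of_isSemistable hL hF hpF)
      (alpha_pos_of_isSemistable hL (isSemistable_of_isStable hG) hpG)).1 heq)

/-- A nonzero map between semistable modules with the same polynomial, one of them stable, is an iso. -/
theorem isIso_of_eq (hL : CohB1.IsAmple L) {F G : X.Modules}
    (hF : _root_.ShStab.IsSemistable k X L F d) (hG : _root_.ShStab.IsSemistable k X L G d)
    (hst : _root_.ShStab.IsStable k X L F d ∨ _root_.ShStab.IsStable k X L G d) {P : ℚ[X]}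
    (hpF : _root_.ShStab.IsHilbPoly k X L F P) (hpG : _root_.ShStab.IsHilbPoly k X L G P)
    {φ : F ⟶ G} (hφ : φ ≠ 0) : IsIso φ := by
  haveI : Balanced X.Modules := inferInstance
  obtain ⟨hK, hI, hC⟩ := coh_parts k hF.1 hG.1 φ
  rcases hst with h | h
  · haveI := mono_of_redEq hL h hG hpF hpG rfl hφ
    have hd := dim_quot_le (cokernel.π φ) (dim_le_of_isPure hG.1 hG.2.2.1)
    obtain ⟨pQ, hpQ⟩ := exists_hilb (k := k) hL.1 hC hd
    have := hilb_cokernel hL hF.1 hG.1 φ hpF hpG hpQ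
    rw [left_eq_add] at this
    haveI : Epi φ := Preadditive.epi_of_isZero_cokernel φ (isZero_of_hilb_eq_zero hL hC hd (this ▸ hpQ))
    exact isIso_of_mono_of_epi φ
  · haveI := epi_of_redEq hL hF h hpF hpG rfl hφ
    have hd := dim_sub_le (kernel.ι φ) (dim_le_of_isPure hF.1 hF.2.2.1)
    obtain ⟨pK, hpK⟩ := exists_hilb (k := k) hL.1 hK hd
    obtain ⟨pI, hpI⟩ := exists_hilb (k := k) hL.1 hI
      (dim_sub_le (Abelian.image.ι φ) (dim_le_of_isPure hG.1 hG.2.2.1))
    have hsum := hilb_kernel_image hL hF.1 hG.1 φ hpF hpK hpI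
    haveI : Epi (Abelian.image.ι φ) := by
      haveI : Epi (Abelian.factorThruImage φ ≫ Abelian.image.ι φ) := by rw [Abelian.image.fac]; infer_instance
      exact epi_of_epi (Abelian.factorThruImage φ) _
    haveI := isIso_of_mono_of_epi (Abelian.image.ι φ)
    rw [isHilbPoly_unique (isHilbPoly_iso (asIso (Abelian.image.ι φ)) hpI) hpG, right_eq_add] at hsum
    haveI : Mono φ := Preadditive.mono_of_isZero_kernel φ (isZero_of_hilb_eq_zero hL hK hd (hsum ▸ hpK))
    exact isIso_of_mono_of_epi φ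

/-- For a module with support of dimension `d`, the comparison alone gives semistability. -/
theorem isPure_of_isSS (hL : CohB1.IsAmple L) {E : X.Modules} (hE : Coh.IsCoh E) (h0 : ¬ IsZero E)
    (hdim : topologicalKrullDim (CohB1.support E) = d)
    (h : IsSS Coh.IsCoh (_root_.ShStab.IsHilbPoly k X L) d E) : _root_.ShStab.IsPure X E d := by
  intro F ι hι hF hF0
  haveI := hι
  have hd := dim_sub_le ι hdim.le
  refine le_antisymm hd ?_
  by_contra hlt
  have hne : topologicalKrullDim (CohB1.support F) ≠ d := fun he => hlt he.ge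
  have hi : ¬ IsIso ι := fun hi => hne (le_antisymm hd (hdim.ge.trans
    (topologicalKrullDim_set_mono (Groth.L21.Mod.support_epi ι))))
  obtain ⟨pF, hpF⟩ := exists_hilb (k := k) hL.1 hF hd
  obtain ⟨pE, hpE⟩ := exists_hilb (k := k) hL.1 hE hdim.le
  have hα : alpha d pF = 0 := by
    obtain ⟨e, he, he'⟩ := exists_nat_dim hF0 hd
    have hlt' : e < d := lt_of_le_of_ne he fun h' => hne (by rw [he', h'])
    exact PolyOrd.alpha_eq_zero_iff.2
      (coeff_eq_zero_of_natDegree_lt (lt_of_le_of_lt (natDegree_le hL.1 hF he'.le hpF) hlt'))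
  have hr := h F ι inferInstance hF hF0 hi pF pE hpF hpE
  have hαE := alpha_pos hL hE hdim hpE
  rw [RedLE, hα, zero_smul, ← smul_zero (alpha d pE), PolyOrd.polyLE_smul_iff hαE,
    PolyOrd.polyLE_iff, zero_sub, leadingCoeff_neg] at hr
  have := leadingCoeff_pos hL hF hF0 hd hpF
  linarith

end Groth.L03.ShStab.Schur
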