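import Groth.Agent.L03.ShStab.Rank2Pn
import Groth.Agent.L03.ShStab.RankOneSlope
import Groth.Agent.L21.RR.Twist
import Groth.Agent.L22.Reg.Seq

/-!
# Sections of twists of Serre bundles
-/

set_option autoImplicit false
set_option backward.isDefEq.respectTransparency false
set_option linter.style.haveILetI false

universe u

open CategoryTheory CategoryTheory.Limits AlgebraicGeometry TopologicalSpace Opposite

noncomputable section

namespace Groth.L03.ShStab.SerreH0

open Groth.L22.Reg (O' tw' subsingleton_of_exact subsingleton_iso subsingleton_congr_iso)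
open Groth.L00.Tensor (tensorMap tensorIso tensorComm tensorUnitLeft tensorAssoc)
open Groth.L16.CohLinear (exact_hmap_hmap exact_hmap_delta)

variable {k : Type u} [Field k] {n : ℕ}

theorem subsingleton_H0_mono [IsIntegral (CohB1.ProjSpace n k)] [IsLocallyNoetherian (CohB1.ProjSpace n k)]
    {J : (CohB1.ProjSpace n k).Modules} [Coh.IsQCoh J]
    (htf : ∀ x : CohB1.ProjSpace n k, Module.IsTorsionFree ((CohB1.ProjSpace n k).presheaf.stalk x) (J.presheaf.stalk x))
    {d d' : ℤ} (hd : d ≤ d') (h : Subsingleton (Coh.HH _ (tw' J d') 0)) : Subsingleton (Coh.HH _ (tw' J d) 0) := by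
  by_contra hn
  obtain ⟨s, hs⟩ := Rank2.exists_hom_of_H0 hn
  haveI := Rank2.mono_of_ne_zero (Groth.L16.ProjTwist.isInvertible_twistProjSpace n k (-d)) htf hs
  obtain ⟨μ, hμ⟩ := Rank2.exists_mul_ne_zero (k := k) (n := n) (show -d' ≤ -d by omega)
  have hne : μ ≫ s ≠ 0 := fun h => hμ ((cancel_mono s).1 (by rw [h, Limits.zero_comp]))
  obtain ⟨e⟩ := Rank2.exists_twist_inverse (k := k) (n := n) d'
  refine Rank2.not_subsingleton_H0 (s := (tensorComm _ _ ≪≫ e).inv ≫ tensorMap (μ ≫ s) (𝟙 (O' n k d'))) (fun h0 => ?_) h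
  refine Rank2.tensorMap_ne_zero (N := O' n k d') e hne ?_
  rwa [← cancel_epi (tensorComm (O' n k (-d')) (O' n k d') ≪≫ e).inv, Limits.comp_zero]

theorem subsingleton_H0_O_iff (hn : 1 ≤ n) (d : ℤ) : Subsingleton (Coh.HH _ (O' n k d) 0) ↔ d < 0 := by
  constructor
  · intro h
    by_contra hd
    haveI : IsIntegral (CohB1.ProjSpace n k) := Groth.L16.ProjSpace.isIntegral n k
    obtain ⟨μ, hμ⟩ := Rank2.exists_mul_ne_zero (k := k) (n := n) (show (0 : ℤ) ≤ d by omega)
    obtain ⟨e⟩ := Groth.L22.Reg.nonempty_O_zero n k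
    refine Rank2.not_subsingleton_H0 (s := e.inv ≫ μ) (fun h0 => hμ ?_) h
    rwa [← cancel_epi e.inv, Limits.comp_zero]
  · exact fun hd => Groth.L16.ProjSpace.subsingleton_HH_twist n k d 0 (fun h => by omega) (fun h => by omega)

/-- Sections of `E(t)` in terms of those of the ideal. -/
theorem subsingleton_iff (hn : 2 ≤ n) {Z : (CohB1.ProjSpace n k).IdealSheafData} {c : ℤ}
    {S : ShortComplex (CohB1.ProjSpace n k).Modules} (hS : S.ShortExact)
    (e₁ : S.X₁ ≅ Coh.structureModule (CohB1.ProjSpace n k))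
    (e₃ : S.X₃ ≅ CohB1.tensorMod (ClSub.idealMod Z) (O' n k c)) (t : ℤ) :
    Subsingleton (Coh.HH _ (tw' S.X₂ t) 0) ↔ t < 0 ∧ Subsingleton (Coh.HH _ (tw' (ClSub.idealMod Z) (c + t)) 0) := by
  have hS' := Groth.L22.Reg.shortExact_tw hS t
  haveI := hS'.mono_f
  let i₁ : tw' S.X₁ t ≅ O' n k t := tensorIso e₁ (Iso.refl _) ≪≫ tensorUnitLeft _
  obtain ⟨j⟩ := Groth.L22.Reg.nonempty_O_add (n := n) (R := k) (show c + t = c + t from rfl)
  let i₃ : tw' S.X₃ t ≅ tw' (ClSub.idealMod Z) (c + t) :=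
    tensorIso e₃ (Iso.refl _) ≪≫ tensorAssoc _ _ _ ≪≫ tensorIso (Iso.refl _) j
  constructor
  · intro h
    refine ⟨?_, ?_⟩
    · by_contra ht
      refine (subsingleton_H0_O_iff (k := k) (show 1 ≤ n by omega) t).not.2 ht ?_
      refine subsingleton_iso i₁ 0 ?_
      by_contra hn'
      haveI := not_subsingleton_iff_nontrivial.1 hn'
      obtain ⟨σ, hσ⟩ := Groth.L21.RR.exists_hom_ne_zero (L := tw' S.X₁ t)
      refine Rank2.not_subsingleton_H0 (s := σ ≫ (S.map (Groth.L00.Tensor.tensorRightF (O' n k t))).f) (fun h0 => hσ ?_) h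
      rwa [← cancel_mono (S.map (Groth.L00.Tensor.tensorRightF (O' n k t))).f, Limits.zero_comp]
    · refine subsingleton_iso i₃ 0 (subsingleton_of_exact (exact_hmap_delta hS' 0) h ?_ (map_zero _))
      exact subsingleton_iso i₁.symm 1 (Groth.L16.ProjSpace.subsingleton_HH_twist n k t 1
        (fun h => by omega) (fun h => by omega))
  · rintro ⟨ht, hJ⟩
    exact subsingleton_of_exact (exact_hmap_hmap hS' 0)
      (subsingleton_iso i₁.symm 0 ((subsingleton_H0_O_iff (k := k) (show 1 ≤ n by omega) t).2 ht))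
      (subsingleton_iso i₃.symm 0 hJ) (map_zero _)

/-- Sections of a twist vanish iff the ideal has no forms up to a degree. -/
theorem subsingleton_iff_forall (hn : 2 ≤ n) {Z : (CohB1.ProjSpace n k).IdealSheafData} {c : ℤ}
    {S : ShortComplex (CohB1.ProjSpace n k).Modules} (hS : S.ShortExact)
    (e₁ : S.X₁ ≅ Coh.structureModule (CohB1.ProjSpace n k))
    (e₃ : S.X₃ ≅ CohB1.tensorMod (ClSub.idealMod Z) (O' n k c)) (t : ℤ) :
    Subsingleton (Coh.HH _ (tw' S.X₂ t) 0) ↔
      t < 0 ∧ ∀ d : ℤ, d ≤ c + t → Subsingleton (Coh.HH _ (tw' (ClSub.idealMod Z) d) 0) := by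
  rw [subsingleton_iff hn hS e₁ e₃ t]
  refine ⟨fun h => ⟨h.1, fun d hd => ?_⟩, fun h => ⟨h.1, h.2 _ le_rfl⟩⟩
  haveI : IsIntegral (CohB1.ProjSpace n k) := Groth.L16.ProjSpace.isIntegral n k
  letI : (CohB1.ProjSpace n k).Over (Spec (CommRingCat.of k)) := ⟨CohB1.ProjSpace.toSpec n k⟩
  haveI : IsProper (CohB1.ProjSpace n k ↘ Spec (CommRingCat.of k)) :=
    (inferInstance : IsProper (CohB1.ProjSpace.toSpec n k))
  haveI : IsLocallyNoetherian (CohB1.ProjSpace n k) := Basic.locallyNoetherian (k := k)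
  haveI := Groth.L21.RR.isCoh_quotMod Z |>.1
  haveI : Coh.IsQCoh (Coh.structureModule (CohB1.ProjSpace n k)) := Groth.L15.Ref.isQCoh_structureModule
  haveI : Coh.IsQCoh (ClSub.idealMod Z) := Groth.L18.IdealModule.isQCoh_kernel (ClSub.toSubscheme Z)
  refine subsingleton_H0_mono (fun x => ?_) hd h.2
  haveI := RankOneSlope.torsionFree_of_invertible
    (Groth.L18.Ample.isInvertible_structureModule (CohB1.ProjSpace n k)) x
  have hi : Function.Injective (RefHull.stalkMapₗ (ClSub.idealModι Z) x) :=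
    (Groth.L21.Mod.mono_iff_stalk_injective (ClSub.idealModι Z)).1 (inferInstanceAs (Mono (kernel.ι _))) x
  exact hi.moduleIsTorsionFree _ (fun r v => map_smul _ r v)

end Groth.L03.ShStab.SerreH0
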