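import Groth.Agent.L03.ShStab.RankOneSlope
import Groth.Agent.L03.ShStab.Rank2Pn
import Groth.Agent.L18.AmplePull
import Groth.Agent.L16.ProjSpace.TwistMul
import Groth.Agent.L21.RR.Twist
import Mathlib.Topology.JacobsonSpace

/-!
# Bundles with a section on varieties in projective space with Picard group generated by `O(1)`
-/

set_option autoImplicit false
set_option backward.isDefEq.respectTransparency false
set_option linter.style.haveILetI false

universe u

open CategoryTheory CategoryTheory.Limits AlgebraicGeometry TopologicalSpace Opposite MvPolynomial StabCat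
open Groth.L03.Euler

noncomputable section

namespace Groth.L03.ShStab.SerreSurface

open Groth.L03.ShStab.Basic
open Groth.L03.ShStab.RankOneSlope
open Groth.L22.Reg (O')
open Groth.L00.Tensor (tensorMap tensorIso tensorComm tensorUnitLeft tensorUnitRight tensorAssoc)
open Groth.L18.Frame (rs pull IsFrame)

/-- A finite closed subset of a Jacobson space has dimension zero. -/
theorem dim_finite_closed {T : Type*} [TopologicalSpace T] [JacobsonSpace T] {Z : Set T} (hc : IsClosed Z)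
    (hf : Z.Finite) : topologicalKrullDim Z ≤ 0 := by
  have h1 : Z ⊆ closedPoints T := by
    have hfin : IsClosed (Z ∩ closedPoints T) := by
      rw [← Set.biUnion_of_singleton (Z ∩ closedPoints T)]
      exact (hf.inter_of_left _).isClosed_biUnion fun x hx => mem_closedPoints_iff.1 hx.2
    have h := JacobsonSpace.closure_inter_closedPoints hc
    rw [hfin.closure_eq] at h
    exact fun x hx => (h.ge hx).2
  haveI : Finite Z := hf.to_subtype
  haveI : T1Space Z := ⟨fun x => by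
    have : ({x} : Set Z) = Subtype.val ⁻¹' {x.1} := by ext y; simp [Subtype.ext_iff]
    rw [this]
    exact (mem_closedPoints_iff.1 (h1 x.2)).preimage continuous_subtype_val⟩
  haveI : DiscreteTopology Z := DiscreteTopology.of_finite_of_isClosed_singleton (fun x => isClosed_singleton)
  exact topologicalKrullDim_zero_of_discreteTopology _

variable {X : Scheme.{u}} {k : Type u} [Field k] {N : ℕ} (ι : X ⟶ CohB1.ProjSpace N k)

/-- The restrictions of the twisting sheaves. -/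
abbrev P (m : ℤ) : X.Modules := (Scheme.Modules.pullback ι).obj (O' N k m)

theorem isInvertible_P (m : ℤ) : PicF.IsInvertible (P ι m) :=
  PicLoc.isInvertible_pullback ι (Groth.L16.ProjTwist.isInvertible_twistProjSpace N k m)

theorem nonempty_P_add {a b c : ℤ} (h : a + b = c) : Nonempty (CohB1.tensorMod (P ι a) (P ι b) ≅ P ι c) := by
  obtain ⟨e⟩ := Groth.L22.Reg.nonempty_O_add (n := N) (R := k) h
  exact ⟨Groth.L29.DC.PullTensor.pullTensor ι _ _ ≪≫ (Scheme.Modules.pullback ι).mapIso e⟩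

theorem nonempty_P_zero : Nonempty (P ι 0 ≅ Coh.structureModule X) := by
  obtain ⟨e⟩ := Groth.L22.Reg.nonempty_O_zero N k
  exact ⟨(Scheme.Modules.pullback ι).mapIso e ≪≫ Groth.L29.LocFree.pullbackUnitIso ι⟩

theorem nonempty_P_pow (m : ℕ) : Nonempty (P ι m ≅ CohB1.tensorPow (P ι 1) m) := by
  obtain ⟨e⟩ := Groth.L16.ProjTwist.nonempty_twist_iso_tensorPow (CohB1.polyGrading N k) (fun x => by
    obtain ⟨i, hi⟩ := Groth.L16.ProjSpace.exists_mem_basicOpen_X N k x
    exact ⟨⟨MvPolynomial.X i, isHomogeneous_X k i⟩, hi⟩) m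
  exact ⟨(Scheme.Modules.pullback ι).mapIso e ≪≫ Groth.L18.Ample.pullPow ι _ m⟩

theorem exists_section_ne_zero [IsIntegral X] (p : ℕ) : ∃ σ : Coh.structureModule X ⟶ P ι (p : ℤ), σ ≠ 0 := by
  obtain ⟨i, hi⟩ := Groth.L16.ProjSpace.exists_mem_basicOpen_X N k (ι (genericPoint ↥X))
  have hmem : (MvPolynomial.X i : MvPolynomial (Fin (N + 1)) k) ^ p ∈ CohB1.polyGrading N k p := by
    simpa using SetLike.pow_mem_graded p (Groth.L16.ProjSpace.X_mem N k i)
  let s : Coh.structureModule (CohB1.ProjSpace N k) ⟶ O' N k (p : ℤ) :=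
    Groth.L16.ProjTwist.sect (CohB1.polyGrading N k) ⟨_, hmem⟩
  have he : IsFrame (O' N k (p : ℤ)) (Proj.basicOpen (CohB1.polyGrading N k) (MvPolynomial.X i ^ p))
      (rs _ le_top (Groth.L18.GenLoc.secOf s)) := by
    refine Groth.L18.GenLoc.isIso_restrict_iff_isFrame s _ |>.1 ?_
    exact Groth.L16.ProjTwist.isIso_restrict_sect (CohB1.polyGrading N k) _ _ fun y => y.2
  have hx : genericPoint ↥X ∈ ι ⁻¹ᵁ Proj.basicOpen (CohB1.polyGrading N k) (MvPolynomial.X i ^ p) := by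
    show ι (genericPoint ↥X) ∈ Proj.basicOpen (CohB1.polyGrading N k) (MvPolynomial.X i ^ p)
    rcases Nat.eq_zero_or_pos p with rfl | hp
    · simp
    · rw [Proj.basicOpen_pow _ _ _ hp]; exact hi
  let t : Γ(P ι (p : ℤ), ⊤) := pull ι (O' N k (p : ℤ)) ⊤ (Groth.L18.GenLoc.secOf s)
  refine ⟨Groth.L16.homOfSection _ t, fun h0 => ?_⟩
  have ht : t = 0 := by
    have := Groth.L21.RR.app_homOfSection_one t
    rw [h0] at this
    exact this.symm
  have hf := he.pullback ι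
  rw [← Groth.L18.Frame.pull_rs ι _ (le_top : _ ≤ ⊤)] at hf
  have h1 := hf.inj le_rfl (a := 1) (b := 0) (by
    rw [one_smul, zero_smul, Groth.L18.Frame.rs_self]
    show rs (P ι (p : ℤ)) _ t = 0
    rw [ht]
    exact map_zero _)
  haveI : Nonempty (ι ⁻¹ᵁ Proj.basicOpen (CohB1.polyGrading N k) (MvPolynomial.X i ^ p)) := ⟨⟨_, hx⟩⟩
  exact one_ne_zero h1

variable [X.Over (Spec (CommRingCat.of k))] [IsProper (X ↘ Spec (CommRingCat.of k))] [IsIntegral X]

/-- The extension is slope stable. -/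
theorem isMuStable (hreg : ∀ x : X, IsRegularLocalRing (X.presheaf.stalk x)) {n : ℕ} (hn : 2 ≤ n)
    (hX : topologicalKrullDim X = n) (hL : CohB1.IsAmple (P ι 1))
    (hPic : ∀ M : X.Modules, PicF.IsInvertible M → ∃ m : ℤ, Nonempty (M ≅ P ι m))
    (d : ℕ) (hd : 2 ≤ d) (Z : X.IdealSheafData) (hZfin : (Z.support : Set X).Finite)
    (hZ : Subsingleton (Coh.HH X (CohB1.tensorMod (ClSub.idealMod Z) (P ι ((d : ℤ) - 2))) 0))
    (S : ShortComplex X.Modules) (hS : S.ShortExact) (h₁ : S.X₁ ≅ Coh.structureModule X)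
    (h₃ : S.X₃ ≅ CohB1.tensorMod (ClSub.idealMod Z) (P ι ((d : ℤ) - 1))) (h2 : Coh.IsCoh S.X₂)
    (hE : FlatMod.IsFinLocFreeOfRank 2 S.X₂) :
    _root_.ShStab.IsMuStable k X (P ι 1) S.X₂ n := by
  haveI : IsLocallyNoetherian X := Basic.locallyNoetherian (k := k)
  haveI : JacobsonSpace X := LocallyOfFiniteType.jacobsonSpace (X ↘ Spec (CommRingCat.of k))
  haveI := Groth.L21.RR.epi_toSubscheme Z
  let M := P ι ((d : ℤ) - 1)
  have hM : PicF.IsInvertible M := isInvertible_P ι _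
  let S₀ : ShortComplex X.Modules := ShortComplex.mk (ClSub.idealModι Z) (ClSub.toSubscheme Z) (kernel.condition _)
  have hS₀ : S₀.ShortExact :=
    { exact := ShortComplex.exact_of_f_is_kernel _ (kernelIsKernel _)
      mono_f := (inferInstance : Mono (kernel.ι (ClSub.toSubscheme Z)))
      epi_g := (inferInstance : Epi (ClSub.toSubscheme Z)) }
  let F := Groth.L00.Tensor.tensorRightF M
  have hS₁ : (S₀.map F).ShortExact := Groth.L03.Euler.shortExact_tensor hM hS₀
  haveI := hS₁.mono_f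
  haveI := hS₁.epi_g
  let c : CohB1.tensorMod (ClSub.idealMod Z) M ⟶ CohB1.tensorMod (Coh.structureModule X) M := (S₀.map F).f
  haveI : Mono c := hS₁.mono_f
  let j : S.X₃ ⟶ M := h₃.hom ≫ c ≫ (tensorUnitLeft M).hom
  have hj : topologicalKrullDim (CohB1.support (cokernel j)) + 2 ≤ (n : WithBot ℕ∞) := by
    have hz : topologicalKrullDim (CohB1.support (cokernel j)) ≤ 0 := by
      let e : cokernel j ≅ CohB1.tensorMod (ClSub.quotMod Z) M :=
        cokernelEpiComp _ _ ≪≫ cokernelCompIsIso _ _ ≪≫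
          (cokernelIsCokernel c).coconePointUniqueUpToIso hS₁.gIsCokernel
      refine le_trans (topologicalKrullDim_set_mono ?_) (dim_finite_closed Z.support.isClosed hZfin)
      refine ((Groth.L21.Mod.support_mono e.hom).trans (Groth.L03.Euler.support_tensor hM _).le).trans ?_
      intro x hx
      by_contra hxZ
      exact hx (Groth.L21.RR.subsingleton_stalk_quotMod Z hxZ)
    refine (add_le_add_left hz 2).trans ?_
    rw [zero_add]
    exact_mod_cast hn
  obtain ⟨em⟩ : Nonempty (M ≅ CohB1.tensorPow (P ι 1) (d - 1)) := by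
    obtain ⟨e⟩ := nonempty_P_pow ι (d - 1)
    exact ⟨eqToIso (congrArg (P ι) (show (d : ℤ) - 1 = ((d - 1 : ℕ) : ℤ) by omega)) ≪≫ e⟩
  refine isMuStable_of_ext hL (by omega) hX hS h₁ h2 hM j hj (a := 0) (b := d - 1)
    (tensorUnitRight M ≪≫ em) (by omega) ?_
  intro G γ _ _ hG hG0 pG pO hpG hpO
  haveI : Mono ((γ ≫ S.g) ≫ j) := mono_comp _ _
  haveI : Coh.IsQCoh M := (Groth.L18.Ample.isCoh_of_isInvertible hM).1
  obtain ⟨H, b, hH, hb, hbη, -, hext⟩ := exists_hull (k := k) hreg hG hG0 hM ((γ ≫ S.g) ≫ j)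
  have hHc := Groth.L18.Ample.isCoh_of_isInvertible hH
  obtain ⟨pH, hpH⟩ := exists_hilb (k := k) hL.1 hHc (dim_le hX H)
  haveI := hb
  obtain ⟨-, hμ⟩ := slope_le_of_mono hL (by omega) hX hG hHc (isPure_invertible (k := k) hX hH) hG0 b hbη hpG hpH
  obtain ⟨m, ⟨eH⟩⟩ := hPic H hH
  rcases le_or_gt m 0 with hm | hm
  · obtain ⟨q, rfl⟩ : ∃ q : ℕ, m = -(q : ℤ) := ⟨(-m).toNat, by omega⟩
    obtain ⟨e₁⟩ := nonempty_P_pow ι q
    obtain ⟨e₂⟩ := nonempty_P_add ι (show -(q : ℤ) + q = 0 by omega)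
    obtain ⟨e₃⟩ := nonempty_P_zero ι
    have := hatSlope_twist hL (by omega) hX hH (a := q) (b := 0)
      (tensorIso eH e₁.symm ≪≫ e₂ ≪≫ e₃) hpH hpO
    simp only [Nat.cast_zero, add_zero] at this
    have : (0 : ℚ) ≤ (q : ℚ) := q.cast_nonneg
    linarith
  exfalso
  obtain ⟨g', hg'⟩ := hext h2 (Rank2.isReflexive_of_rank h2 hE) γ
  let NN := CohB1.tensorMod (ClSub.idealMod Z) M
  let v : H ⟶ NN := g' ≫ S.g ≫ h₃.hom
  have hv : v ≠ 0 := fun h0 => hG0 (IsZero.of_mono_eq_zero ((γ ≫ S.g) ≫ j) (by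
    show (γ ≫ S.g) ≫ h₃.hom ≫ c ≫ (tensorUnitLeft M).hom = 0
    rw [← hg']
    calc _ = b ≫ v ≫ c ≫ (tensorUnitLeft M).hom := by simp only [v, Category.assoc]
      _ = 0 := by rw [h0, Limits.zero_comp, Limits.comp_zero]))
  haveI : Mono v := by
    have hCM : Mono (v ≫ c ≫ (tensorUnitLeft M).hom) := by
      refine Rank2.mono_of_ne_zero hH (torsionFree_of_invertible hM) fun h0 => hv ?_
      rwa [← cancel_mono (c ≫ (tensorUnitLeft M).hom), Limits.zero_comp]
    exact mono_of_mono v (c ≫ (tensorUnitLeft M).hom)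
  obtain ⟨p, rfl⟩ : ∃ p : ℕ, m = (p : ℤ) + 1 := ⟨(m - 1).toNat, by omega⟩
  obtain ⟨σ, hσ⟩ := exists_section_ne_zero ι p
  obtain ⟨e₁⟩ := nonempty_P_add ι (show (1 : ℤ) + -1 = 0 by omega)
  obtain ⟨e₂⟩ := nonempty_P_add ι (show (-1 : ℤ) + 1 = 0 by omega)
  obtain ⟨e₀⟩ := nonempty_P_zero ι
  obtain ⟨e₃⟩ := nonempty_P_add ι (show (p : ℤ) + 1 = (p : ℤ) + 1 from rfl)
  obtain ⟨e₄⟩ := nonempty_P_add ι (show (d : ℤ) - 1 + -1 = (d : ℤ) - 2 by omega)
  let w : P ι 1 ⟶ NN := (tensorUnitLeft (P ι 1)).inv ≫ tensorMap σ (𝟙 _) ≫ (e₃ ≪≫ eH.symm).hom ≫ v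
  have hw : w ≠ 0 := fun h0 => by
    refine Rank2.tensorMap_ne_zero (L := P ι (-1)) (e₁ ≪≫ e₀) hσ ?_
    rwa [← cancel_mono ((e₃ ≪≫ eH.symm).hom ≫ v), Limits.zero_comp,
      ← cancel_epi (tensorUnitLeft (P ι 1)).inv, Limits.comp_zero]
  let i : CohB1.tensorMod NN (P ι (-1)) ≅ CohB1.tensorMod (ClSub.idealMod Z) (P ι ((d : ℤ) - 2)) :=
    tensorAssoc _ _ _ ≪≫ tensorIso (Iso.refl _) e₄
  refine Rank2.not_subsingleton_H0 (s := (e₁ ≪≫ e₀).inv ≫ tensorMap w (𝟙 (P ι (-1))) ≫ i.hom) (fun h0 => ?_) hZ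
  refine Rank2.tensorMap_ne_zero (L := P ι 1) (e₂ ≪≫ e₀) hw ?_
  rwa [← cancel_mono i.hom, Limits.zero_comp, ← cancel_epi (e₁ ≪≫ e₀).inv, Limits.comp_zero]

end Groth.L03.ShStab.SerreSurface
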