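import Groth.Agent.L03.ShStab.SpreadSub
import Groth.Agent.L03.ShStab.FlatSec
import Groth.Agent.L03.ShStab.TwistFlat
import Groth.Agent.L03.ShStab.EulerConst
import Groth.Agent.L20.GenericFreeness
import Mathlib.RingTheory.Jacobson.Ring
import Mathlib.RingTheory.Localization.Away.Basic

/-!
# Specialisation of a submodule over a finitely generated algebra to a finite extension of the ground field
-/

set_option autoImplicit false
set_option linter.style.haveILetI false

universe u

open CategoryTheory CategoryTheory.Limits AlgebraicGeometry TopologicalSpace Opposite Polynomial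
open scoped TensorProduct

noncomputable section

namespace Groth.L03.ShStab.Special

open Groth.L16.AffineBC
open Groth.L17.BC (Sec)
open Groth.L03.ShStab.Lift

/-- Generic flatness of a coherent module along finitely many affine opens. -/
theorem exists_flat_away (A : Type u) [CommRing A] [IsDomain A] (X : Scheme.{u})
    [X.Over (Spec (CommRingCat.of A))] [LocallyOfFiniteType (X ↘ Spec (CommRingCat.of A))] {M : X.Modules}
    (hM : Coh.IsCoh M) (S : Finset X.affineOpens) :
    ∃ c : A, c ≠ 0 ∧ ∀ U ∈ S, Module.Flat (Localization.Away c)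
      (Localization.Away c ⊗[A] Sec (Coh.toGlobal (X ↘ Spec (CommRingCat.of A))) M U.1) := by
  classical
  have key : ∀ U : X.affineOpens, ∃ f : A, f ≠ 0 ∧ Module.Free (Localization.Away f)
      (Localization.Away f ⊗[A] Sec (Coh.toGlobal (X ↘ Spec (CommRingCat.of A))) M U.1) := by
    intro U
    letI : Algebra A Γ(X, U.1) := (scal A X U.1).toAlgebra
    haveI : Algebra.FiniteType A Γ(X, U.1) := by
      refine RingHom.finiteType_algebraMap.1 ?_
      show RingHom.FiniteType (((X ↘ Spec (CommRingCat.of A)).appLE ⊤ U.1 le_top).hom.comp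
        (Scheme.ΓSpecIso (CommRingCat.of A)).inv.hom)
      exact RingHom.FiniteType.comp ((X ↘ Spec (CommRingCat.of A)).finiteType_appLE (isAffineOpen_top _) U.2 le_top)
        (RingHom.FiniteType.of_surjective (Scheme.ΓSpecIso (CommRingCat.of A)).inv.hom
          (ConcreteCategory.bijective_of_isIso (Scheme.ΓSpecIso (CommRingCat.of A)).inv).2)
    letI : Module A Γ(M, U.1) := Module.compHom _ (scal A X U.1)
    haveI : IsScalarTower A Γ(X, U.1) Γ(M, U.1) := IsScalarTower.of_algebraMap_smul fun _ _ => rfl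
    haveI := Groth.L20.ModStalk.finite_sections _ hM U.2
    obtain ⟨f, hf, hfree, -⟩ := Groth.L20.GF.exists_free_and_nearlyFP (R := A) (S := Γ(X, U.1)) Γ(M, U.1)
    exact ⟨f, hf, hfree⟩
  choose f hf hfree using key
  refine ⟨∏ U ∈ S, f U, Finset.prod_ne_zero_iff.2 fun U _ => hf U, fun U hU => ?_⟩
  haveI := hfree U
  have hu : IsUnit (algebraMap A (Localization.Away (∏ U ∈ S, f U)) (f U)) :=
    isUnit_of_dvd_unit (map_dvd _ (Finset.dvd_prod_of_mem f hU)) (IsLocalization.Away.algebraMap_isUnit _)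
  haveI := Groth.L20.GF.free_of_isUnit (Localization.Away (∏ U ∈ S, f U)) hu
    (Sec (Coh.toGlobal (X ↘ Spec (CommRingCat.of A))) M U.1)
  infer_instance

variable {X Y Z : Scheme.{u}}

/-- Twists commute with pullback. -/
def twistPullIso (v : Y ⟶ Z) (gz : Z ⟶ X) {gy : Y ⟶ X} (hv : v ≫ gz = gy) (L : X.Modules) (G : Z.Modules)
    (m : ℕ) :
    CohB1.tensorMod ((Scheme.Modules.pullback v).obj G) (CohB1.tensorPow ((Scheme.Modules.pullback gy).obj L) m) ≅
      (Scheme.Modules.pullback v).obj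
        (CohB1.tensorMod G (CohB1.tensorPow ((Scheme.Modules.pullback gz).obj L) m)) :=
  Groth.L00.Tensor.tensorIso (Iso.refl _)
      ((Groth.L18.Ample.pullPow gy L m).symm ≪≫ (θ v gz hv (CohB1.tensorPow L m)).symm ≪≫
        (Scheme.Modules.pullback v).mapIso (Groth.L18.Ample.pullPow gz L m)) ≪≫
    Groth.L29.DC.PullTensor.pullTensor v G _

/-- The Hilbert function of a base change to a field of a flat family. -/
theorem eval_eq_euler {B : Type u} [CommRing B] {K : Type u} [Field K] [Algebra B K] (gz : Z ⟶ X)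
    [Y.Over (Spec (CommRingCat.of K))] {gy : Y ⟶ X} (v : Y ⟶ Z) (hv : v ≫ gz = gy)
    [IsProper (Y ↘ Spec (CommRingCat.of K))] (L : X.Modules) {G : Z.Modules} {F : Y.Modules}
    (e : (Scheme.Modules.pullback v).obj G ≅ F) (m : ℕ) {z : ℤ}
    (hz : Curv2.euler K Y ((Scheme.Modules.pullback v).obj
      (CohB1.tensorMod G (CohB1.tensorPow ((Scheme.Modules.pullback gz).obj L) m))) = z) :
    Curv2.euler K Y (CohB1.tensorMod F (CohB1.tensorPow ((Scheme.Modules.pullback gy).obj L) m)) = z := by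
  rw [← hz]
  exact Groth.L03.Euler.euler_iso
    (Groth.L00.Tensor.tensorIso e.symm (Iso.refl _) ≪≫ twistPullIso v gz hv L G m)

variable {k : Type u} [Field k] {X : Scheme.{u}} [X.Over (Spec (CommRingCat.of k))]
  [IsProper (X ↘ Spec (CommRingCat.of k))]

omit [IsProper (X ↘ Spec (CommRingCat.of k))] in
/-- Flatness over the base of the pullback of a module from the ground field. -/
theorem isFlatOver_pull {B : Type u} [CommRing B] [Algebra k B] {Z : Scheme.{u}} (g : Z ⟶ X)
    (fz : Z ⟶ Spec (CommRingCat.of B))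
    (sq : IsPullback g fz (X ↘ Spec (CommRingCat.of k)) (Spec.map (CommRingCat.ofHom (algebraMap k B))))
    (E : X.Modules) [Coh.IsQCoh E] : FlatMod.IsFlatOver fz ((Scheme.Modules.pullback g).obj E) :=
  Groth.L29.DC.RelBC.isFlatOver_pullback sq (TwistFlat.isFlatOver_field _ E)

/-- Isomorphic modules have isomorphic sections. -/
theorem flat_sec_of_iso {A : Type u} [CommRing A] {Z : Scheme.{u}} (ρ : A →+* Coh.Γtop Z) {M N : Z.Modules}
    (e : M ≅ N) (V : Z.Opens) (h : Module.Flat A (Sec ρ M V)) : Module.Flat A (Sec ρ N V) := by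
  haveI := h
  refine Module.Flat.of_linearEquiv (LinearEquiv.ofLinearMap (FlatSec.secMap ρ e.inv V) (FlatSec.secMap ρ e.hom V) ?_ ?_)
  · ext s
    exact congrArg (fun φ : M ⟶ M => φ.app V s) e.hom_inv_id
  · ext s
    exact congrArg (fun φ : N ⟶ N => φ.app V s) e.inv_hom_id

theorem exists_maximal_finite (B : Type u) [CommRing B] [Nontrivial B] [Algebra k B] [Algebra.FiniteType k B] :
    ∃ (m : Ideal B) (_ : m.IsMaximal), Module.Finite k (B ⧸ m) := by
  obtain ⟨m, hm⟩ := Ideal.exists_maximal B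
  haveI := hm
  letI := Ideal.Quotient.field m
  haveI : Algebra.FiniteType k (B ⧸ m) :=
    Algebra.FiniteType.of_surjective (Ideal.Quotient.mkₐ k m) (Ideal.Quotient.mkₐ_surjective k m)
  exact ⟨m, hm, finite_of_finite_type_of_isJacobsonRing k (B ⧸ m)⟩

/-- A flat family of submodules specialises to a finite extension of the ground field. -/
theorem exists_special {L E : X.Modules} (hL : PicF.IsInvertible L) (hE : Coh.IsCoh E)
    {A : Type u} [CommRing A] [IsDomain A] [Algebra k A] [Algebra.FiniteType k A]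
    {K : Type u} [Field K] [Algebra k K] [Algebra A K] [IsScalarTower k A K]
    (hinj : Function.Injective (algebraMap A K))
    (h : Xb k K X ⟶ Xb k A X) (hh : h ≫ gb k A X = gb k K X)
    (hw : IsPullback h (Xb k K X ↘ Spec (CommRingCat.of K)) (Xb k A X ↘ Spec (CommRingCat.of A))
        (Spec.map (CommRingCat.ofHom (algebraMap A K))))
    {G : (Xb k A X).Modules} (κ : G ⟶ (Scheme.Modules.pullback (gb k A X)).obj E) [Mono κ] (hG : Coh.IsCoh G)
    {F : (Xb k K X).Modules} (eF : (Scheme.Modules.pullback h).obj G ≅ F) :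
    ∃ (k' : Type u) (_ : Field k') (_ : Algebra k k') (_ : Module.Finite k k') (F₀ : (Xb k k' X).Modules)
      (ι₀ : F₀ ⟶ (Scheme.Modules.pullback (gb k k' X)).obj E), Mono ι₀ ∧ Coh.IsCoh F₀ ∧
      ∀ m : ℕ, Curv2.euler k' (Xb k k' X)
          (CohB1.tensorMod F₀ (CohB1.tensorPow ((Scheme.Modules.pullback (gb k k' X)).obj L) m)) =
        Curv2.euler K (Xb k K X)
          (CohB1.tensorMod F (CohB1.tensorPow ((Scheme.Modules.pullback (gb k K X)).obj L) m)) := by
  classical
  haveI : IsNoetherianRing A := Algebra.FiniteType.isNoetherianRing k A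
  haveI : Coh.IsQCoh E := hE.1
  haveI : IsLocallyNoetherian X := Basic.locallyNoetherian (k := k)
  let fA := Xb k A X ↘ Spec (CommRingCat.of A)
  haveI : IsLocallyNoetherian (Xb k A X) := LocallyOfFiniteType.isLocallyNoetherian fA
  haveI : CompactSpace (Xb k A X) := QuasiCompact.compactSpace_of_compactSpace fA
  obtain ⟨S, hS⟩ := isCompact_univ.elim_finite_subcover (fun V : (Xb k A X).affineOpens => (V.1 : Set (Xb k A X)))
    (fun V => V.1.2) fun x _ => by
      obtain ⟨_, ⟨V, hV, rfl⟩, hxV, -⟩ :=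
        (Xb k A X).isBasis_affineOpens.exists_subset_of_mem_open (Set.mem_univ x) isOpen_univ
      exact Set.mem_iUnion.2 (⟨⟨V, hV⟩, hxV⟩ : ∃ W : (Xb k A X).affineOpens, x ∈ W.1)
  have hcov : ∀ x : Xb k A X, ∃ U : S, x ∈ U.1.1 := fun x => by
    obtain ⟨V, hVS, hx⟩ := Set.mem_iUnion₂.1 (hS (Set.mem_univ x))
    exact ⟨⟨V, hVS⟩, hx⟩
  have hEA : Coh.IsCoh ((Scheme.Modules.pullback (gb k A X)).obj E) := isCoh_pullback (gb k A X) hE
  haveI : Coh.IsQCoh G := hG.1
  haveI : Coh.IsQCoh ((Scheme.Modules.pullback (gb k A X)).obj E) := hEA.1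
  have hQ : Coh.IsCoh (cokernel κ) := (Groth.L16.CohKernel.isCoh_kernel_cokernel hG hEA κ).2
  haveI : Coh.IsQCoh (cokernel κ) := hQ.1
  obtain ⟨c, hc, hflat⟩ := exists_flat_away A (Xb k A X) hQ S
  let A' := Localization.Away c
  haveI : IsDomain A' := IsLocalization.isDomain_localization
    (powers_le_nonZeroDivisors_of_noZeroDivisors hc)
  haveI : Algebra.FiniteType A A' := IsLocalization.finiteType_of_monoid_fg (Submonoid.powers c) A'
  haveI : Algebra.FiniteType k A' := Algebra.FiniteType.trans ‹Algebra.FiniteType k A› inferInstance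
  haveI : IsNoetherianRing A' := Algebra.FiniteType.isNoetherianRing k A'
  -- the localised family
  let X1 := Xb A A' (Xb k A X)
  let g1 := gb A A' (Xb k A X)
  let f1 := X1 ↘ Spec (CommRingCat.of A')
  have s1 : IsPullback g1 f1 fA (Spec.map (CommRingCat.ofHom (algebraMap A A'))) := IsPullback.of_hasPullback _ _
  have t1 : IsPullback (g1 ≫ gb k A X) f1 (X ↘ Spec (CommRingCat.of k))
      (Spec.map (CommRingCat.ofHom (algebraMap k A'))) :=
    specMap_comp k A A' ▸ s1.paste_horiz (IsPullback.of_hasPullback _ _)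
  haveI : IsProper f1 := MorphismProperty.of_isPullback (P := @IsProper) t1 inferInstance
  haveI : IsLocallyNoetherian X1 := LocallyOfFiniteType.isLocallyNoetherian f1
  haveI : Flat g1 := MorphismProperty.of_isPullback (P := @Flat) s1.flip
    (HasRingHomProperty.Spec_iff.2 (RingHom.flat_algebraMap_iff.2 (IsLocalization.flat A' (Submonoid.powers c))))
  let G1 := (Scheme.Modules.pullback g1).obj G
  let E1 := (Scheme.Modules.pullback g1).obj ((Scheme.Modules.pullback (gb k A X)).obj E)
  let κ1 : G1 ⟶ E1 := (Scheme.Modules.pullback g1).map κ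
  haveI : Mono κ1 := BC.mono_pullback g1 κ
  have hG1 : Coh.IsCoh G1 := isCoh_pullback g1 hG
  haveI : Coh.IsQCoh G1 := hG1.1
  haveI : Coh.IsQCoh E1 := (isCoh_pullback g1 hEA).1
  have hU1 : ∀ U : S, IsAffineOpen (g1 ⁻¹ᵁ U.1.1) := fun U => U.1.2.preimage g1
  have hflE : ∀ U : S, Module.Flat A' (Sec (Coh.toGlobal f1) E1 (g1 ⁻¹ᵁ U.1.1)) := fun U =>
    Groth.L17.BC.flat_sec f1 E1 (Groth.L29.DC.RelBC.isFlatOver_of_iso f1
      ((Scheme.Modules.pullbackComp g1 (gb k A X)).app E).symm (isFlatOver_pull _ f1 t1 E)) (hU1 U)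
  have hflQ : ∀ U : S, Module.Flat A' (Sec (Coh.toGlobal f1) (cokernel κ1) (g1 ⁻¹ᵁ U.1.1)) := fun U => by
    haveI := (Scheme.Modules.pullbackPushforwardAdjunction g1).leftAdjoint_preservesColimits
    exact flat_sec_of_iso _ (PreservesCokernel.iso (Scheme.Modules.pullback g1) κ) _
      (FlatSec.flat_sec_pullback A A' (Xb k A X) (cokernel κ) U.1.2 (hflat U.1 U.2))
  have hflG : FlatMod.IsFlatOver f1 G1 :=
    FlatSec.isFlatOver_left f1 κ1 (fun U : S => g1 ⁻¹ᵁ U.1.1) hU1 (fun x => hcov (g1 x)) hflE hflQ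
  let L1 := (Scheme.Modules.pullback (g1 ≫ gb k A X)).obj L
  have hL1 : PicF.IsInvertible L1 := Groth.L18.Ample.isInvertible_pullback _ hL
  have he : ∀ m : ℕ, ∃ z : ℤ, ∀ (K' : Type u) [Field K'] [Algebra A' K'] (X' : Scheme.{u})
      [X'.Over (Spec (CommRingCat.of K'))] (v : X' ⟶ X1),
      IsPullback v (X' ↘ Spec (CommRingCat.of K')) f1 (Spec.map (CommRingCat.ofHom (algebraMap A' K'))) →
      Curv2.euler K' X' ((Scheme.Modules.pullback v).obj (CohB1.tensorMod G1 (CohB1.tensorPow L1 m))) = z := by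
    intro m
    have hN := Groth.L18.Ample.isInvertible_tensorPow hL1 m
    have hc' := Groth.L03.Euler.isCoh_tensor hN hG1
    haveI : Coh.IsQCoh (CohB1.tensorMod G1 (CohB1.tensorPow L1 m)) := hc'.1
    obtain ⟨md⟩ := Groth.L17.BC.nonempty_model f1 _ hc' fun V hV =>
      Groth.L17.BC.flat_sec f1 _ (TwistFlat.isFlatOver_tensor f1 hN hflG) hV
    exact EulerConst.exists_euler_eq md
  choose z hz using he
  -- the point over `K`
  have hu : IsUnit (algebraMap A K c) := isUnit_iff_ne_zero.2 (by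
    rw [Ne, map_eq_zero_iff _ hinj]; exact hc)
  letI : Algebra A' K := (IsLocalization.Away.lift c hu).toAlgebra
  haveI : IsScalarTower A A' K := IsScalarTower.of_algebraMap_eq fun a => (IsLocalization.Away.lift_eq c hu a).symm
  haveI : IsScalarTower k A' K := IsScalarTower.of_algebraMap_eq fun a => by
    rw [IsScalarTower.algebraMap_apply k A A', ← IsScalarTower.algebraMap_apply A A' K,
      ← IsScalarTower.algebraMap_apply k A K]
  have hwK : IsPullback h (Xb k K X ↘ Spec (CommRingCat.of K)) fA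
      (Spec.map (CommRingCat.ofHom (algebraMap A' K)) ≫ Spec.map (CommRingCat.ofHom (algebraMap A A'))) :=
    (specMap_comp A A' K).symm ▸ hw
  have sK := IsPullback.of_right' hwK s1
  set vK := s1.lift h ((Xb k K X ↘ Spec (CommRingCat.of K)) ≫ Spec.map (CommRingCat.ofHom (algebraMap A' K)))
    (by rw [hwK.w, Category.assoc]) with hvK
  have hvg : vK ≫ g1 = h := s1.lift_fst _ _ _
  have hvK' : vK ≫ g1 ≫ gb k A X = gb k K X := by rw [← Category.assoc, hvg, hh]
  have eK : (Scheme.Modules.pullback vK).obj G1 ≅ F := θ vK g1 hvg G ≪≫ eF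
  -- the closed point
  obtain ⟨p, hp, hfin⟩ := exists_maximal_finite (k := k) A'
  haveI := hp
  letI := Ideal.Quotient.field p
  haveI := hfin
  haveI : IsScalarTower k A' (A' ⧸ p) := inferInstance
  let X2 := Xb k (A' ⧸ p) X
  have s2 : IsPullback (gb k (A' ⧸ p) X) (X2 ↘ Spec (CommRingCat.of (A' ⧸ p))) (X ↘ Spec (CommRingCat.of k))
      (Spec.map (CommRingCat.ofHom (algebraMap A' (A' ⧸ p))) ≫ Spec.map (CommRingCat.ofHom (algebraMap k A'))) :=
    (specMap_comp k A' (A' ⧸ p)).symm ▸ IsPullback.of_hasPullback _ _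
  have sk := IsPullback.of_right' s2 t1
  set v := t1.lift (gb k (A' ⧸ p) X)
    ((X2 ↘ Spec (CommRingCat.of (A' ⧸ p))) ≫ Spec.map (CommRingCat.ofHom (algebraMap A' (A' ⧸ p))))
    (by rw [s2.w, Category.assoc]) with hv_def
  have hv : v ≫ g1 ≫ gb k A X = gb k (A' ⧸ p) X := t1.lift_fst _ _ _
  -- the special submodule
  haveI : Mono ((Scheme.Modules.pullback v).map κ1) := by
    let w := sk.isoPullback
    haveI := FlatSec.mono_pullback_of_flat A' (A' ⧸ p) X1 κ1 (fun U : S => g1 ⁻¹ᵁ U.1.1) hU1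
      (fun x => hcov (g1 x)) hflQ
    haveI := BC.mono_pullback w.hom ((Scheme.Modules.pullback (gb A' (A' ⧸ p) X1)).map κ1)
    have hw' : w.hom ≫ gb A' (A' ⧸ p) X1 = v := sk.isoPullback_hom_fst
    have he := NatIso.naturality_1 (Scheme.Modules.pullbackComp w.hom (gb A' (A' ⧸ p) X1) ≪≫
      Scheme.Modules.pullbackCongr hw') κ1
    haveI : Mono ((Scheme.Modules.pullback (gb A' (A' ⧸ p) X1) ⋙ Scheme.Modules.pullback w.hom).map κ1) :=
      inferInstanceAs (Mono ((Scheme.Modules.pullback w.hom).map ((Scheme.Modules.pullback (gb A' (A' ⧸ p) X1)).map κ1)))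
    rw [← he]
    infer_instance
  let ι₀ : (Scheme.Modules.pullback v).obj G1 ⟶ (Scheme.Modules.pullback (gb k (A' ⧸ p) X)).obj E :=
    (Scheme.Modules.pullback v).map κ1 ≫
      (Scheme.Modules.pullback v).map ((Scheme.Modules.pullbackComp g1 (gb k A X)).hom.app E) ≫
      (θ v (g1 ≫ gb k A X) hv E).hom
  refine ⟨A' ⧸ p, inferInstance, inferInstance, hfin, _, ι₀, mono_comp _ _, isCoh_pullback v hG1, fun m => ?_⟩
  rw [eval_eq_euler (B := A') (g1 ≫ gb k A X) vK hvK' L eK m (hz m K (Xb k K X) vK sK),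
    eval_eq_euler (B := A') (g1 ≫ gb k A X) v hv L (Iso.refl _) m (hz m (A' ⧸ p) X2 v sk)]

end Groth.L03.ShStab.Special
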