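import Groth.Agent.L03.ShStab.Lift
import Groth.Agent.L03.ShStab.BC
import Groth.Agent.L17.Approx.Pull
import Groth.Agent.L16.HomSh.ModPowSect
import Groth.Agent.L20.ModStalk
import Groth.Agent.L17.PushQCoh
import Mathlib.RingTheory.Adjoin.FG
import Mathlib.RingTheory.Localization.FractionRing

/-!
# A coherent submodule over an extension field is defined over a finitely generated algebra
-/

set_option autoImplicit false
set_option linter.style.haveILetI false

universe u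

open CategoryTheory CategoryTheory.Limits AlgebraicGeometry TopologicalSpace Opposite
open scoped TensorProduct

noncomputable section

namespace Groth.L03.ShStab.Spread

open Groth.L16.AffineBC
open Groth.L18.Frame (rs ro pull pull_smul rs_self)
open Groth.L03.ShStab.Lift

variable {k : Type u} [Field k] {X : Scheme.{u}} [X.Over (Spec (CommRingCat.of k))]

/-- A domain inside a field has a flat inclusion. -/
theorem flat_of_injective {B : Type u} [CommRing B] [IsDomain B] {K : Type u} [Field K] [Algebra B K]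
    (hinj : Function.Injective (algebraMap B K)) : Module.Flat B K := by
  letI : Algebra (FractionRing B) K := (IsFractionRing.lift (K := FractionRing B) hinj).toAlgebra
  haveI : IsScalarTower B (FractionRing B) K :=
    IsScalarTower.of_algebraMap_eq fun a => (IsFractionRing.lift_algebraMap (K := FractionRing B) hinj a).symm
  exact Module.Flat.trans B (FractionRing B) K

/-- Sections of the pullback are finite sums of multiples of pulled back sections. -/
theorem exists_coeff {K : Type u} [Field K] [Algebra k K] (E : X.Modules) [Coh.IsQCoh E] {U : X.Opens}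
    (hU : IsAffineOpen U) (s : Γ((Scheme.Modules.pullback (gb k K X)).obj E, gb k K X ⁻¹ᵁ U)) :
    ∃ t : Finset (K × Γ(E, U)),
      s = ∑ p ∈ t, scal K (Xb k K X) (gb k K X ⁻¹ᵁ U) p.1 • pull (gb k K X) E U p.2 := by
  letI := Module.compHom Γ(E, U) (scal k X U)
  obtain ⟨e, he⟩ := exists_equiv k K X E hU
  obtain ⟨z, hz⟩ := e.surjective s
  obtain ⟨t, ht⟩ := TensorProduct.exists_finset z
  refine ⟨t, ?_⟩
  rw [← hz, ht, map_sum]
  exact Finset.sum_congr rfl fun p _ => (he p.1 p.2).trans (Coh.smulAb_app _ _ _ _)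

theorem pull_sum {T S : Scheme.{u}} (h : T ⟶ S) (M : S.Modules) (V : S.Opens) {ι : Type*} (t : Finset ι)
    (y : ι → Γ(M, V)) : pull h M V (∑ i ∈ t, y i) = ∑ i ∈ t, pull h M V (y i) :=
  map_sum (((Scheme.Modules.pullbackPushforwardAdjunction h).unit.app M).app V).hom _ _

theorem θ_pull_sum {B C : Type u} [CommRing B] [CommRing C] [Algebra B C] {T S : Scheme.{u}}
    [S.Over (Spec (CommRingCat.of B))] [T.Over (Spec (CommRingCat.of C))] (h : T ⟶ S) (g : S ⟶ X)
    {gc : T ⟶ X} (hh : h ≫ g = gc)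
    (w : h ≫ (S ↘ Spec (CommRingCat.of B)) =
      (T ↘ Spec (CommRingCat.of C)) ≫ Spec.map (CommRingCat.ofHom (algebraMap B C)))
    (E : X.Modules) (U : X.Opens) (e : h ⁻¹ᵁ (g ⁻¹ᵁ U) ≤ gc ⁻¹ᵁ U) {ι : Type*} (t : Finset ι)
    (b : ι → B) (m : ι → Γ(E, U)) :
    (θ h g hh E).hom.app (h ⁻¹ᵁ (g ⁻¹ᵁ U))
        (pull h _ (g ⁻¹ᵁ U) (∑ i ∈ t, scal B S (g ⁻¹ᵁ U) (b i) • pull g E U (m i))) =
      rs _ e (∑ i ∈ t, scal C T (gc ⁻¹ᵁ U) (algebraMap B C (b i)) • pull gc E U (m i)) := by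
  rw [pull_sum, map_sum]
  refine Eq.trans ?_ (map_sum (((Scheme.Modules.pullback gc).obj E).presheaf.map (homOfLE e).op).hom _ _).symm
  refine Finset.sum_congr rfl fun i _ => ?_
  refine (θ_pull h g hh w E U e (b i) (m i)).trans ?_
  refine Eq.trans ?_ (Groth.L18.Frame.rs_smul _ _ _ _).symm
  refine congrArg (fun r : Γ(T, h ⁻¹ᵁ (g ⁻¹ᵁ U)) => r • rs _ e (pull gc E U (m i))) ?_
  show _ = ((T.presheaf.map (homOfLE le_top).op) ≫ T.presheaf.map (homOfLE e).op) _
  rw [← Functor.map_comp]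
  rfl

/-- Surjectivity on sections from generators. -/
theorem surjective_app_of_gen {T : Scheme.{u}} {P Q : T.Modules} (ψ : P ⟶ Q) {W W' : T.Opens} (e : W = W')
    (s : Set Γ(Q, W')) (hs : Submodule.span Γ(T, W') s = ⊤) (h : ∀ a ∈ s, ∃ z, ψ.app W z = rs Q e.le a) :
    Function.Surjective (ψ.app W) := by
  subst e
  intro x
  have hx : x ∈ Submodule.span Γ(T, W) s := hs ▸ Submodule.mem_top
  induction hx using Submodule.span_induction with
  | mem z hz => simpa [rs_self] using h z hz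
  | zero => exact ⟨0, map_zero _⟩
  | add a b _ _ ha hb =>
    obtain ⟨za, hza⟩ := ha
    obtain ⟨zb, hzb⟩ := hb
    exact ⟨za + zb, by rw [map_add, hza, hzb]⟩
  | smul r a _ ha =>
    obtain ⟨za, hza⟩ := ha
    exact ⟨r • za, by rw [Scheme.Modules.Hom.app_smul, hza]⟩

/-- A coherent submodule of a pullback along a flat affine morphism, generated by pulled back sections, is a
pullback. -/
theorem exists_descent {T S : Scheme.{u}} [IsLocallyNoetherian T] [IsLocallyNoetherian S] (h : T ⟶ S)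
    [IsAffineHom h] [Flat h] {EA : S.Modules} (hEA : Coh.IsCoh EA) {P : T.Modules} (hP : Coh.IsCoh P)
    (Θ : (Scheme.Modules.pullback h).obj EA ≅ P) {F : T.Modules} (ι : F ⟶ P) [Mono ι] (hF : Coh.IsCoh F)
    {κ : Type*} (V : κ → S.Opens) (hV : ∀ i, IsAffineOpen (V i)) (hcov : ∀ y : S, ∃ i, y ∈ V i)
    (hgen : ∀ i, ∃ s : Set Γ(F, h ⁻¹ᵁ V i), Submodule.span Γ(T, h ⁻¹ᵁ V i) s = ⊤ ∧
      ∀ a ∈ s, ∃ y : Γ(EA, V i), Θ.hom.app (h ⁻¹ᵁ V i) (pull h EA (V i) y) = ι.app (h ⁻¹ᵁ V i) a) :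
    ∃ (G : S.Modules) (j : G ⟶ EA), Mono j ∧ Coh.IsCoh G ∧
      Nonempty ((Scheme.Modules.pullback h).obj G ≅ F) := by
  haveI : Coh.IsQCoh EA := hEA.1
  haveI : Coh.IsQCoh P := hP.1
  haveI : Coh.IsQCoh (cokernel ι) := (Groth.L16.CohKernel.isCoh_kernel_cokernel hF hP ι).2.1
  haveI : Coh.IsQCoh ((Coh.push h).obj (cokernel ι)) := Groth.L16.QcqsPush.isQCoh_push (cokernel ι) h
  let π := Θ.hom ≫ cokernel.π ι
  let adj := Scheme.Modules.pullbackPushforwardAdjunction h
  let q : EA ⟶ (Coh.push h).obj (cokernel ι) := adj.homEquiv _ _ π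
  have hG : Coh.IsCoh (kernel q) := Groth.L16.CohSupport.isCoh_kernel hEA q
  haveI := BC.mono_pullback h (kernel.ι q)
  have hzero : ((Scheme.Modules.pullback h).map (kernel.ι q) ≫ Θ.hom) ≫ cokernel.π ι = 0 := by
    refine (Category.assoc _ _ _).trans ((adj.homEquiv (kernel q) (cokernel ι)).injective ?_)
    rw [Adjunction.homEquiv_naturality_left]
    refine (kernel.condition q).trans ?_
    symm
    haveI : (Scheme.Modules.pushforward h).Additive := Groth.L17.PushQCoh.additive_push h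
    rw [Adjunction.homEquiv_unit, Functor.map_zero, Limits.comp_zero]
  let ψ := Abelian.monoLift ι _ hzero
  have hψ : ψ ≫ ι = (Scheme.Modules.pullback h).map (kernel.ι q) ≫ Θ.hom := Abelian.monoLift_comp _ _ _
  haveI : Mono ψ := by
    haveI : Mono (ψ ≫ ι) := hψ ▸ mono_comp _ _
    exact mono_of_mono ψ ι
  haveI : Coh.IsQCoh F := hF.1
  haveI : Coh.IsQCoh ((Scheme.Modules.pullback h).obj (kernel q)) := (isCoh_pullback h hG).1
  haveI : Epi ψ := by
    refine Groth.L17.Approx.epi_of_surjective_cover ψ (fun i => h ⁻¹ᵁ V i) (fun i => (hV i).preimage h)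
      (fun y => hcov (h y)) fun i => ?_
    obtain ⟨s, hs, hy⟩ := hgen i
    refine surjective_app_of_gen ψ rfl s hs fun a ha => ?_
    rw [rs_self]
    obtain ⟨y, hy⟩ := hy a ha
    have e1 : q.app (V i) y = π.app (h ⁻¹ᵁ V i) (pull h EA (V i) y) :=
      congrArg (fun φ : EA ⟶ (Coh.push h).obj (cokernel ι) => φ.app (V i) y)
        (adj.homEquiv_unit EA (cokernel ι) π)
    have hq : q.app (V i) y = 0 := by
      rw [e1]
      show (cokernel.π ι).app _ (Θ.hom.app _ (pull h EA (V i) y)) = 0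
      rw [hy]
      exact congrArg (fun φ : F ⟶ cokernel ι => φ.app (h ⁻¹ᵁ V i) a) (cokernel.condition ι)
    obtain ⟨z, hz⟩ := Groth.L16.HomSh.exists_kernel_lift q y hq
    refine ⟨pull h (kernel q) (V i) z, CohSub.app_injective ι _ ?_⟩
    rw [← hy, ← hz, ← Groth.L17.BC.PullSec.map_pull]
    exact congrArg (fun φ : (Scheme.Modules.pullback h).obj (kernel q) ⟶ P =>
      φ.app (h ⁻¹ᵁ V i) (pull h (kernel q) (V i) z)) hψ
  haveI : IsIso ψ := isIso_of_mono_of_epi ψ
  exact ⟨kernel q, kernel.ι q, inferInstance, hG, ⟨asIso ψ⟩⟩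

theorem span_rs_image {T : Scheme.{u}} (Q : T.Modules) {W W' : T.Opens} (e : W = W') (s : Set Γ(Q, W'))
    (hs : Submodule.span Γ(T, W') s = ⊤) : Submodule.span Γ(T, W) (rs Q e.le '' s) = ⊤ := by
  subst e
  have : (fun a : Γ(Q, W) => rs Q (le_refl W) a) = id := funext fun a => rs_self Q _ a
  rw [show rs Q (le_refl W) '' s = (fun a : Γ(Q, W) => rs Q (le_refl W) a) '' s from rfl, this, Set.image_id]
  exact hs

/-- A combination with coefficients from the smaller ring comes from the smaller scheme. -/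
theorem exists_preimage {B C : Type u} [CommRing B] [CommRing C] [Algebra B C] {T S : Scheme.{u}}
    [S.Over (Spec (CommRingCat.of B))] [T.Over (Spec (CommRingCat.of C))] (h : T ⟶ S) (g : S ⟶ X)
    {gc : T ⟶ X} (hh : h ≫ g = gc)
    (w : h ≫ (S ↘ Spec (CommRingCat.of B)) =
      (T ↘ Spec (CommRingCat.of C)) ≫ Spec.map (CommRingCat.ofHom (algebraMap B C)))
    (E : X.Modules) (U : X.Opens) (e : h ⁻¹ᵁ (g ⁻¹ᵁ U) ≤ gc ⁻¹ᵁ U) (t : Finset (C × Γ(E, U)))
    (hc : ∀ p : {p // p ∈ t}, ∃ b : B, algebraMap B C b = p.1.1) :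
    ∃ y, (θ h g hh E).hom.app (h ⁻¹ᵁ (g ⁻¹ᵁ U)) (pull h _ (g ⁻¹ᵁ U) y) =
      rs _ e (∑ p ∈ t, scal C T (gc ⁻¹ᵁ U) p.1 • pull gc E U p.2) := by
  choose b hb using hc
  refine ⟨_, (θ_pull_sum h g hh w E U e t.attach b fun p => p.1.2).trans ?_⟩
  rw [← Finset.sum_attach t]
  simp only [hb]

/-- Descent of a coherent submodule along a factorisation of the projection. -/
theorem exists_descent_of_coeff {B C : Type u} [CommRing B] [CommRing C] [Algebra B C] {T S : Scheme.{u}}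
    [IsLocallyNoetherian T] [IsLocallyNoetherian S] [IsLocallyNoetherian X]
    [S.Over (Spec (CommRingCat.of B))] [T.Over (Spec (CommRingCat.of C))] (h : T ⟶ S) [IsAffineHom h]
    [Flat h] (g : S ⟶ X) [IsAffineHom g] {gc : T ⟶ X} (hh : h ≫ g = gc)
    (w : h ≫ (S ↘ Spec (CommRingCat.of B)) =
      (T ↘ Spec (CommRingCat.of C)) ≫ Spec.map (CommRingCat.ofHom (algebraMap B C)))
    {E : X.Modules} (hE : Coh.IsCoh E) {F : T.Modules} (ι : F ⟶ (Scheme.Modules.pullback gc).obj E) [Mono ι]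
    (hF : Coh.IsCoh F) {κ : Type*} (U : κ → X.Opens) (hU : ∀ i, IsAffineOpen (U i))
    (hcov : ∀ y : X, ∃ i, y ∈ U i)
    (hgen : ∀ i, ∃ s : Set Γ(F, gc ⁻¹ᵁ U i), Submodule.span Γ(T, gc ⁻¹ᵁ U i) s = ⊤ ∧
      ∀ a ∈ s, ∃ t : Finset (C × Γ(E, U i)),
        ι.app (gc ⁻¹ᵁ U i) a = ∑ p ∈ t, scal C T (gc ⁻¹ᵁ U i) p.1 • pull gc E (U i) p.2 ∧
          ∀ p : {p // p ∈ t}, ∃ b : B, algebraMap B C b = p.1.1) :
    ∃ (G : S.Modules) (j : G ⟶ (Scheme.Modules.pullback g).obj E), Mono j ∧ Coh.IsCoh G ∧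
      Nonempty ((Scheme.Modules.pullback h).obj G ≅ F) := by
  have eW : ∀ i, gc ⁻¹ᵁ U i = h ⁻¹ᵁ (g ⁻¹ᵁ U i) := fun i => by rw [← Scheme.Hom.comp_preimage, hh]
  refine exists_descent h (isCoh_pullback g hE) (isCoh_pullback gc hE) (θ h g hh E) ι hF
    (fun i => g ⁻¹ᵁ U i) (fun i => (hU i).preimage g) (fun y => hcov (g y)) fun i => ?_
  obtain ⟨s, hs, hco⟩ := hgen i
  refine ⟨_, span_rs_image F (eW i).symm s hs, ?_⟩
  rintro _ ⟨a, ha, rfl⟩
  obtain ⟨t, ht, hc⟩ := hco a ha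
  obtain ⟨y, hy⟩ := exists_preimage h g hh w E (U i) (eW i).ge t hc
  exact ⟨y, hy.trans ((congrArg (rs _ (eW i).ge) ht.symm).trans
    (Groth.L17.BC.PullSec.app_rs ι (eW i).ge a).symm)⟩

variable [IsProper (X ↘ Spec (CommRingCat.of k))] {K : Type u} [Field K] [Algebra k K]

/-- A coherent submodule over the extension comes from a finitely generated algebra. -/
theorem exists_spread {E : X.Modules} (hE : Coh.IsCoh E) {F : (Xb k K X).Modules}
    (ι : F ⟶ (Scheme.Modules.pullback (gb k K X)).obj E) [Mono ι] (hF : Coh.IsCoh F) :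
    ∃ (A : Subalgebra k K) (_ : A.FG) (h : Xb k K X ⟶ Xb k A X),
      IsPullback h (Xb k K X ↘ Spec (CommRingCat.of K)) (Xb k A X ↘ Spec (CommRingCat.of A))
        (Spec.map (CommRingCat.ofHom (algebraMap A K))) ∧ h ≫ gb k A X = gb k K X ∧
      ∃ (G : (Xb k A X).Modules) (κ : G ⟶ (Scheme.Modules.pullback (gb k A X)).obj E),
        Mono κ ∧ Coh.IsCoh G ∧ Nonempty ((Scheme.Modules.pullback h).obj G ≅ F) := by
  classical
  haveI : Coh.IsQCoh E := hE.1
  haveI : IsLocallyNoetherian X := Basic.locallyNoetherian (k := k)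
  haveI : CompactSpace X := QuasiCompact.compactSpace_of_compactSpace (X ↘ Spec (CommRingCat.of k))
  haveI : IsLocallyNoetherian (Xb k K X) :=
    Basic.locallyNoetherian (k := K) (X := Xb k K X)
  obtain ⟨S, hS⟩ := isCompact_univ.elim_finite_subcover (fun V : X.affineOpens => (V.1 : Set X))
    (fun V => V.1.2) fun x _ => by
      obtain ⟨_, ⟨V, hV, rfl⟩, hxV, -⟩ :=
        X.isBasis_affineOpens.exists_subset_of_mem_open (Set.mem_univ x) isOpen_univ
      exact Set.mem_iUnion.2 ⟨⟨V, hV⟩, hxV⟩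
  -- generators and their coefficients
  have hfin : ∀ U : X.affineOpens, ∃ s : Finset Γ(F, gb k K X ⁻¹ᵁ U.1),
      Submodule.span Γ(Xb k K X, gb k K X ⁻¹ᵁ U.1) (s : Set Γ(F, gb k K X ⁻¹ᵁ U.1)) = ⊤ := fun U =>
    (Groth.L20.ModStalk.finite_sections _ hF (U.2.preimage (gb k K X))).fg_top
  choose gen hgen using hfin
  choose t ht using fun (U : X.affineOpens) (s : Γ(F, gb k K X ⁻¹ᵁ U.1)) =>
    exists_coeff E U.2 (ι.app _ s)
  let cs : Finset K := S.biUnion fun U => (gen U).biUnion fun s => (t U s).image Prod.fst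
  let A : Subalgebra k K := Algebra.adjoin k (cs : Set K)
  have hAfg : A.FG := ⟨cs, rfl⟩
  haveI : Algebra.FiniteType k A := A.fg_iff_finiteType.1 hAfg
  haveI : IsNoetherianRing A := Algebra.FiniteType.isNoetherianRing k A
  haveI : IsLocallyNoetherian (Xb k A X) :=
    LocallyOfFiniteType.isLocallyNoetherian (Xb k A X ↘ Spec (CommRingCat.of A))
  obtain ⟨h, hh, sq⟩ := exists_lift k X A K
  haveI : IsAffineHom h := MorphismProperty.of_isPullback (P := @IsAffineHom) sq.flip inferInstance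
  haveI : Flat h := MorphismProperty.of_isPullback (P := @Flat) sq.flip
    (HasRingHomProperty.Spec_iff.2 (RingHom.flat_algebraMap_iff.2 (flat_of_injective (B := A) (K := K) Subtype.val_injective)))
  obtain ⟨G, j, hj, hG, e⟩ := exists_descent_of_coeff (B := A) (C := K) h (gb k A X) hh sq.w hE ι hF
    (fun U : S => U.1.1) (fun U => U.1.2) (fun y => by
      obtain ⟨V, hVS, hy⟩ := Set.mem_iUnion₂.1 (hS (Set.mem_univ y))
      exact ⟨⟨V, hVS⟩, hy⟩)
    fun U => ⟨_, hgen U.1, fun s hs => ⟨t U.1 s, ht U.1 s, fun p => ⟨⟨p.1.1, Algebra.subset_adjoin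
      (Finset.mem_biUnion.2 ⟨U.1, U.2, Finset.mem_biUnion.2 ⟨s, hs, Finset.mem_image.2 ⟨p.1, p.2, rfl⟩⟩⟩)⟩, rfl⟩⟩⟩
  exact ⟨A, hAfg, h, sq, hh, G, j, hj, hG, e⟩

end Groth.L03.ShStab.Spread
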