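import Groth.Agent.L03.ShStab.PolyOrd
import Mathlib.Order.ModularLattice
import Mathlib.Order.RelSeries
import Mathlib.Order.OrderIsoNat

/-!
# Harder–Narasimhan and Jordan–Hölder theory of a lattice with a polynomial valuation
-/

open Polynomial StabCat

namespace Groth.L03.ShStab

open PolyOrd

universe u

/-- A polynomial valuation on a bounded lattice, monotone for eventual comparison, with integral
nonnegative top normalised coefficient. -/
structure StabData (Λ : Type u) [Lattice Λ] [BoundedOrder Λ] (d : ℕ) where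
  p : Λ → ℚ[X]
  modular : ∀ a b, p (a ⊓ b) + p (a ⊔ b) = p a + p b
  natDegree_le : ∀ a, (p a).natDegree ≤ d
  mono : ∀ a b, a ≤ b → PolyLE (p a) (p b)
  alpha_int : ∀ a, ∃ n : ℕ, alpha d (p a) = n

namespace StabData

variable {Λ : Type u} [Lattice Λ] [BoundedOrder Λ] {d : ℕ} (D : StabData Λ d) {a b c f g : Λ}

/-- The valuation of an interval. -/
noncomputable def q (a b : Λ) : ℚ[X] := D.p b - D.p a

/-- The multiplicity of an interval. -/
noncomputable def av (a b : Λ) : ℚ := alpha d (D.q a b)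

/-- The reduced polynomial of an interval. -/
noncomputable def r (a b : Λ) : ℚ[X] := red d (D.q a b)

/-- The multiplicity as a natural number. -/
noncomputable def ν (a : Λ) : ℕ := (D.alpha_int a).choose

theorem q_self (a : Λ) : D.q a a = 0 := sub_self _

theorem q_add (a b c : Λ) : D.q a b + D.q b c = D.q a c := by simp [q]

theorem av_self (a : Λ) : D.av a a = 0 := by simp [av, q_self, alpha]

theorem av_add (a b c : Λ) : D.av a b + D.av b c = D.av a c := by
  rw [av, av, av, ← alpha_add, q_add]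

theorem av_eq (a b : Λ) : D.av a b = (D.ν b : ℚ) - D.ν a := by
  have h1 := (D.alpha_int a).choose_spec
  have h2 := (D.alpha_int b).choose_spec
  simp only [ν, av, q]
  rw [← h1, ← h2]
  simp [alpha]; ring

theorem q_inf_sup (a b : Λ) : D.q (a ⊓ b) b = D.q a (a ⊔ b) := by
  have := D.modular a b
  simp only [q]
  linear_combination -this

theorem q_natDegree (a b : Λ) : (D.q a b).natDegree ≤ d :=
  (natDegree_sub_le _ _).trans (max_le (D.natDegree_le b) (D.natDegree_le a))

theorem q_nonneg (h : a ≤ b) : PolyLE 0 (D.q a b) := by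
  have := D.mono a b h
  rw [polyLE_iff] at this ⊢
  simpa [q] using this

theorem av_nonneg (h : a ≤ b) : 0 ≤ D.av a b := by
  have := coeff_le_of_polyLE (P := 0) (by simp) (D.q_natDegree a b) (D.q_nonneg h)
  exact alpha_nonneg_iff.2 (by simpa using this)

theorem ν_mono (h : a ≤ b) : D.ν a ≤ D.ν b := by
  have := D.av_nonneg h
  rw [av_eq, sub_nonneg] at this
  exact_mod_cast this

theorem ν_lt_of_av_pos (h : 0 < D.av a b) : D.ν a < D.ν b := by
  rw [av_eq, sub_pos] at h
  exact_mod_cast h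

theorem smul_r (h : D.av a b ≠ 0) : D.av a b • D.r a b = D.q a b := smul_red h

theorem q_le_smul_iff (h : 0 < D.av a b) {R : ℚ[X]} :
    PolyLE (D.q a b) (D.av a b • R) ↔ PolyLE (D.r a b) R := by
  conv_lhs => rw [← D.smul_r h.ne']
  exact polyLE_smul_iff h

theorem smul_le_q_iff (h : 0 < D.av a b) {R : ℚ[X]} :
    PolyLE (D.av a b • R) (D.q a b) ↔ PolyLE R (D.r a b) := by
  conv_lhs => rw [← D.smul_r h.ne']
  exact polyLE_smul_iff h

/-- A larger interval with the same multiplicity has at least the reduced polynomial. -/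
theorem r_le_of_av_eq (hbc : b ≤ c) (h : 0 < D.av a b) (he : D.av a b = D.av a c) :
    PolyLE (D.r a b) (D.r a c) := by
  rw [← polyLE_smul_iff h]
  conv_rhs => rw [he]
  rw [D.smul_r h.ne', D.smul_r (he ▸ h).ne', ← D.q_add a b c]
  simpa using polyLE_add (polyLE_refl (D.q a b)) (D.q_nonneg hbc)

/-- Every nontrivial initial subinterval has positive multiplicity. -/
def IPure (a b : Λ) : Prop := ∀ c, a < c → c ≤ b → 0 < D.av a c

/-- The interval is semistable. -/
def ISS (a b : Λ) : Prop :=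
  a < b ∧ D.IPure a b ∧ ∀ c, a < c → c < b → RedLE d (D.q a c) (D.q a b)

/-- The interval is stable. -/
def ISt (a b : Λ) : Prop :=
  a < b ∧ D.IPure a b ∧ ∀ c, a < c → c < b → RedLT d (D.q a c) (D.q a b)

variable {D}

theorem ISt.iss (h : D.ISt a b) : D.ISS a b :=
  ⟨h.1, h.2.1, fun c h1 h2 => polyLE_of_lt (h.2.2 c h1 h2)⟩

theorem ISS.av_pos (h : D.ISS a b) : 0 < D.av a b := h.2.1 b h.1 le_rfl

/-- Semistability in additive form. -/
theorem ISS.le_smul (h : D.ISS a b) (hac : a ≤ c) (hcb : c ≤ b) :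
    PolyLE (D.q a c) (D.av a c • D.r a b) := by
  rcases hac.eq_or_lt with rfl | hac
  · simp [q_self, av_self, polyLE_refl]
  rw [D.q_le_smul_iff (h.2.1 c hac hcb)]
  rcases hcb.eq_or_lt with rfl | hcb'
  · exact polyLE_refl _
  · exact (redLE_iff (h.2.1 c hac hcb) h.av_pos).1 (h.2.2 c hac hcb')

theorem ISS.smul_le (h : D.ISS a b) (hac : a ≤ c) (hcb : c ≤ b) :
    PolyLE (D.av c b • D.r a b) (D.q c b) := by
  have h1 := h.le_smul hac hcb
  have e : D.q c b - D.av c b • D.r a b = D.av a c • D.r a b - D.q a c := by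
    have e1 := D.smul_r h.av_pos.ne'
    rw [← D.av_add a c b, ← D.q_add a c b, add_smul] at e1
    linear_combination -e1
  rw [polyLE_iff] at h1 ⊢
  rwa [e]

variable (D)

/-- `f` is the maximal destabilising element over `a`. -/
def IsMD (a f : Λ) : Prop :=
  a < f ∧ ∀ g, a < g → 0 < D.av a g ∧ PolyLE (D.r a g) (D.r a f) ∧ (D.r a g = D.r a f → g ≤ f)

variable {D}

theorem IsMD.unique {f' : Λ} (h : D.IsMD a f) (h' : D.IsMD a f') : f = f' := by
  obtain ⟨-, h1, h2⟩ := h.2 f' h'.1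
  obtain ⟨-, h1', h2'⟩ := h'.2 f h.1
  have e := polyLE_antisymm h1 h1'
  exact le_antisymm (h2' e.symm) (h2 e)

theorem IsMD.iss (h : D.IsMD a f) : D.ISS a f :=
  ⟨h.1, fun c hc _ => (h.2 c hc).1,
    fun c hc _ => (redLE_iff (h.2 c hc).1 (h.2 f h.1).1).2 (h.2 c hc).2.1⟩

theorem IsMD.iPure_top (h : D.IsMD a f) : D.IPure f ⊤ := by
  intro c hfc _
  refine lt_of_le_of_ne (D.av_nonneg hfc.le) fun h0 => ?_
  obtain ⟨-, h1, h2⟩ := h.2 c (h.1.trans hfc)
  have he : D.av a f = D.av a c := by rw [← D.av_add a f c, ← h0, add_zero]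
  exact hfc.not_ge (h2 (polyLE_antisymm h1 (D.r_le_of_av_eq hfc.le (h.2 f h.1).1 he)))

variable [WellFoundedGT Λ]

theorem exists_isMD (ha : a < ⊤) (hp : D.IPure a ⊤) : ∃ f, D.IsMD a f := by
  classical
  have pos : ∀ {g}, a < g → 0 < D.av a g := fun {g} hg => hp g hg le_top
  let IsMx : Λ → Prop := fun g => a < g ∧ ∀ g', g < g' → PolyLT (D.r a g') (D.r a g)
  have above : ∀ g, a < g → ∃ g', g ≤ g' ∧ PolyLE (D.r a g) (D.r a g') ∧ IsMx g' := by
    intro g
    induction g using WellFoundedGT.induction with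
    | ind g ih =>
      intro hg
      by_cases hM : IsMx g
      · exact ⟨g, le_rfl, polyLE_refl _, hM⟩
      · obtain ⟨g', hg', hle⟩ : ∃ g', g < g' ∧ PolyLE (D.r a g) (D.r a g') := by
          by_contra hc
          push Not at hc
          exact hM ⟨hg, fun g' hg' => not_polyLE_iff.1 (hc g' hg')⟩
        obtain ⟨g'', h1, h2, h3⟩ := ih g' hg' (hg.trans hg')
        exact ⟨g'', hg'.le.trans h1, polyLE_trans hle h2, h3⟩
  have hex : ∃ n, ∃ f, IsMx f ∧ D.ν f = n :=
    let ⟨f, _, _, hf⟩ := above ⊤ ha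
    ⟨_, f, hf, rfl⟩
  obtain ⟨f, hf, hνf⟩ := Nat.find_spec hex
  have hmin : ∀ g, IsMx g → D.ν f ≤ D.ν g := fun g hg => hνf ▸ Nat.find_min' hex ⟨g, hg, rfl⟩
  have core : ∀ g, a < g → ¬ g ≤ f → PolyLE (D.r a f) (D.r a g) →
      a < f ⊓ g ∧ PolyLT (D.r a g) (D.r a (f ⊓ g)) := by
    intro g hg hgf hle
    have hs : f < f ⊔ g := left_lt_sup.2 hgf
    have hlt := hf.2 _ hs
    have hafg : a ≤ f ⊓ g := le_inf hf.1.le hg.le
    have hsum : D.q a (f ⊔ g) = D.q a f + D.q (f ⊓ g) g := by rw [D.q_inf_sup, D.q_add]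
    rcases (D.av_nonneg (inf_le_right (a := f) (b := g))).eq_or_lt with h0 | h0
    · exfalso
      refine not_polyLE_iff.2 hlt (D.r_le_of_av_eq le_sup_left (pos hf.1) ?_)
      simp only [av] at h0 ⊢
      rw [hsum, alpha_add, ← h0, add_zero]
    have key : ∀ {P Q : ℚ[X]}, 0 < alpha d P → 0 < alpha d Q → PolyLE (red d P) (red d Q) →
        PolyLE (red d P) (red d (P + Q)) := fun {P Q} hP hQ h => by
      refine not_polyLT_iff.1 fun h' => ?_
      exact not_polyLE_iff.2 (polyLT_of_lt_of_le (red_gt_rest hP hQ h') (polyLE_of_lt h')) h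
    have hR : ¬ PolyLE (D.r a g) (red d (D.q (f ⊓ g) g)) := fun h => by
      have h' := key (P := D.q a f) (pos hf.1) h0 (polyLE_trans hle h)
      rw [← hsum] at h'
      exact not_polyLE_iff.2 hlt h'
    rcases hafg.eq_or_lt with he | he
    · exact absurd (by rw [← he]; exact polyLE_refl _) hR
    refine ⟨he, not_polyLE_iff.1 fun h => hR ?_⟩
    have h' := red_le_rest (P := D.q a (f ⊓ g)) (Q := D.q (f ⊓ g) g) (pos he) h0 (by rwa [D.q_add])
    rwa [D.q_add] at h'
  have claim : ∀ g, a < g → ¬ PolyLT (D.r a f) (D.r a g) := by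
    intro g₀ hg₀ hlt₀
    let S : Set Λ := {g | a < g ∧ g ≤ f ∧ PolyLT (D.r a f) (D.r a g)}
    have hS : S.Nonempty := by
      by_cases h : g₀ ≤ f
      · exact ⟨g₀, hg₀, h, hlt₀⟩
      · obtain ⟨h1, h2⟩ := core g₀ hg₀ h (polyLE_of_lt hlt₀)
        exact ⟨f ⊓ g₀, h1, inf_le_left, polyLT_of_lt_of_le hlt₀ (polyLE_of_lt h2)⟩
    obtain ⟨g, ⟨hg, hgf, hlt⟩, hgmax⟩ := (wellFounded_gt (α := Λ)).has_min S hS
    obtain ⟨g', hgg', hle, hMx⟩ := above g hg
    have hlt' : PolyLT (D.r a f) (D.r a g') := polyLT_of_lt_of_le hlt hle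
    by_cases h : g' ≤ f
    · have hν := le_antisymm (hmin g' hMx) (D.ν_mono h)
      refine not_polyLE_iff.2 hlt' (D.r_le_of_av_eq h (pos hMx.1) ?_)
      rw [D.av_eq, D.av_eq, hν]
    · obtain ⟨h1, h2⟩ := core g' hMx.1 h (polyLE_of_lt hlt')
      have hge : g ≤ f ⊓ g' := le_inf hgf hgg'
      have hne : g ≠ f ⊓ g' := fun e => ne_of_polyLT (polyLT_of_le_of_lt hle h2) (congrArg (D.r a) e)
      exact hgmax (f ⊓ g') ⟨h1, inf_le_left, polyLT_of_lt_of_le hlt' (polyLE_of_lt h2)⟩
        (lt_of_le_of_ne hge hne)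
  refine ⟨f, hf.1, fun g hg => ⟨pos hg, not_polyLT_iff.1 (claim g hg), fun he => ?_⟩⟩
  by_contra h
  obtain ⟨h1, h2⟩ := core g hg h (he ▸ polyLE_refl _)
  exact claim _ h1 (he ▸ h2)

/-- Consecutive maximal destabilising elements have decreasing slopes. -/
theorem IsMD.redLT_next (h : D.IsMD a f) {c : Λ} (hfc : f < c) :
    RedLT d (D.q f c) (D.q a f) := by
  have hαf := (h.2 f h.1).1
  obtain ⟨hαc, h1, h2⟩ := h.2 c (h.1.trans hfc)
  have hlt : PolyLT (D.r a c) (D.r a f) :=
    not_polyLE_iff.1 fun h' => hfc.not_ge (h2 (polyLE_antisymm h1 h'))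
  have hα : 0 < D.av f c := h.iPure_top c hfc le_top
  have h' : PolyLT (red d (D.q a f + D.q f c)) (red d (D.q a f)) := by rwa [D.q_add]
  exact (redLT_iff hα hαf).2 (polyLT_of_lt_of_le (red_gt_rest hαf hα h') (polyLE_of_lt h'))

variable (D)

/-- `s` is a Harder–Narasimhan series from `a` to the top. -/
def IsHN (a : Λ) (s : LTSeries Λ) : Prop :=
  s.head = a ∧ s.last = ⊤ ∧ (∀ i : Fin s.length, D.ISS (s i.castSucc) (s i.succ)) ∧
    ∀ i j : Fin s.length, i.val + 1 = j.val →
      RedLT d (D.q (s j.castSucc) (s j.succ)) (D.q (s i.castSucc) (s i.succ))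

variable {D}

theorem exists_isHN (a : Λ) (hp : D.IPure a ⊤) : ∃ s, D.IsHN a s := by
  suffices ∀ n, ∀ a, D.ν ⊤ - D.ν a = n → D.IPure a ⊤ →
      ∃ s, D.IsHN a s ∧ (a < ⊤ → ∃ f, D.IsMD a f ∧ ∀ i : Fin s.length, i.val = 0 → s i.succ = f) by
    obtain ⟨s, hs, -⟩ := this _ a rfl hp
    exact ⟨s, hs⟩
  intro n
  induction n using Nat.strong_induction_on with
  | _ n ih =>
    intro a hn hp
    by_cases ha : a = ⊤
    · subst ha
      exact ⟨RelSeries.singleton _ ⊤, ⟨rfl, rfl, fun i => i.elim0, fun i => i.elim0⟩,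
        fun h => absurd h (lt_irrefl _)⟩
    obtain ⟨f, hf⟩ := exists_isMD (lt_top_iff_ne_top.2 ha) hp
    have hlt : D.ν ⊤ - D.ν f < n := by
      have h1 := D.ν_lt_of_av_pos (hf.2 f hf.1).1
      have h2 := D.ν_mono (le_top : f ≤ ⊤)
      omega
    obtain ⟨t, ⟨ht0, ht1, ht2, ht3⟩, htf⟩ := ih _ hlt f rfl hf.iPure_top
    let s : LTSeries Λ :=
      { length := t.length + 1
        toFun := Fin.cons a t.toFun
        step := Fin.cases (by
            change Fin.cons (α := fun _ => Λ) a t.toFun 0 < Fin.cons (α := fun _ => Λ) a t.toFun _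
            rw [Fin.cons_zero, Fin.cons_succ]
            exact lt_of_lt_of_eq hf.1 ht0.symm) fun i => by
            change Fin.cons (α := fun _ => Λ) a t.toFun i.succ.castSucc <
              Fin.cons (α := fun _ => Λ) a t.toFun i.succ.succ
            rw [← Fin.succ_castSucc, Fin.cons_succ, Fin.cons_succ]
            exact t.step i }
    have hs : ∀ i : Fin (t.length + 1), s i.succ = t i := fun i =>
      Fin.cons_succ (α := fun _ => Λ) a t.toFun i
    have hs0 : s 0 = a := rfl
    have hlast : s.last = ⊤ := (hs (Fin.last _)).trans ht1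
    refine ⟨s, ⟨hs0, hlast, fun i => ?_, fun i j hij => ?_⟩, fun _ => ⟨f, hf, fun i hi => ?_⟩⟩
    · obtain ⟨i, hi⟩ := i
      have hi' : i < t.length + 1 := by simpa [s] using hi
      cases i with
      | zero =>
        have e1 : s (Fin.mk 0 hi).succ = t 0 := hs 0
        have e2 : s (Fin.mk 0 hi).castSucc = a := hs0
        rw [e1, e2]
        exact (show t 0 = f from ht0) ▸ hf.iss
      | succ i =>
        have e1 : s (Fin.mk (i + 1) hi).succ = t ⟨i + 1, by omega⟩ := hs ⟨i + 1, by omega⟩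
        have e2 : s (Fin.mk (i + 1) hi).castSucc = t ⟨i, by omega⟩ := hs ⟨i, by omega⟩
        rw [e1, e2]
        exact ht2 ⟨i, by omega⟩
    · obtain ⟨i, hi⟩ := i
      obtain ⟨j, hj⟩ := j
      simp only at hij
      subst hij
      have hj' : i + 1 < t.length + 1 := by simpa [s] using hj
      have e1 : s (Fin.mk (i + 1) hj).succ = t ⟨i + 1, by omega⟩ := hs ⟨i + 1, by omega⟩
      have e2 : s (Fin.mk (i + 1) hj).castSucc = t ⟨i, by omega⟩ := hs ⟨i, by omega⟩
      rw [e1, e2]
      cases i with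
      | zero =>
        have e3 : s (Fin.mk 0 hi).succ = t 0 := hs 0
        have e4 : s (Fin.mk 0 hi).castSucc = a := hs0
        rw [e3, e4]
        have htf0 : t (⟨0, by omega⟩ : Fin (t.length + 1)) = f := ht0
        have ht0' : t 0 = f := ht0
        rw [htf0, ht0']
        refine hf.redLT_next (lt_of_lt_of_eq ((ht2 ⟨0, by omega⟩).1) rfl |>.trans_le' ?_)
        exact htf0.ge
      | succ i =>
        have e3 : s (Fin.mk (i + 1) hi).succ = t ⟨i + 1, by omega⟩ := hs ⟨i + 1, by omega⟩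
        have e4 : s (Fin.mk (i + 1) hi).castSucc = t ⟨i, by omega⟩ := hs ⟨i, by omega⟩
        rw [e3, e4]
        exact ht3 ⟨i, by omega⟩ ⟨i + 1, by omega⟩ rfl
    · obtain ⟨i, hlt'⟩ := i
      simp only at hi
      subst hi
      exact (hs 0).trans ht0

omit [WellFoundedGT Λ] in
/-- The bound along a Harder–Narasimhan series. -/
theorem IsHN.bound {s : LTSeries Λ} (hs : D.IsHN a s) (i : Fin s.length) (g : Λ)
    (hg : s i.castSucc ≤ g) (j : Fin (s.length + 1)) (hij : i.val + 1 ≤ j.val) :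
    PolyLE (D.q (s i.castSucc) (g ⊓ s j)) (D.av (s i.castSucc) (g ⊓ s j) • D.r (s i.castSucc) (s i.succ)) ∧
      (¬ g ⊓ s j ≤ s i.succ → PolyLT (D.q (s i.castSucc) (g ⊓ s j))
        (D.av (s i.castSucc) (g ⊓ s j) • D.r (s i.castSucc) (s i.succ))) ∧
      (s i.castSucc < g ⊓ s j → 0 < D.av (s i.castSucc) (g ⊓ s j)) := by
  obtain ⟨-, -, h2, h3⟩ := hs
  set x := s i.castSucc
  set R := D.r x (s i.succ) with hR
  have slope : ∀ m : Fin s.length, i < m → PolyLT (D.r (s m.castSucc) (s m.succ)) R := by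
    intro m
    obtain ⟨m, hm⟩ := m
    induction m with
    | zero => exact fun h => absurd h (by simp [Fin.lt_def])
    | succ m ihm =>
      intro h
      have step := (redLT_iff (h2 ⟨m + 1, hm⟩).av_pos (h2 ⟨m, by omega⟩).av_pos).1
        (h3 ⟨m, by omega⟩ ⟨m + 1, hm⟩ rfl)
      rcases (Nat.le_of_lt_succ (show i.val < m + 1 from h)).eq_or_lt with he | he
      · have : (⟨m, by omega⟩ : Fin s.length) = i := Fin.ext he.symm
        rw [this] at step
        exact step
      · exact polyLT_of_lt_of_le step (polyLE_of_lt (ihm (by omega) he))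
  obtain ⟨j, hj⟩ := j
  obtain ⟨m, rfl⟩ : ∃ m, j = i.val + 1 + m := ⟨j - (i.val + 1), by simp at hij; omega⟩
  clear hij
  induction m with
  | zero =>
    have hs' : s ⟨i.val + 1 + 0, hj⟩ = s i.succ := rfl
    rw [hs']
    refine ⟨(h2 i).le_smul (le_inf hg ((h2 i).1).le) inf_le_right, fun h => absurd inf_le_right h,
      fun h => (h2 i).2.1 _ h inf_le_right⟩
  | succ m ihm =>
    obtain ⟨ihle, ihlt, ihpos⟩ := ihm (by omega)
    let M : Fin s.length := ⟨i.val + 1 + m, by omega⟩
    have hsM : s ⟨i.val + 1 + m, by omega⟩ = s M.castSucc := rfl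
    have hsM' : s ⟨i.val + 1 + (m + 1), hj⟩ = s M.succ := rfl
    rw [hsM] at ihle ihlt ihpos
    rw [hsM']
    have hMi : i < M := show i.val < i.val + 1 + m by omega
    have hMle : s M.castSucc ≤ s M.succ := ((h2 M).1).le
    have hxM : x ≤ s M.castSucc := s.monotone (show i.castSucc ≤ M.castSucc from hMi.le)
    set y := g ⊓ s M.castSucc with hy
    set z := g ⊓ s M.succ with hz
    have hyz : y ≤ z := inf_le_inf_left _ hMle
    have hinf : s M.castSucc ⊓ z = y := by
      rw [hy, hz, ← inf_assoc, inf_comm _ g, inf_assoc, inf_eq_left.2 hMle]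
    set c := s M.castSucc ⊔ z with hc
    have hqc : D.q y z = D.q (s M.castSucc) c := by rw [← hinf, D.q_inf_sup]
    have hac : D.av y z = D.av (s M.castSucc) c := by simp only [av, hqc]
    have h4 := (h2 M).le_smul (c := c) le_sup_left (sup_le hMle inf_le_right)
    by_cases hceq : c = s M.castSucc
    · have hzy : z = y := by rw [← hinf, inf_eq_right.2 ((le_sup_right).trans hceq.le)]
      rw [hzy]
      exact ⟨ihle, ihlt, ihpos⟩
    have hclt : s M.castSucc < c := lt_of_le_of_ne le_sup_left (Ne.symm hceq)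
    have hα : 0 < D.av (s M.castSucc) c := (h2 M).2.1 c hclt (sup_le hMle inf_le_right)
    have hpiece : PolyLT (D.q y z) (D.av y z • R) := by
      rw [hqc, hac]
      exact polyLT_of_le_of_lt h4 (polyLT_smul hα (slope M hMi))
    have hsum : PolyLT (D.q x z) (D.av x z • R) := by
      rw [← D.q_add x y z, ← D.av_add x y z, add_smul, add_comm (D.q x y), add_comm (D.av x y • R)]
      exact polyLT_add hpiece ihle
    refine ⟨polyLE_of_lt hsum, fun _ => hsum, fun _ => ?_⟩
    rw [← D.av_add x y z, hac]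
    exact add_pos_of_nonneg_of_pos (D.av_nonneg (le_inf hg hxM)) hα

omit [WellFoundedGT Λ] in
theorem IsHN.isMD {s : LTSeries Λ} (hs : D.IsHN a s) (i : Fin s.length) :
    D.IsMD (s i.castSucc) (s i.succ) := by
  obtain ⟨-, h1, h2, -⟩ := id hs
  refine ⟨(h2 i).1, fun g hg => ?_⟩
  obtain ⟨hle, hlt, hpos⟩ := hs.bound i g hg.le (Fin.last _) (by simpa using Nat.succ_le_of_lt i.2)
  have : g ⊓ s (Fin.last _) = g := by rw [show s (Fin.last _) = ⊤ from h1, inf_top_eq]
  rw [this] at hle hlt hpos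
  refine ⟨hpos hg, (D.q_le_smul_iff (hpos hg)).1 hle, fun he => ?_⟩
  by_contra h
  have := hlt h
  rw [← he, D.smul_r (hpos hg).ne'] at this
  exact polyLT_irrefl _ this

omit [WellFoundedGT Λ] in
theorem IsHN.eq {s t : LTSeries Λ} (hs : D.IsHN a s) (ht : D.IsHN a t) : s = t := by
  have key : ∀ n (h : n ≤ s.length) (h' : n ≤ t.length), s ⟨n, by omega⟩ = t ⟨n, by omega⟩ := by
    intro n
    induction n with
    | zero => intro _ _; exact hs.1.trans ht.1.symm
    | succ n ih =>
      intro h h'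
      have e : s (Fin.castSucc ⟨n, h⟩) = t (Fin.castSucc ⟨n, h'⟩) := ih (by omega) (by omega)
      have := hs.isMD ⟨n, h⟩
      rw [e] at this
      exact this.unique (ht.isMD ⟨n, h'⟩)
  have hlen : s.length = t.length := by
    rcases lt_trichotomy s.length t.length with h | h | h
    · have e := key s.length le_rfl h.le
      rw [show s ⟨s.length, by omega⟩ = ⊤ from hs.2.1] at e
      exact absurd (ht.2.2.1 ⟨s.length, h⟩).1 (by
        rw [show t (Fin.castSucc ⟨s.length, h⟩) = ⊤ from e.symm]; exact not_top_lt)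
    · exact h
    · have e := key t.length h.le le_rfl
      rw [show t ⟨t.length, by omega⟩ = ⊤ from ht.2.1] at e
      exact absurd (hs.2.2.1 ⟨t.length, h⟩).1 (by
        rw [show s (Fin.castSucc ⟨t.length, h⟩) = ⊤ from e]; exact not_top_lt)
  refine RelSeries.ext hlen (funext fun i => ?_)
  obtain ⟨i, hi⟩ := i
  exact key i (by omega) (by omega)

theorem existsUnique_isHN (a : Λ) (hp : D.IPure a ⊤) : ∃! s, D.IsHN a s :=
  let ⟨s, hs⟩ := exists_isHN a hp
  ⟨s, hs, fun _ ht => ht.eq hs⟩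

omit [WellFoundedGT Λ] in
/-- The slopes decrease. -/
theorem IsHN.slope_le {s : LTSeries Λ} (hs : D.IsHN a s) {i j : Fin s.length} (hij : i ≤ j) :
    PolyLE (D.r (s j.castSucc) (s j.succ)) (D.r (s i.castSucc) (s i.succ)) := by
  obtain ⟨j, hj⟩ := j
  induction j with
  | zero =>
    rw [show i = ⟨0, hj⟩ from Fin.ext (Nat.le_zero.1 hij)]
    exact polyLE_refl _
  | succ m ih =>
    rcases (show i.val ≤ m + 1 from hij).eq_or_lt with he | he
    · rw [show i = ⟨m + 1, hj⟩ from Fin.ext he]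
      exact polyLE_refl _
    · refine polyLE_trans (polyLE_of_lt ?_) (ih (by omega) (Nat.le_of_lt_succ he))
      exact (redLT_iff (hs.2.2.1 _).av_pos (hs.2.2.1 _).av_pos).1
        (hs.2.2.2 ⟨m, by omega⟩ ⟨m + 1, hj⟩ rfl)

omit [WellFoundedGT Λ] in
theorem IsHN.slope_lt {s : LTSeries Λ} (hs : D.IsHN a s) {i j : Fin s.length} (hij : i.val < j.val) :
    PolyLT (D.r (s j.castSucc) (s j.succ)) (D.r (s i.castSucc) (s i.succ)) := by
  have hj := j.isLt
  let j' : Fin s.length := ⟨j.val - 1, by omega⟩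
  have h1 : PolyLT (D.r (s j.castSucc) (s j.succ)) (D.r (s j'.castSucc) (s j'.succ)) :=
    (redLT_iff (hs.2.2.1 _).av_pos (hs.2.2.1 _).av_pos).1
      (hs.2.2.2 j' j (by simp [j']; omega))
  exact polyLT_of_lt_of_le h1 (hs.slope_le (show i ≤ j' from Fin.le_def.2 (by simp [j']; omega)))

omit [WellFoundedGT Λ] in
/-- Images of the steps are bounded below by the slopes. -/
theorem IsHN.smul_le_sup {s : LTSeries Λ} (hs : D.IsHN a s) {R : ℚ[X]} {k : Λ} (hk : a ≤ k)
    (m : ℕ) (h : m ≤ s.length)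
    (hR : ∀ i : Fin s.length, i.val < m → PolyLE R (D.r (s i.castSucc) (s i.succ))) :
    PolyLE (D.av k (k ⊔ s ⟨m, by omega⟩) • R) (D.q k (k ⊔ s ⟨m, by omega⟩)) := by
  obtain ⟨h0, -, h2, -⟩ := hs
  induction m with
  | zero =>
    rw [show s ⟨0, by omega⟩ = a from h0, sup_eq_left.2 hk, q_self, av_self, zero_smul]
    exact polyLE_refl _
  | succ m ih =>
    let M : Fin s.length := ⟨m, by omega⟩
    have hle : s M.castSucc ≤ s M.succ := (h2 M).1.le
    change PolyLE (D.av k (k ⊔ s M.succ) • R) (D.q k (k ⊔ s M.succ))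
    have ih' : PolyLE (D.av k (k ⊔ s M.castSucc) • R) (D.q k (k ⊔ s M.castSucc)) :=
      ih (by omega) fun i hi => hR i (by omega)
    set y := k ⊔ s M.castSucc
    set z := k ⊔ s M.succ with hz
    set c := y ⊓ s M.succ
    have hq : D.q y z = D.q c (s M.succ) := by
      rw [show z = y ⊔ s M.succ by rw [hz, sup_assoc, sup_eq_right.2 hle], ← D.q_inf_sup]
    have h4 := (h2 M).smul_le (c := c) (le_inf le_sup_right hle) inf_le_right
    have h5 : PolyLE (D.av c (s M.succ) • R) (D.q c (s M.succ)) :=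
      polyLE_trans (polyLE_smul (D.av_nonneg inf_le_right) (hR M (by simp [M]))) h4
    have hav : D.av y z = D.av c (s M.succ) := by simp only [av, hq]
    rw [← D.q_add k y z, ← D.av_add k y z, add_smul, hq, hav]
    exact polyLE_add ih' h5

omit [WellFoundedGT Λ] in
/-- Quotients of the top are bounded below by the last slope. -/
theorem IsHN.smul_le_top {s : LTSeries Λ} (hs : D.IsHN a s) {R : ℚ[X]}
    (hR : ∀ i : Fin s.length, PolyLE R (D.r (s i.castSucc) (s i.succ))) {k : Λ} (hk : a ≤ k) :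
    PolyLE (D.av k ⊤ • R) (D.q k ⊤) := by
  have := hs.smul_le_sup hk s.length le_rfl fun i _ => hR i
  rwa [show s ⟨s.length, by omega⟩ = ⊤ from hs.2.1, sup_top_eq] at this

omit [WellFoundedGT Λ] in
/-- Rigidity: a pure quotient with the multiplicity and slope of the last factor is the last factor. -/
theorem IsHN.eq_of_last {s : LTSeries Λ} (hs : D.IsHN a s) (l : Fin s.length) (hl : l.val + 1 = s.length)
    {c : Λ} (hac : a ≤ c) (hc : D.IPure c ⊤) (hα : D.av c ⊤ = D.av (s l.castSucc) (s l.succ))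
    (hr : D.r c ⊤ = D.r (s l.castSucc) (s l.succ)) : c = s l.castSucc := by
  obtain ⟨h0, h1, h2, -⟩ := id hs
  have hlast : s l.succ = ⊤ := by
    rw [← h1]; exact congrArg s (Fin.ext (by simp [hl]))
  rw [hlast] at hα hr
  set e := s l.castSucc with he'
  set R := D.r e ⊤ with hR
  have hαe : 0 < D.av e ⊤ := hlast ▸ (h2 l).av_pos
  have key : c ⊔ e = c := by
    by_contra hne
    have hlt : c < c ⊔ e := lt_of_le_of_ne le_sup_left (Ne.symm hne)
    have hpos : 0 < D.av c (c ⊔ e) := hc _ hlt le_top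
    have hl0 : 0 < l.val := by
      by_contra h'
      have hl' : l.val = 0 := by omega
      refine hne ?_
      rw [he', show l.castSucc = 0 from Fin.ext hl', show s 0 = a from h0, sup_eq_left.2 hac]
    let l' : Fin s.length := ⟨l.val - 1, by omega⟩
    have e1 := hs.smul_le_sup (R := D.r (s l'.castSucc) (s l'.succ)) hac l.val (by omega)
      (fun i hi => hs.slope_le (Fin.le_def.2 (by simp [l']; omega)))
    have hRR : PolyLT R (D.r (s l'.castSucc) (s l'.succ)) := by
      have := hs.slope_lt (i := l') (j := l) (by simp [l']; omega)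
      rwa [hlast] at this
    have e2 : PolyLE (D.av (c ⊔ e) ⊤ • R) (D.q (c ⊔ e) ⊤) := hs.smul_le_top (fun i => by
      have := hs.slope_le (i := i) (j := l) (Fin.le_def.2 (by omega))
      rwa [hlast] at this) (hac.trans le_sup_left)
    have e3 : PolyLT (D.av c (c ⊔ e) • R) (D.q c (c ⊔ e)) :=
      polyLT_of_lt_of_le (polyLT_smul hpos hRR) e1
    have e4 := polyLT_add e3 e2
    rw [← add_smul, D.av_add, D.q_add, ← hr, D.smul_r (hα ▸ hαe).ne'] at e4
    exact polyLT_irrefl _ e4
  rcases (sup_eq_left.1 key).eq_or_lt with h | h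
  · exact h.symm
  · have hp : 0 < D.av e c := by
      have := (h2 l).2.1 c h (by rw [hlast]; exact le_top)
      exact this
    have := D.av_add e c ⊤
    linarith

/-- Saturation. -/
theorem exists_saturation (a : Λ) : ∃ c, a ≤ c ∧ D.av a c = 0 ∧ D.IPure c ⊤ := by
  obtain ⟨c, ⟨hc, hc0⟩, hmax⟩ := (wellFounded_gt (α := Λ)).has_min {c | a ≤ c ∧ D.av a c = 0}
    ⟨a, le_rfl, D.av_self a⟩
  refine ⟨c, hc, hc0, fun g hg _ => lt_of_le_of_ne (D.av_nonneg hg.le) fun h => hmax g
    ⟨hc.trans hg.le, by rw [← D.av_add a c g, hc0, ← h, add_zero]⟩ hg⟩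

end StabData

end Groth.L03.ShStab
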